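import Mathlib

/-!
# The (2,3,5) triangle group and its double cover
-/

namespace Cfsg.Agent.Recog.Icosahedral

/-- Coset enumeration: the orbit of a point fixed by `b` has at most twelve points. -/
theorem exists_orbit_finset {G X : Type*} [Group G] [MulAction G X] [DecidableEq X] {a b : G}
    (ra : ∀ x : X, a • a • a • x = x) (rb : ∀ x : X, b • b • b • b • b • x = x)
    (rab : ∀ x : X, a • b • a • b • x = x) {c0 : X} (hb : b • c0 = c0) :
    ∃ S : Finset X, c0 ∈ S ∧ S.card ≤ 12 ∧ ∀ x ∈ S, a • x ∈ S ∧ b • x ∈ S := by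
  have eb0 : b • c0 = c0 := hb
  obtain ⟨c1, ea0⟩ : ∃ x, a • c0 = x := ⟨_, rfl⟩
  obtain ⟨c2, ea1⟩ : ∃ x, a • c1 = x := ⟨_, rfl⟩
  have ea2 : a • c2 = c0 := by
    have h := ra c0
    rw [ea0, ea1] at h
    exact h
  have eb1 : b • c1 = c2 := by
    have h := rab c0
    rw [eb0, ea0] at h
    have hp : a • c2 = c0 := by rw [ea2]
    simpa only [smul_left_cancel_iff] using h.trans hp.symm
  obtain ⟨c3, eb2⟩ : ∃ x, b • c2 = x := ⟨_, rfl⟩
  obtain ⟨c4, ea3⟩ : ∃ x, a • c3 = x := ⟨_, rfl⟩
  have eb4 : b • c4 = c1 := by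
    have h := rab c2
    rw [eb2, ea3] at h
    have hp : a • c1 = c2 := by rw [ea1]
    simpa only [smul_left_cancel_iff] using h.trans hp.symm
  obtain ⟨c5, eb3⟩ : ∃ x, b • c3 = x := ⟨_, rfl⟩
  have eb5 : b • c5 = c4 := by
    have h := rb c1
    rw [eb1, eb2, eb3] at h
    have hp : b • c4 = c1 := by rw [eb4]
    simpa only [smul_left_cancel_iff] using h.trans hp.symm
  obtain ⟨c6, ea4⟩ : ∃ x, a • c4 = x := ⟨_, rfl⟩
  have ea6 : a • c6 = c3 := by
    have h := ra c3
    rw [ea3, ea4] at h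
    exact h
  obtain ⟨c7, ea5⟩ : ∃ x, a • c5 = x := ⟨_, rfl⟩
  have eb7 : b • c7 = c6 := by
    have h := rab c3
    rw [eb3, ea5] at h
    have hp : a • c6 = c3 := by rw [ea6]
    simpa only [smul_left_cancel_iff] using h.trans hp.symm
  obtain ⟨c8, eb6⟩ : ∃ x, b • c6 = x := ⟨_, rfl⟩
  have ea8 : a • c8 = c5 := by
    have h := rab c5
    rw [eb5, ea4, eb6] at h
    exact h
  have ea7 : a • c7 = c8 := by
    have h := ra c7
    have hp : a • a • c8 = c7 := by rw [ea8, ea5]
    simpa only [smul_left_cancel_iff] using h.trans hp.symm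
  obtain ⟨c9, eb8⟩ : ∃ x, b • c8 = x := ⟨_, rfl⟩
  obtain ⟨c10, ea9⟩ : ∃ x, a • c9 = x := ⟨_, rfl⟩
  have eb10 : b • c10 = c7 := by
    have h := rab c8
    rw [eb8, ea9] at h
    have hp : a • c7 = c8 := by rw [ea7]
    simpa only [smul_left_cancel_iff] using h.trans hp.symm
  have eb9 : b • c9 = c10 := by
    have h := rb c9
    have hp : b • b • b • b • c10 = c9 := by rw [eb10, eb7, eb6, eb8]
    simpa only [smul_left_cancel_iff] using h.trans hp.symm
  obtain ⟨c11, ea10⟩ : ∃ x, a • c10 = x := ⟨_, rfl⟩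
  have ea11 : a • c11 = c9 := by
    have h := ra c9
    rw [ea9, ea10] at h
    exact h
  have eb11 : b • c11 = c11 := by
    have h := rab c9
    rw [eb9, ea10] at h
    have hp : a • c11 = c9 := by rw [ea11]
    simpa only [smul_left_cancel_iff] using h.trans hp.symm
  refine ⟨Finset.univ.image ![c0, c1, c2, c3, c4, c5, c6, c7, c8, c9, c10, c11], Finset.mem_image.mpr ⟨0, Finset.mem_univ _, rfl⟩,
    Finset.card_image_le.trans (by simp), ?_⟩
  intro x hx
  obtain ⟨i, -, rfl⟩ := Finset.mem_image.mp hx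
  fin_cases i
  · exact ⟨Finset.mem_image.mpr ⟨1, Finset.mem_univ _, ea0.symm⟩, Finset.mem_image.mpr ⟨0, Finset.mem_univ _, eb0.symm⟩⟩
  · exact ⟨Finset.mem_image.mpr ⟨2, Finset.mem_univ _, ea1.symm⟩, Finset.mem_image.mpr ⟨2, Finset.mem_univ _, eb1.symm⟩⟩
  · exact ⟨Finset.mem_image.mpr ⟨0, Finset.mem_univ _, ea2.symm⟩, Finset.mem_image.mpr ⟨3, Finset.mem_univ _, eb2.symm⟩⟩
  · exact ⟨Finset.mem_image.mpr ⟨4, Finset.mem_univ _, ea3.symm⟩, Finset.mem_image.mpr ⟨5, Finset.mem_univ _, eb3.symm⟩⟩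
  · exact ⟨Finset.mem_image.mpr ⟨6, Finset.mem_univ _, ea4.symm⟩, Finset.mem_image.mpr ⟨1, Finset.mem_univ _, eb4.symm⟩⟩
  · exact ⟨Finset.mem_image.mpr ⟨7, Finset.mem_univ _, ea5.symm⟩, Finset.mem_image.mpr ⟨4, Finset.mem_univ _, eb5.symm⟩⟩
  · exact ⟨Finset.mem_image.mpr ⟨3, Finset.mem_univ _, ea6.symm⟩, Finset.mem_image.mpr ⟨8, Finset.mem_univ _, eb6.symm⟩⟩
  · exact ⟨Finset.mem_image.mpr ⟨8, Finset.mem_univ _, ea7.symm⟩, Finset.mem_image.mpr ⟨6, Finset.mem_univ _, eb7.symm⟩⟩
  · exact ⟨Finset.mem_image.mpr ⟨5, Finset.mem_univ _, ea8.symm⟩, Finset.mem_image.mpr ⟨9, Finset.mem_univ _, eb8.symm⟩⟩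
  · exact ⟨Finset.mem_image.mpr ⟨10, Finset.mem_univ _, ea9.symm⟩, Finset.mem_image.mpr ⟨10, Finset.mem_univ _, eb9.symm⟩⟩
  · exact ⟨Finset.mem_image.mpr ⟨11, Finset.mem_univ _, ea10.symm⟩, Finset.mem_image.mpr ⟨7, Finset.mem_univ _, eb10.symm⟩⟩
  · exact ⟨Finset.mem_image.mpr ⟨9, Finset.mem_univ _, ea11.symm⟩, Finset.mem_image.mpr ⟨11, Finset.mem_univ _, eb11.symm⟩⟩

/-- A group generated by `a`, `b` with `a ^ 3 = b ^ 5 = 1` and `(a b) ^ 2 = z` central, `z ^ k = 1`,
has order at most `60 k`. -/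
theorem card_le {G : Type*} [Group G] {a b z : G} (hgen : Subgroup.closure {a, b} = ⊤)
    (ha : a ^ 3 = 1) (hb : b ^ 5 = 1) (hab : (a * b) ^ 2 = z) (hzc : z ∈ Subgroup.center G)
    {k : ℕ} (hk : 0 < k) (hz : z ^ k = 1) : Finite G ∧ Nat.card G ≤ 60 * k := by
  classical
  have hcz : ∀ g : G, Commute g z := fun g => Subgroup.mem_center_iff.mp hzc g
  let H : Subgroup G := Subgroup.closure {b, z}
  have hbH : b ∈ H := Subgroup.subset_closure (Set.mem_insert _ _)
  have hzH : z ∈ H := Subgroup.subset_closure (Set.mem_insert_of_mem _ rfl)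
  have hzX : ∀ x : G ⧸ H, z • x = x := by
    intro x
    induction x using QuotientGroup.induction_on with
    | H g =>
      rw [MulAction.Quotient.smul_mk, smul_eq_mul, ← (hcz g).eq]
      exact QuotientGroup.mk_mul_of_mem g hzH
  have ra : ∀ x : G ⧸ H, a • a • a • x = x := fun x => by
    rw [← mul_smul, ← mul_smul, mul_assoc, ← pow_three, ha, one_smul]
  have rb : ∀ x : G ⧸ H, b • b • b • b • b • x = x := fun x => by
    simp only [← mul_smul]
    rw [show b * (b * (b * (b * b))) = b ^ 5 by simp [pow_succ, mul_assoc], hb, one_smul]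
  have rab : ∀ x : G ⧸ H, a • b • a • b • x = x := fun x => by
    simp only [← mul_smul]
    rw [show a * (b * (a * b)) = (a * b) ^ 2 by rw [pow_two, mul_assoc], hab, hzX]
  have hb0 : b • ((1 : G) : G ⧸ H) = ((1 : G) : G ⧸ H) := by
    rw [MulAction.Quotient.smul_mk, smul_eq_mul, QuotientGroup.eq]
    simpa using inv_mem hbH
  obtain ⟨S, h0, hS, hinv⟩ := exists_orbit_finset ra rb rab hb0
  have hall : ∀ g : G, ∀ x : G ⧸ H, x ∈ S ↔ g • x ∈ S := by
    have key : ∀ g : G, (∀ x ∈ S, g • x ∈ S) → ∀ x : G ⧸ H, x ∈ S ↔ g • x ∈ S := by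
      intro g hg x
      refine ⟨hg x, fun hx => ?_⟩
      have hSe : S.image (g • ·) = S := Finset.eq_of_subset_of_card_le
        (Finset.image_subset_iff.mpr hg)
        (by rw [Finset.card_image_of_injective _ (MulAction.injective g)])
      rw [← hSe, Finset.mem_image] at hx
      obtain ⟨y, hy, hyx⟩ := hx
      exact MulAction.injective g hyx ▸ hy
    intro g
    induction (hgen.symm ▸ Subgroup.mem_top g : g ∈ Subgroup.closure ({a, b} : Set G)) using
      Subgroup.closure_induction with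
    | mem w hw =>
      rcases hw with rfl | rfl
      · exact key _ fun x hx => (hinv x hx).1
      · exact key _ fun x hx => (hinv x hx).2
    | one => intro x; rw [one_smul]
    | mul u v _ _ ihu ihv => intro x; rw [mul_smul, ← ihu, ← ihv]
    | inv u _ ih => intro x; rw [ih (u⁻¹ • x), smul_inv_smul]
  have huniv : ∀ x : G ⧸ H, x ∈ S := by
    intro x
    induction x using QuotientGroup.induction_on with
    | H g =>
      have := (hall g _).mp h0
      rwa [MulAction.Quotient.smul_mk, smul_eq_mul, mul_one] at this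
  have hfinX : Finite (G ⧸ H) := Finite.of_injective (fun x => (⟨x, huniv x⟩ : S))
    fun _ _ h => congrArg Subtype.val h
  have hidx : H.index ≤ 12 := by
    refine le_trans ?_ hS
    rw [Subgroup.index, ← Nat.card_eq_finsetCard]
    exact Nat.card_le_card_of_injective (fun x => (⟨x, huniv x⟩ : S))
      fun _ _ h => congrArg Subtype.val h
  -- the subgroup `H`
  let B := Subgroup.zpowers b
  let Z := Subgroup.zpowers z
  let f : B × Z →* G :=
    { toFun := fun p => (p.1 : G) * p.2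
      map_one' := by simp
      map_mul' := by
        rintro ⟨p, q⟩ ⟨r, s⟩
        simp only [Prod.mk_mul_mk, Subgroup.coe_mul]
        obtain ⟨i, hi⟩ := q.2
        have hc : Commute (r : G) (q : G) := hi ▸ (hcz _).zpow_right i
        rw [mul_assoc, mul_assoc, ← mul_assoc (r : G), hc.eq, mul_assoc] }
  have hHf : H ≤ f.range := by
    refine (Subgroup.closure_le _).mpr ?_
    rintro w (rfl | rfl)
    · exact ⟨(⟨w, Subgroup.mem_zpowers w⟩, 1), by simp [f]⟩
    · exact ⟨(1, ⟨w, Subgroup.mem_zpowers w⟩), by simp [f]⟩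
  have hfb : IsOfFinOrder b := isOfFinOrder_iff_pow_eq_one.mpr ⟨5, by norm_num, hb⟩
  have hfz : IsOfFinOrder z := isOfFinOrder_iff_pow_eq_one.mpr ⟨k, hk, hz⟩
  have : Finite B := hfb.finite_zpowers
  have : Finite Z := hfz.finite_zpowers
  have hfinR : Finite f.range :=
    Finite.of_surjective f.rangeRestrict f.rangeRestrict_surjective
  have hfinH : Finite H := Finite.of_injective (Subgroup.inclusion hHf)
    (Subgroup.inclusion_injective hHf)
  have hHcard : Nat.card H ≤ 5 * k := by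
    refine (Nat.card_le_card_of_injective _ (Subgroup.inclusion_injective hHf)).trans ?_
    refine (Nat.card_le_card_of_surjective f.rangeRestrict f.rangeRestrict_surjective).trans ?_
    rw [Nat.card_prod, Nat.card_zpowers, Nat.card_zpowers]
    exact Nat.mul_le_mul (Nat.le_of_dvd (by norm_num) (orderOf_dvd_of_pow_eq_one hb))
      (Nat.le_of_dvd hk (orderOf_dvd_of_pow_eq_one hz))
  have hne : Nat.card H * H.index ≠ 0 :=
    mul_ne_zero Nat.card_pos.ne' (Subgroup.index_ne_zero_of_finite (H := H))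
  rw [Subgroup.card_mul_index] at hne
  refine ⟨Nat.finite_of_card_ne_zero hne, ?_⟩
  rw [← H.card_mul_index, show 60 * k = (5 * k) * 12 by ring]
  exact Nat.mul_le_mul hHcard hidx

/-- Coset representatives for the generators. -/
def reps {M : Type*} [Monoid M] (a b : M) : List M :=
  let t1 := a
  let t2 := a * t1
  let t3 := b * t2
  let t4 := a * t3
  let t5 := b * t3
  let t6 := a * t4
  let t7 := a * t5
  let t8 := b * t6
  let t9 := b * t8
  let t10 := a * t9
  let t11 := a * t10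
  [1, t1, t2, t3, t4, t5, t6, t7, t8, t9, t10, t11]

/-- The words `t b^j z^i`. -/
def normalForms {M : Type*} [Monoid M] (a b z : M) (k : ℕ) : List M :=
  (reps a b).flatMap fun t => (List.range 5).flatMap fun j => (List.range k).map fun i =>
    t * b ^ j * z ^ i

/-- If the normal forms are pairwise different and as many as the group has elements, then the
group is generated. -/
theorem closure_eq_top {M β : Type*} [Group M] [Finite M] {a b z : M} {k : ℕ} (enc : M → β)
    (hnd : ((normalForms a b z k).map enc).Nodup) (hlen : Nat.card M ≤ (normalForms a b z k).length)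
    (hz : z ∈ Subgroup.closure {a, b}) : Subgroup.closure {a, b} = ⊤ := by
  classical
  set C := Subgroup.closure {a, b}
  have ha : a ∈ C := Subgroup.subset_closure (Set.mem_insert _ _)
  have hb : b ∈ C := Subgroup.subset_closure (Set.mem_insert_of_mem _ rfl)
  have hr : ∀ t ∈ reps a b, t ∈ C := by
    intro t ht
    simp only [reps, List.mem_cons, List.not_mem_nil, or_false] at ht
    rcases ht with rfl | rfl | rfl | rfl | rfl | rfl | rfl | rfl | rfl | rfl | rfl | rfl <;>
      repeat' first | apply C.mul_mem | assumption | exact C.one_mem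
  have hsub : ∀ t ∈ normalForms a b z k, t ∈ C := by
    intro t ht
    simp only [normalForms, List.mem_flatMap, List.mem_map] at ht
    obtain ⟨r, hr', j, -, i, -, rfl⟩ := ht
    exact C.mul_mem (C.mul_mem (hr r hr') (C.pow_mem hb j)) (C.pow_mem hz i)
  refine Subgroup.eq_top_of_le_card _ (hlen.trans ?_)
  rw [← List.toFinset_card_of_nodup (List.Nodup.of_map _ hnd), ← Nat.card_eq_finsetCard]
  exact Nat.card_le_card_of_injective
    (fun t => (⟨t.1, hsub t.1 (List.mem_toFinset.mp t.2)⟩ : C))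
    fun _ _ h => Subtype.ext (congrArg (Subtype.val : C → M) h)

/-- `x` of order three in `A₅`. -/
def altX : alternatingGroup (Fin 5) :=
  ⟨Equiv.swap 0 3 * Equiv.swap 3 1, Equiv.Perm.mem_alternatingGroup.mpr (by decide)⟩

/-- `y` of order five in `A₅`. -/
def altY : alternatingGroup (Fin 5) :=
  ⟨Equiv.swap 0 1 * Equiv.swap 1 2 * Equiv.swap 2 3 * Equiv.swap 3 4,
    Equiv.Perm.mem_alternatingGroup.mpr (by decide)⟩

theorem alt_rel : altX ^ 3 = 1 ∧ altY ^ 5 = 1 ∧ (altX * altY) ^ 2 = 1 := by decide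

theorem alt_nodup : ((normalForms altX altY 1 1).map
    fun g : alternatingGroup (Fin 5) =>
      (List.finRange 5).map fun i => ((g : Equiv.Perm (Fin 5)) i).val).Nodup := by
  decide +kernel

theorem alt_closure : Subgroup.closure {altX, altY} = ⊤ := by
  refine closure_eq_top _ alt_nodup ?_ (Subgroup.one_mem _)
  rw [nat_card_alternatingGroup, Nat.card_eq_fintype_card, Fintype.card_fin]
  decide

/-- `x` of order three in `SL(2,5)`. -/
def slX : Matrix.SpecialLinearGroup (Fin 2) (ZMod 5) := ⟨!![0, 4; 1, 4], by decide⟩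

/-- `y` of order five in `SL(2,5)`. -/
def slY : Matrix.SpecialLinearGroup (Fin 2) (ZMod 5) := ⟨!![1, 1; 0, 1], by decide⟩

theorem sl_rel : slX ^ 3 = 1 ∧ slY ^ 5 = 1 ∧ ((slX * slY) ^ 2) ^ 2 = 1 ∧ (slX * slY) ^ 2 ≠ 1 ∧
    slX * (slX * slY) ^ 2 = (slX * slY) ^ 2 * slX ∧
      slY * (slX * slY) ^ 2 = (slX * slY) ^ 2 * slY := by decide

theorem sl_nodup : ((normalForms slX slY ((slX * slY) ^ 2) 2).map
    fun g : Matrix.SpecialLinearGroup (Fin 2) (ZMod 5) =>
      (g.1 0 0, g.1 0 1, g.1 1 0, g.1 1 1)).Nodup := by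
  decide +kernel

theorem nat_card_SL : Nat.card (Matrix.SpecialLinearGroup (Fin 2) (ZMod 5)) = 120 := by
  rw [Nat.card_eq_fintype_card]
  decide +kernel

theorem word_mem_closure {M : Type*} [Group M] (a b : M) :
    (a * b) ^ 2 ∈ Subgroup.closure {a, b} :=
  (Subgroup.closure {a, b}).pow_mem ((Subgroup.closure {a, b}).mul_mem
    (Subgroup.subset_closure (Set.mem_insert a {b}))
    (Subgroup.subset_closure (Set.mem_insert_of_mem a rfl))) 2

theorem sl_closure : Subgroup.closure {slX, slY} = ⊤ := by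
  refine closure_eq_top (z := (slX * slY) ^ 2) _ sl_nodup ?_ (word_mem_closure slX slY)
  rw [nat_card_SL]; decide +kernel

/-- The relators `x³, y⁵, (xy)²`. -/
abbrev altRels : Set (FreeGroup (Fin 2)) :=
  {FreeGroup.of (0 : Fin 2) ^ 3, FreeGroup.of (1 : Fin 2) ^ 5,
    (FreeGroup.of (0 : Fin 2) * FreeGroup.of 1) ^ 2}

/-- The relators of the double cover. -/
abbrev slRels : Set (FreeGroup (Fin 3)) :=
  {FreeGroup.of (0 : Fin 3) ^ 3, FreeGroup.of (1 : Fin 3) ^ 5, FreeGroup.of (2 : Fin 3) ^ 2,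
    (FreeGroup.of (2 : Fin 3))⁻¹ * FreeGroup.of 0 * FreeGroup.of 2 * (FreeGroup.of (0 : Fin 3))⁻¹,
    (FreeGroup.of (2 : Fin 3))⁻¹ * FreeGroup.of 1 * FreeGroup.of 2 * (FreeGroup.of (1 : Fin 3))⁻¹,
    (FreeGroup.of (0 : Fin 3) * FreeGroup.of 1) ^ 2 * (FreeGroup.of (2 : Fin 3))⁻¹}

theorem presented_alt_card : Finite (PresentedGroup altRels) ∧
    Nat.card (PresentedGroup altRels) ≤ 60 := by
  have h1 : (PresentedGroup.of (rels := altRels) 0) ^ 3 = 1 :=
    PresentedGroup.one_of_mem (rels := altRels) (Or.inl rfl)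
  have h2 : (PresentedGroup.of (rels := altRels) 1) ^ 5 = 1 :=
    PresentedGroup.one_of_mem (rels := altRels) (Or.inr (Or.inl rfl))
  have h3 : (PresentedGroup.of (rels := altRels) 0 * PresentedGroup.of 1) ^ 2 = 1 :=
    PresentedGroup.one_of_mem (rels := altRels) (Or.inr (Or.inr rfl))
  have hgen : Subgroup.closure
      {PresentedGroup.of (rels := altRels) 0, PresentedGroup.of (rels := altRels) 1} = ⊤ := by
    rw [eq_top_iff, ← PresentedGroup.closure_range_of altRels]
    refine Subgroup.closure_mono ?_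
    rintro _ ⟨i, rfl⟩
    fin_cases i
    · exact Set.mem_insert _ _
    · exact Set.mem_insert_of_mem _ rfl
  have h := card_le hgen h1 h2 h3 (Subgroup.one_mem _) one_pos (one_pow 1)
  exact ⟨h.1, h.2⟩

theorem presented_sl_rel :
    (PresentedGroup.of (rels := slRels) 0) ^ 3 = 1 ∧ (PresentedGroup.of (rels := slRels) 1) ^ 5 = 1 ∧
    (PresentedGroup.of (rels := slRels) 0 * PresentedGroup.of 1) ^ 2 = PresentedGroup.of 2 ∧
    (PresentedGroup.of (rels := slRels) 2) ^ 2 = 1 ∧
    PresentedGroup.of (rels := slRels) 0 * PresentedGroup.of 2 =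
      PresentedGroup.of 2 * PresentedGroup.of 0 ∧
    PresentedGroup.of (rels := slRels) 1 * PresentedGroup.of 2 =
      PresentedGroup.of 2 * PresentedGroup.of 1 := by
  have h1 : (PresentedGroup.of (rels := slRels) 0) ^ 3 = 1 :=
    PresentedGroup.one_of_mem (rels := slRels) (Or.inl rfl)
  have h2 : (PresentedGroup.of (rels := slRels) 1) ^ 5 = 1 :=
    PresentedGroup.one_of_mem (rels := slRels) (Or.inr (Or.inl rfl))
  have h3 : (PresentedGroup.of (rels := slRels) 2) ^ 2 = 1 :=
    PresentedGroup.one_of_mem (rels := slRels) (Or.inr (Or.inr (Or.inl rfl)))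
  have h4 : (PresentedGroup.of (rels := slRels) 2)⁻¹ * PresentedGroup.of 0 * PresentedGroup.of 2 *
      (PresentedGroup.of (rels := slRels) 0)⁻¹ = 1 :=
    PresentedGroup.one_of_mem (rels := slRels) (Or.inr (Or.inr (Or.inr (Or.inl rfl))))
  have h5 : (PresentedGroup.of (rels := slRels) 2)⁻¹ * PresentedGroup.of 1 * PresentedGroup.of 2 *
      (PresentedGroup.of (rels := slRels) 1)⁻¹ = 1 :=
    PresentedGroup.one_of_mem (rels := slRels) (Or.inr (Or.inr (Or.inr (Or.inr (Or.inl rfl)))))
  have h6 : (PresentedGroup.of (rels := slRels) 0 * PresentedGroup.of 1) ^ 2 *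
      (PresentedGroup.of (rels := slRels) 2)⁻¹ = 1 :=
    PresentedGroup.one_of_mem (rels := slRels) (Or.inr (Or.inr (Or.inr (Or.inr (Or.inr rfl)))))
  refine ⟨h1, h2, mul_inv_eq_one.mp h6, h3, ?_, ?_⟩
  · have := mul_inv_eq_one.mp h4
    rw [mul_assoc, inv_mul_eq_iff_eq_mul] at this
    exact this
  · have := mul_inv_eq_one.mp h5
    rw [mul_assoc, inv_mul_eq_iff_eq_mul] at this
    exact this

theorem presented_sl_gen : Subgroup.closure
    {PresentedGroup.of (rels := slRels) 0, PresentedGroup.of (rels := slRels) 1} = ⊤ := by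
  obtain ⟨-, -, h3, -⟩ := presented_sl_rel
  rw [eq_top_iff, ← PresentedGroup.closure_range_of slRels, Subgroup.closure_le]
  rintro _ ⟨i, rfl⟩
  fin_cases i
  · exact Subgroup.subset_closure (Set.mem_insert _ _)
  · exact Subgroup.subset_closure (Set.mem_insert_of_mem _ rfl)
  · have h := word_mem_closure (PresentedGroup.of (rels := slRels) 0) (PresentedGroup.of 1)
    rw [h3] at h
    exact h

theorem presented_sl_card : Finite (PresentedGroup slRels) ∧
    Nat.card (PresentedGroup slRels) ≤ 120 := by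
  obtain ⟨h1, h2, h3, h4, h5, h6⟩ := presented_sl_rel
  have h := card_le presented_sl_gen h1 h2 h3 (k := 2) ?_ two_pos h4
  · exact ⟨h.1, h.2⟩
  have hle : Subgroup.closure {PresentedGroup.of (rels := slRels) 0, PresentedGroup.of 1} ≤
      Subgroup.centralizer {PresentedGroup.of (rels := slRels) 2} := by
    rw [Subgroup.closure_le]
    rintro g (rfl | rfl) <;> rw [SetLike.mem_coe, Subgroup.mem_centralizer_singleton_iff]
    · exact h5
    · exact h6
  rw [presented_sl_gen] at hle
  rw [Subgroup.mem_center_iff]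
  intro g
  exact Subgroup.mem_centralizer_singleton_iff.mp (hle (Subgroup.mem_top g))

/-- A group generated by `a, b` satisfying the relations, of order at least 120, is the
presented group. -/
theorem presented_sl_equiv {G : Type*} [Group G] [Finite G] {a b : G}
    (hgen : Subgroup.closure {a, b} = ⊤) (ha : a ^ 3 = 1) (hb : b ^ 5 = 1)
    (hz : ((a * b) ^ 2) ^ 2 = 1) (hca : a * (a * b) ^ 2 = (a * b) ^ 2 * a)
    (hcb : b * (a * b) ^ 2 = (a * b) ^ 2 * b) (hcard : 120 ≤ Nat.card G) :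
    Nonempty (PresentedGroup slRels ≃* G) := by
  have hrel : ∀ w ∈ slRels, FreeGroup.lift ![a, b, (a * b) ^ 2] w = 1 := by
    simp only [slRels, Set.mem_insert_iff, Set.mem_singleton_iff, forall_eq_or_imp, forall_eq,
      map_pow, map_mul, map_inv, FreeGroup.lift_apply_of, Matrix.cons_val_zero,
      Matrix.cons_val_one, Matrix.cons_val]
    refine ⟨ha, hb, hz, ?_, ?_, mul_inv_cancel _⟩
    · rw [mul_assoc ((_ : G)⁻¹), hca, inv_mul_cancel_left, mul_inv_cancel]
    · rw [mul_assoc ((_ : G)⁻¹), hcb, inv_mul_cancel_left, mul_inv_cancel]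
  let f := PresentedGroup.toGroup hrel
  have hsurj : Function.Surjective f := by
    rw [← MonoidHom.range_eq_top, eq_top_iff, ← hgen, Subgroup.closure_le]
    rintro g (rfl | rfl)
    · exact ⟨PresentedGroup.of 0, PresentedGroup.toGroup.of hrel⟩
    · exact ⟨PresentedGroup.of 1, PresentedGroup.toGroup.of hrel⟩
  obtain ⟨hfin, hle⟩ := presented_sl_card
  exact ⟨MulEquiv.ofBijective f
    (hsurj.bijective_of_nat_card_le (hle.trans hcard))⟩

theorem presented_sl_iso :
    Nonempty (PresentedGroup slRels ≃* Matrix.SpecialLinearGroup (Fin 2) (ZMod 5)) := by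
  obtain ⟨h1, h2, h3, -, h5, h6⟩ := sl_rel
  exact presented_sl_equiv sl_closure h1 h2 h3 h5 h6 nat_card_SL.ge

theorem presented_alt_iso : Nonempty (PresentedGroup altRels ≃* alternatingGroup (Fin 5)) := by
  obtain ⟨h1, h2, h3⟩ := alt_rel
  have hrel : ∀ w ∈ altRels, FreeGroup.lift ![altX, altY] w = 1 := by
    simp only [altRels, Set.mem_insert_iff, Set.mem_singleton_iff, forall_eq_or_imp, forall_eq,
      map_pow, map_mul, FreeGroup.lift_apply_of, Matrix.cons_val_zero, Matrix.cons_val_one]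
    exact ⟨h1, h2, h3⟩
  let f := PresentedGroup.toGroup hrel
  have hsurj : Function.Surjective f := by
    rw [← MonoidHom.range_eq_top, eq_top_iff, ← alt_closure, Subgroup.closure_le]
    rintro g (rfl | rfl)
    · exact ⟨PresentedGroup.of 0, PresentedGroup.toGroup.of hrel⟩
    · exact ⟨PresentedGroup.of 1, PresentedGroup.toGroup.of hrel⟩
  obtain ⟨hfin, hle⟩ := presented_alt_card
  refine ⟨MulEquiv.ofBijective f (hsurj.bijective_of_nat_card_le (hle.trans_eq ?_))⟩
  rw [nat_card_alternatingGroup, Nat.card_eq_fintype_card, Fintype.card_fin]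
  rfl

end Cfsg.Agent.Recog.Icosahedral
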