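import Cfsg.Agent.PGroup.Critical
import Mathlib

/-!
# Groups of symplectic type: two elementary facts
-/

namespace Cfsg.Agent.Recog.SympCore

open scoped commutatorElement
open Cfsg.Agent.PGroup

/-- If every characteristic abelian subgroup of a `q`-group is central, then the group has class at
most two, elementary abelian commutator subgroup and central `q`-th powers. -/
theorem classTwo_of_char_abelian_central {Q : Type*} [Group Q] [Finite Q] {q : ℕ} [Fact q.Prime]
    (hQ : IsPGroup q Q)
    (h : ∀ A : Subgroup Q, A.Characteristic → IsMulCommutative A → A ≤ Subgroup.center Q) :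
    (∀ a b : Q, ⁅a, b⁆ ∈ Subgroup.center Q) ∧ (∀ a b : Q, ⁅a, b⁆ ^ q = 1) ∧
      ∀ a : Q, a ^ q ∈ Subgroup.center Q := by
  obtain ⟨C, hC⟩ := exists_isCriticalSubgroup hQ
  have := hC.characteristic
  set D := Subgroup.centralizer (C : Set Q) with hDdef
  have hDc : D ≤ Subgroup.center Q := by
    refine h D inferInstance ⟨⟨fun a b => Subtype.ext ?_⟩⟩
    exact Subgroup.mem_centralizer_iff.mp b.2 a (hC.centralizer_le a.2)
  have hxc : ∀ x ∈ C, ∀ a : Q, ⁅x, a⁆ ∈ Subgroup.center Q := fun x hx a =>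
    hDc (hC.commutator_le (Subgroup.commutator_mem_commutator hx (Subgroup.mem_top a)))
  have hax : ∀ x ∈ C, ∀ a : Q, ⁅a, x⁆ ∈ Subgroup.center Q := fun x hx a => by
    rw [← commutatorElement_inv x a]
    exact inv_mem (hxc x hx a)
  -- the commutator subgroup centralises the critical subgroup
  have hcom : ∀ a b : Q, ⁅a, b⁆ ∈ Subgroup.center Q := by
    intro a b
    refine hDc (Subgroup.mem_centralizer_iff.mpr fun x hx => ?_)
    have ha : ∀ c : Q, x * c = ⁅x, c⁆ * (c * x) := fun c => mul_comm_eq_commutatorElement_mul x c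
    have hh : ⁅⁅a, b⁆, x⁆ = 1 := by
      have e1 : ⁅a * b * a⁻¹ * b⁻¹, x⁆ = ⁅a, x⁆ * ⁅b, x⁆ * ⁅a, x⁆⁻¹ * ⁅b, x⁆⁻¹ := by
        rw [commutatorElement_mul_left (hax x hx _), commutatorElement_mul_left (hax x hx _),
          commutatorElement_mul_left (hax x hx _), commutatorElement_inv_left (hax x hx a),
          commutatorElement_inv_left (hax x hx b)]
      rw [commutatorElement_def a b, e1]
      have := Subgroup.mem_center_iff.mp (hax x hx b) ⁅a, x⁆
      rw [this]
      group
    rw [commutatorElement_eq_one_iff_mul_comm] at hh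
    exact hh.symm
  have hpow : ∀ a : Q, a ^ q ∈ Subgroup.center Q := by
    intro a
    refine hDc (Subgroup.mem_centralizer_iff.mpr fun x hx => ?_)
    have hh : ⁅a ^ q, x⁆ = 1 := by
      rw [commutatorElement_pow_left (hax x hx a), ← commutatorElement_pow_right (hax x hx a),
        commutatorElement_eq_one_iff_mul_comm]
      exact Subgroup.mem_center_iff.mp (hDc (hC.pow_mem x hx)) a
    rw [commutatorElement_eq_one_iff_mul_comm] at hh
    exact hh.symm
  exact ⟨hcom, fun a b => commutatorElement_pow_eq_one (hcom a b) (hpow a), hpow⟩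

/-- If all commutators lie in a central subgroup of prime order, the index of the centre is an
even power of that prime. -/
theorem exists_index_center_eq_sq {q : ℕ} [Fact q.Prime] {Q : Type*} [Group Q] [Finite Q]
    (C : Subgroup Q) (hC : C ≤ Subgroup.center Q) (hcard : Nat.card C = q)
    (hcom : ∀ a b : Q, ⁅a, b⁆ ∈ C) : ∃ m : ℕ, (Subgroup.center Q).index = (q ^ m) ^ 2 := by
  induction h : Nat.card Q using Nat.strong_induction_on generalizing Q with
  | _ n ih =>
  subst h
  by_cases hab : ∀ a b : Q, ⁅a, b⁆ = 1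
  · refine ⟨0, ?_⟩
    rw [pow_zero, one_pow, Subgroup.index_eq_one, eq_top_iff]
    exact fun x _ => Subgroup.mem_center_iff.mpr fun y => commutatorElement_eq_one_iff_mul_comm.mp (hab y x)
  push Not at hab
  obtain ⟨a, b, hab⟩ := hab
  set c : C := ⟨⁅a, b⁆, hcom a b⟩ with hcdef
  have hc1 : c ≠ 1 := fun e => hab (congrArg Subtype.val e)
  let φ : Q →* C × C :=
    { toFun := fun g => (⟨⁅g, a⁆, hcom g a⟩, ⟨⁅g, b⁆, hcom g b⟩)
      map_one' := by simp
      map_mul' := fun g g' => Prod.ext
        (Subtype.ext (commutatorElement_mul_left (hC (hcom g' a))))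
        (Subtype.ext (commutatorElement_mul_left (hC (hcom g' b)))) }
  have hφa : φ a = (1, c) := Prod.ext (Subtype.ext (by simp [φ])) rfl
  have hφb : φ b = (c⁻¹, 1) :=
    Prod.ext (Subtype.ext (by simp [φ, c, commutatorElement_inv])) (Subtype.ext (by simp [φ]))
  have hgen : ∀ g : Q, ∃ h ∈ Subgroup.closure ({a, b} : Set Q), φ h = φ g := by
    intro g
    obtain ⟨i, hi⟩ := Subgroup.mem_zpowers_iff.mp
      (mem_zpowers_of_prime_card (g := c⁻¹) (g' := (φ g).1) hcard (inv_ne_one.mpr hc1))
    obtain ⟨j, hj⟩ := Subgroup.mem_zpowers_iff.mp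
      (mem_zpowers_of_prime_card (g := c) (g' := (φ g).2) hcard hc1)
    refine ⟨b ^ i * a ^ j, mul_mem (zpow_mem (Subgroup.subset_closure (by simp)) i)
      (zpow_mem (Subgroup.subset_closure (by simp)) j), ?_⟩
    rw [map_mul, map_zpow, map_zpow, hφa, hφb]
    exact Prod.ext (by simp [hi]) (by simp [hj])
  have hsurj : Function.Surjective φ := by
    rintro ⟨x, y⟩
    obtain ⟨i, hi⟩ := Subgroup.mem_zpowers_iff.mp
      (mem_zpowers_of_prime_card (g := c⁻¹) (g' := x) hcard (inv_ne_one.mpr hc1))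
    obtain ⟨j, hj⟩ := Subgroup.mem_zpowers_iff.mp
      (mem_zpowers_of_prime_card (g := c) (g' := y) hcard hc1)
    exact ⟨b ^ i * a ^ j, by rw [map_mul, map_zpow, map_zpow, hφa, hφb]; exact Prod.ext (by simp [hi]) (by simp [hj])⟩
  set K := φ.ker with hK
  have hidx : K.index = q ^ 2 := by
    rw [hK, Subgroup.index_ker, MonoidHom.range_eq_top.mpr hsurj, Subgroup.card_top, Nat.card_prod,
      hcard, sq]
  have hker : ∀ k : Q, k ∈ K ↔ ⁅k, a⁆ = 1 ∧ ⁅k, b⁆ = 1 := fun k => by
    simp [hK, MonoidHom.mem_ker, φ, Prod.ext_iff, Subtype.ext_iff]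
  have hZK : Subgroup.center Q ≤ K := fun z hz => (hker z).mpr
    ⟨commutatorElement_eq_one_iff_mul_comm.mpr (Subgroup.mem_center_iff.mp hz a).symm,
     commutatorElement_eq_one_iff_mul_comm.mpr (Subgroup.mem_center_iff.mp hz b).symm⟩
  have hcen : Subgroup.center K = (Subgroup.center Q).subgroupOf K := by
    ext k
    rw [Subgroup.mem_center_iff, Subgroup.mem_subgroupOf, Subgroup.mem_center_iff]
    refine ⟨fun hk g => ?_, fun hk g => Subtype.ext (hk g)⟩
    obtain ⟨h, hh, hφh⟩ := hgen g
    have h1 : g * h⁻¹ ∈ K := by rw [hK, MonoidHom.mem_ker, map_mul, map_inv, hφh, mul_inv_cancel]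
    have h2 : (g * h⁻¹) * k = k * (g * h⁻¹) := congrArg Subtype.val (hk ⟨g * h⁻¹, h1⟩)
    have h3 : h ∈ Subgroup.centralizer ({(k : Q)} : Set Q) := by
      refine (Subgroup.closure_le _).mpr ?_ hh
      rintro x (rfl | rfl)
      · exact Subgroup.mem_centralizer_singleton_iff.mpr
          (commutatorElement_eq_one_iff_mul_comm.mp ((hker k).mp k.2).1).symm
      · exact Subgroup.mem_centralizer_singleton_iff.mpr
          (commutatorElement_eq_one_iff_mul_comm.mp ((hker k).mp k.2).2).symm
    rw [Subgroup.mem_centralizer_singleton_iff] at h3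
    calc g * k = (g * h⁻¹) * (h * k) := by group
      _ = (g * h⁻¹) * k * h := by rw [h3]; group
      _ = k * g := by rw [h2]; group
  have hCK : C ≤ K := hC.trans hZK
  have hlt : Nat.card K < Nat.card Q := by
    have h1 := K.card_mul_index
    rw [hidx] at h1
    have h2 : 1 < q ^ 2 := Nat.one_lt_pow two_ne_zero (Fact.out : q.Prime).one_lt
    have h3 : 0 < Nat.card K := Nat.card_pos
    nlinarith
  obtain ⟨m, hm⟩ := ih (Nat.card K) hlt (C.subgroupOf K)
    (fun x hx => by rw [hcen]; exact hC hx)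
    (by rw [Nat.card_congr (Subgroup.subgroupOfEquivOfLe hCK).toEquiv, hcard])
    (fun x y => hcom x y) rfl
  refine ⟨m + 1, ?_⟩
  rw [← Subgroup.relIndex_mul_index hZK, hidx, Subgroup.relIndex, ← hcen, hm]
  ring

end Cfsg.Agent.Recog.SympCore
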