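import Cfsg.Prelude.Def_Local
import Mathlib.GroupTheory.SpecificGroups.Alternating.Simple

/-!
# The standard subgroups fixing four points in an alternating group
-/

set_option autoImplicit false

namespace Cfsg.Agent.Recog.AltStd

open Equiv alternatingGroup
open scoped Pointwise

variable {α : Type*} [Fintype α] [DecidableEq α]

/-- The alternating group on a set of points, inside the whole alternating group. -/
def altOn (s : Finset α) : Subgroup (alternatingGroup α) := (ofSubtype s).range

theorem mem_altOn {s : Finset α} {g : alternatingGroup α} :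
    g ∈ altOn s ↔ ∀ x, x ∉ s → (g : Perm α) x = x := by
  rw [altOn, mem_range_ofSubtype_iff]
  constructor
  · intro h x hx
    by_contra hne
    exact hx (h (Perm.mem_support.mpr hne))
  · intro h x hx
    by_contra hne
    exact Perm.mem_support.mp hx (h x hne)

theorem card_altOn (s : Finset α) : Nat.card (altOn s) = Nat.card (alternatingGroup s) :=
  (Nat.card_congr (MonoidHom.ofInjective (ofSubtype_injective (s := s))).toEquiv).symm

theorem three_cycle_mem {s : Finset α} {a b c : α} (ha : a ∈ s) (hb : b ∈ s) (hc : c ∈ s)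
    (hab : a ≠ b) (hac : a ≠ c) (hbc : b ≠ c) :
    ∃ g : alternatingGroup α, g ∈ altOn s ∧ (g : Perm α) a = c ∧ (g : Perm α) c = b ∧
      (g : Perm α) b = a := by
  refine ⟨⟨swap a b * swap a c, Perm.mul_mem_alternatingGroup_of_isSwap ⟨a, b, hab, rfl⟩
    ⟨a, c, hac, rfl⟩⟩, mem_altOn.mpr fun x hx => ?_, ?_, ?_, ?_⟩
  · have h1 : x ≠ a := fun h => hx (h ▸ ha)
    have h2 : x ≠ b := fun h => hx (h ▸ hb)
    have h3 : x ≠ c := fun h => hx (h ▸ hc)
    simp [Perm.mul_apply, swap_apply_of_ne_of_ne, h1, h2, h3]
  · simp [Perm.mul_apply, swap_apply_of_ne_of_ne hac.symm hbc.symm]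
  · simp [Perm.mul_apply]
  · simp [Perm.mul_apply, swap_apply_of_ne_of_ne hab.symm hbc]

theorem exists_moving {s : Finset α} (hs : 3 ≤ s.card) {a : α} (ha : a ∈ s) :
    ∃ g : alternatingGroup α, g ∈ altOn s ∧ (g : Perm α) a ≠ a := by
  obtain ⟨b, hb, hba⟩ := Finset.exists_mem_ne (show 1 < s.card by omega) a
  have h2 : 1 < (s.erase a).card := by rw [Finset.card_erase_of_mem ha]; omega
  obtain ⟨c, hc, hcb⟩ := Finset.exists_mem_ne h2 b
  rw [Finset.mem_erase] at hc
  obtain ⟨g, hg, hga, -, -⟩ := three_cycle_mem ha hb hc.2 hba.symm hc.1.symm hcb.symm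
  exact ⟨g, hg, by rw [hga]; exact hc.1⟩

theorem commute_of_disjoint {s t : Finset α} (h : Disjoint s t) {g k : alternatingGroup α}
    (hg : g ∈ altOn s) (hk : k ∈ altOn t) : g * k = k * g := by
  apply Subtype.ext
  refine (Perm.Disjoint.commute fun x => ?_).eq
  by_cases hx : x ∈ s
  · exact Or.inr (mem_altOn.mp hk x (Finset.disjoint_left.mp h hx))
  · exact Or.inl (mem_altOn.mp hg x hx)

theorem centralizer_altOn {s : Finset α} (hs : 4 ≤ s.card) :
    Subgroup.centralizer (altOn s : Set (alternatingGroup α)) = altOn sᶜ := by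
  refine le_antisymm (fun g hg => mem_altOn.mpr fun a ha => ?_) (fun g hg =>
    Subgroup.mem_centralizer_iff.mpr fun k hk =>
      commute_of_disjoint disjoint_compl_right hk hg)
  rw [Finset.mem_compl, not_not] at ha
  have happ : ∀ k ∈ altOn s,
      (k : Perm α) ((g : Perm α) a) = (g : Perm α) ((k : Perm α) a) := fun k hk =>
    congrArg (fun x : alternatingGroup α => (x : Perm α) a)
      (Subgroup.mem_centralizer_iff.mp hg k hk)
  by_contra hne
  by_cases hga : (g : Perm α) a ∈ s
  · have h2 : 1 < ((s.erase a).erase ((g : Perm α) a)).card := by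
      rw [Finset.card_erase_of_mem (Finset.mem_erase.mpr ⟨hne, hga⟩), Finset.card_erase_of_mem ha]
      omega
    obtain ⟨b, hb, c, hc, hbc⟩ := Finset.one_lt_card.mp h2
    simp only [Finset.mem_erase] at hb hc
    obtain ⟨k, hk, hk1, -, -⟩ := three_cycle_mem
      (s := ({(g : Perm α) a, b, c} : Finset α)) (by simp) (by simp) (by simp)
      hb.1.symm hc.1.symm hbc
    have h := happ k (mem_altOn.mpr fun x hx => mem_altOn.mp hk x fun h => by
      simp only [Finset.mem_insert, Finset.mem_singleton] at h
      rcases h with rfl | rfl | rfl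
      · exact hx hga
      · exact hx hb.2.2
      · exact hx hc.2.2)
    rw [hk1, mem_altOn.mp hk a (by simp [hb.2.1.symm, hc.2.1.symm, Ne.symm hne])] at h
    exact hc.1 h
  · obtain ⟨k, hk, hka⟩ := exists_moving (by omega) ha
    have h := happ k hk
    rw [mem_altOn.mp hk _ hga] at h
    exact hka (((g : Perm α).injective h).symm)

theorem conj_map (s : Finset α) (g : alternatingGroup α) :
    (altOn s).map (MulAut.conj g).toMonoidHom = altOn (g • s) :=
  conj_smul_range_ofSubtype s g

theorem mem_normalizer_iff {s : Finset α} (hs : 3 ≤ s.card) (g : alternatingGroup α) :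
    g ∈ Subgroup.normalizer (altOn s : Set (alternatingGroup α)) ↔ g • s = s := by
  rw [Subgroup.mem_normalizer_iff]
  constructor
  · intro h
    refine Finset.eq_of_subset_of_card_le (fun x hx => ?_) (by rw [Finset.card_smul_finset])
    by_contra hxs
    obtain ⟨a, ha, rfl⟩ := Finset.mem_smul_finset.mp hx
    obtain ⟨k, hk, hka⟩ := exists_moving hs ha
    have h1 := mem_altOn.mp ((h k).mp hk) (g • a) hxs
    change (g : Perm α) ((k : Perm α) ((g : Perm α).symm ((g : Perm α) a))) = (g : Perm α) a at h1
    rw [Equiv.symm_apply_apply] at h1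
    exact hka ((g : Perm α).injective h1)
  · intro h k
    constructor
    · intro hk
      have : g * k * g⁻¹ ∈ (altOn s).map (MulAut.conj g).toMonoidHom := ⟨k, hk, rfl⟩
      rwa [conj_map, h] at this
    · intro hk
      rw [← h, ← conj_map] at hk
      obtain ⟨k', hk', he⟩ := hk
      have : k' = k := (MulAut.conj g).injective he
      exact this ▸ hk'

theorem isQuasisimple_altOn {s : Finset α} (hs : 5 ≤ s.card) : Cfsg.IsQuasisimple (altOn s) := by
  have hc : 5 ≤ Nat.card s := by rw [Nat.card_eq_fintype_card, Fintype.card_coe]; exact hs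
  have e := MonoidHom.ofInjective (ofSubtype_injective (s := s))
  have hsimp : IsSimpleGroup (alternatingGroup s) := alternatingGroup.isSimpleGroup hc
  have hnt : Nontrivial (altOn s) := e.toEquiv.symm.nontrivial
  have : IsSimpleGroup (altOn s) := IsSimpleGroup.isSimpleGroup_of_surjective e.toMonoidHom e.surjective
  have hna : ¬ IsMulCommutative (altOn s) := by
    intro hcm
    have : IsMulCommutative (alternatingGroup s) :=
      ⟨⟨fun a b => e.injective (by rw [map_mul, map_mul]; exact hcm.is_comm.comm _ _)⟩⟩
    have := alternatingGroup.isMulCommutative_iff_card_le_three.mp this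
    omega
  have hz : Subgroup.center (altOn s) = ⊥ := by
    refine (Subgroup.Normal.eq_bot_or_eq_top inferInstance).resolve_right fun h => hna ?_
    exact Subgroup.center_eq_top_iff.mp h
  refine ⟨?_, ?_⟩
  · rw [Group.isPerfect_def]
    refine (Subgroup.Normal.eq_bot_or_eq_top inferInstance).resolve_left fun h => hna ?_
    exact ⟨⟨fun a b => commutatorElement_eq_one_iff_mul_comm.mp (Subgroup.mem_bot.mp
      (h ▸ Subgroup.commutator_mem_commutator (Subgroup.mem_top a) (Subgroup.mem_top b)))⟩⟩
  · have : Nontrivial (altOn s ⧸ Subgroup.center (altOn s)) :=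
      ((QuotientGroup.quotientMulEquivOfEq hz).trans QuotientGroup.quotientBot).toEquiv.nontrivial
    exact IsSimpleGroup.isSimpleGroup_of_surjective
      ((QuotientGroup.quotientMulEquivOfEq hz).trans QuotientGroup.quotientBot).symm.toMonoidHom
      ((QuotientGroup.quotientMulEquivOfEq hz).trans QuotientGroup.quotientBot).symm.surjective

theorem isStandard_fixing_four {s : Finset α} (hs : s.card = 4) (hn : 9 ≤ Fintype.card α) :
    Cfsg.IsStandardSubgroup (altOn sᶜ) := by
  have hc : 5 ≤ sᶜ.card := by rw [Finset.card_compl]; omega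
  have hC : Subgroup.centralizer (altOn sᶜ : Set (alternatingGroup α)) = altOn s := by
    rw [centralizer_altOn (by omega), compl_compl]
  have hA4 : Nat.card (altOn s) = 12 := by
    have : Nontrivial s := by
      rw [← Fintype.one_lt_card_iff_nontrivial, Fintype.card_coe]; omega
    rw [card_altOn, nat_card_alternatingGroup, Nat.card_eq_fintype_card, Fintype.card_coe, hs]
    rfl
  refine ⟨isQuasisimple_altOn hc, ?_, ?_, ?_⟩
  · rw [hC]
    refine ⟨by rw [hA4]; exact ⟨6, rfl⟩, fun g hg => ?_⟩
    rw [mem_normalizer_iff (by omega)] at hg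
    have hle : altOn s ⊓ (altOn s).map (MulAut.conj g).toMonoidHom ≤ altOn (s ∩ g • s) := by
      rintro k ⟨h1, h2⟩
      rw [conj_map] at h2
      refine mem_altOn.mpr fun x hx => ?_
      rw [Finset.mem_inter, not_and_or] at hx
      rcases hx with hx | hx
      · exact mem_altOn.mp h1 x hx
      · exact mem_altOn.mp h2 x hx
    have hlt : (s ∩ g • s).card ≤ 3 := by
      by_contra hlt
      refine hg (Finset.eq_of_subset_of_card_le (fun x hx => ?_)
        (by rw [Finset.card_smul_finset]))
      have he := Finset.eq_of_subset_of_card_le (Finset.inter_subset_right : s ∩ g • s ⊆ g • s)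
        (by rw [Finset.card_smul_finset]; omega)
      rw [← he] at hx
      exact (Finset.mem_inter.mp hx).1
    refine Odd.of_dvd_nat ?_ (Subgroup.card_dvd_of_le hle)
    rw [card_altOn]
    generalize hu : s ∩ g • s = u at hlt
    by_cases hnt : Nontrivial u
    · rw [nat_card_alternatingGroup, Nat.card_eq_fintype_card, Fintype.card_coe]
      have : 2 ≤ u.card := by
        have := Fintype.one_lt_card_iff_nontrivial.mpr hnt
        rwa [Fintype.card_coe] at this
      interval_cases u.card <;> decide
    · have : Subsingleton u := not_nontrivial_iff_subsingleton.mp hnt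
      rw [Nat.card_of_subsingleton (1 : alternatingGroup u)]
      exact odd_one
  · intro g hne hcomm
    refine hne ?_
    rw [Subgroup.commutator_eq_bot_iff_le_centralizer] at hcomm
    have hle : (altOn sᶜ).map (MulAut.conj g).toMonoidHom ≤ altOn s := by
      rw [← hC]
      intro k hk
      rw [Subgroup.mem_centralizer_iff]
      intro l hl
      exact (Subgroup.mem_centralizer_iff.mp (hcomm hl) k hk).symm
    have h1 := Subgroup.card_dvd_of_le hle
    rw [conj_map, card_altOn, hA4] at h1
    have : Nontrivial ↥(g • sᶜ) := by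
      rw [← Fintype.one_lt_card_iff_nontrivial, Fintype.card_coe, Finset.card_smul_finset]; omega
    rw [nat_card_alternatingGroup, Nat.card_eq_fintype_card, Fintype.card_coe,
      Finset.card_smul_finset] at h1
    have h2 := Nat.le_of_dvd (by norm_num) h1
    have h3 : Nat.factorial 5 ≤ Nat.factorial sᶜ.card := Nat.factorial_le hc
    rw [show Nat.factorial 5 = 120 from rfl] at h3
    omega
  · rw [hC]
    ext g
    rw [mem_normalizer_iff (by omega), mem_normalizer_iff (by omega)]
    have : g • sᶜ = (g • s)ᶜ := by
      ext x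
      simp [← Finset.inv_smul_mem_iff]
    rw [this, compl_inj_iff]

end Cfsg.Agent.Recog.AltStd
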