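import Cfsg.Agent.NSE.MathieuEleven

/-!
A group with the commuting graph of `M₁₁` is simple of order 7920.
-/

set_option autoImplicit false
set_option linter.style.haveILetI false

namespace Cfsg.Agent.Recog

open MulAction Cfsg

/-- The non-trivial elements commuting with `x`, transported by a commuting-graph isomorphism. -/
theorem card_centralizer_of_graph {H G : Type*} [Group H] [Group G] [Finite H] [Finite G]
    (f : {h : H // h ≠ 1} ≃ {g : G // g ≠ 1})
    (hf : ∀ x y : {h : H // h ≠ 1}, (x : H) * y = y * x ↔ ((f x) : G) * (f y) = (f y) * (f x))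
    (x : {h : H // h ≠ 1}) :
    Nat.card (Subgroup.centralizer ({(x : H)} : Set H)) =
      Nat.card (Subgroup.centralizer ({((f x) : G)} : Set G)) := by
  classical
  let F : H → G := fun y => if h : y = 1 then 1 else (f ⟨y, h⟩ : G)
  have hF1 : ∀ y, F y = 1 ↔ y = 1 := by
    intro y
    by_cases h : y = 1
    · simp [F, h]
    · simp only [F, dif_neg h, h, iff_false]
      exact (f ⟨y, h⟩).2
  have hinj : Function.Injective F := by
    intro a b e
    by_cases ha : a = 1
    · subst ha
      exact ((hF1 b).mp (e ▸ (hF1 1).mpr rfl)).symm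
    · have hb : b ≠ 1 := fun hb => ha ((hF1 a).mp (e.trans ((hF1 b).mpr hb)))
      simp only [F, dif_neg ha, dif_neg hb] at e
      exact congrArg Subtype.val (f.injective (Subtype.ext e))
  have hsurj : Function.Surjective F := by
    intro g
    by_cases hg : g = 1
    · exact ⟨1, hg ▸ (hF1 1).mpr rfl⟩
    · refine ⟨(f.symm ⟨g, hg⟩ : H), ?_⟩
      simp only [F, dif_neg (f.symm ⟨g, hg⟩).2, Subtype.coe_eta, Equiv.apply_symm_apply]
  refine Nat.card_congr ((Equiv.ofBijective F ⟨hinj, hsurj⟩).subtypeEquiv (fun y => ?_))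
  rw [Subgroup.mem_centralizer_singleton_iff, Subgroup.mem_centralizer_singleton_iff]
  change y * (x : H) = (x : H) * y ↔ F y * (f x : G) = (f x : G) * F y
  by_cases hy : y = 1
  · simp [hy, F]
  · simp only [F, dif_neg hy]
    exact hf ⟨y, hy⟩ x

theorem card_eq_nontrivial_add_one (X : Type*) [Group X] [Finite X] :
    Nat.card X = Nat.card {a : X // a ≠ 1} + 1 := by
  classical
  haveI := Fintype.ofFinite X
  rw [Nat.card_eq_fintype_card, Nat.card_eq_fintype_card, Fintype.card_subtype_compl,
    Fintype.card_subtype_eq]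
  have := Fintype.card_pos (α := X)
  omega

theorem card_of_graph {H G : Type*} [Group H] [Group G] [Finite H] [Finite G]
    (f : {h : H // h ≠ 1} ≃ {g : G // g ≠ 1}) : Nat.card H = Nat.card G := by
  rw [card_eq_nontrivial_add_one H, card_eq_nontrivial_add_one G, Nat.card_congr f]

variable {G : Type*} [Group G] [Finite G]

/-- A group of order 7920 with a self-centralising subgroup of order eleven is simple. -/
theorem isSimpleGroup_of_centralizer_eleven (hcard : Nat.card G = 7920)
    (hc : ∃ w : G, orderOf w = 11 ∧ Nat.card (Subgroup.centralizer ({w} : Set G)) = 11) :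
    IsSimpleGroup G := by
  haveI h11 : Fact (Nat.Prime 11) := ⟨by norm_num⟩
  obtain ⟨w, hw, hcw⟩ := hc
  have hP11 : ∀ P : Sylow 11 G, Nat.card P = 11 := fun P => by
    obtain ⟨k, hk⟩ := (IsPGroup.iff_card (p := 11)).mp P.isPGroup'
    have h1 : 11 ^ k ∣ 7920 := hk ▸ hcard ▸ (P : Subgroup G).card_subgroup_dvd_card
    have hk1 : k < 2 := by
      by_contra h2
      exact absurd ((pow_dvd_pow 11 (show 2 ≤ k by omega)).trans h1) (by norm_num)
    have hk0 : k ≠ 0 := by
      rintro rfl
      have h2 := P.dvd_card_of_dvd_card (show 11 ∣ Nat.card G by rw [hcard]; norm_num)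
      rw [hk] at h2
      norm_num at h2
    rw [hk, show k = 1 by omega, pow_one]
  -- every element of order eleven is self-centralising
  obtain ⟨P, hP⟩ := (IsPGroup.of_card (G := Subgroup.zpowers w) (n := 1) (p := 11)
    (by rw [Nat.card_zpowers, hw, pow_one])).exists_le_sylow
  have hPw : Subgroup.zpowers w = (P : Subgroup G) :=
    Subgroup.eq_of_le_of_card_ge hP (by rw [hP11, Nat.card_zpowers, hw])
  have hCP : Subgroup.centralizer ((P : Subgroup G) : Set G) = (P : Subgroup G) := by
    rw [← hPw, Subgroup.zpowers_eq_closure, Subgroup.centralizer_closure, ← Subgroup.zpowers_eq_closure]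
    refine (Subgroup.eq_of_le_of_card_ge ?_ (by rw [hcw, Nat.card_zpowers, hw])).symm
    exact Subgroup.zpowers_le.mpr (Subgroup.mem_centralizer_singleton_iff.mpr rfl)
  have hN55 : Nat.card (Subgroup.normalizer ((P : Subgroup G) : Set G)) = 55 := by
    set N := Subgroup.normalizer ((P : Subgroup G) : Set G)
    let φ := Subgroup.normalizerMonoidHom (P : Subgroup G)
    have hker : Nat.card φ.ker = 11 := by
      rw [Subgroup.normalizerMonoidHom_ker,
        Nat.card_congr (Subgroup.subgroupOfEquivOfLe (Subgroup.centralizer_le_normalizer _)).toEquiv,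
        hCP, hP11]
    have hr : Nat.card φ.range ∣ 10 := by
      haveI : IsCyclic (P : Subgroup G) := isCyclic_of_prime_card (hP11 P)
      have h := φ.range.card_subgroup_dvd_card
      rw [IsCyclic.card_mulAut, hP11, Nat.totient_prime h11.out] at h
      exact h
    have hmul : Nat.card N = 11 * Nat.card φ.range := by
      have h := Subgroup.card_eq_card_quotient_mul_card_subgroup φ.ker
      rw [Nat.card_congr (QuotientGroup.quotientKerEquivRange φ).toEquiv, hker] at h
      exact h.trans (Nat.mul_comm _ _)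
    have hidx := N.card_mul_index
    rw [hcard, hmul] at hidx
    have hmod := card_sylow_modEq_one 11 G
    rw [P.card_eq_index_normalizer, Nat.ModEq, Nat.one_mod] at hmod
    change N.index % 11 = 1 at hmod
    have hle := Nat.le_of_dvd (by norm_num) hr
    have hd : ∀ d ∈ Nat.divisors 10, (720 / d) % 11 = 1 → d = 5 := by decide +kernel
    have h5 : Nat.card φ.range = 5 := by
      refine hd _ (Nat.mem_divisors.mpr ⟨hr, by norm_num⟩) ?_
      rw [show 720 = Nat.card φ.range * N.index by linarith,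
        Nat.mul_div_cancel_left _ (Nat.card_pos)]
      exact hmod
    rw [hmul, h5]
  have hCall : ∀ u : G, orderOf u = 11 → ∀ y : G, Commute u y → y ∈ Subgroup.zpowers u := by
    intro u hu y hy
    obtain ⟨S, hS⟩ := (IsPGroup.of_card (G := Subgroup.zpowers u) (n := 1) (p := 11)
      (by rw [Nat.card_zpowers, hu, pow_one])).exists_le_sylow
    have hSu : Subgroup.zpowers u = (S : Subgroup G) :=
      Subgroup.eq_of_le_of_card_ge hS (by rw [hP11, Nat.card_zpowers, hu])
    obtain ⟨g, hg⟩ := exists_smul_eq G P S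
    have hmem : ∀ z, z ∈ (S : Subgroup G) ↔ g⁻¹ * z * g ∈ (P : Subgroup G) := by
      intro z
      rw [← hg, Sylow.smul_def, Sylow.pointwise_smul_def, Subgroup.mem_pointwise_smul_iff_inv_smul_mem]
      simp [MulAut.smul_def, mul_assoc]
    rw [hSu, hmem, ← hCP, Subgroup.mem_centralizer_iff]
    intro z hz
    obtain ⟨n, hn⟩ : g * z * g⁻¹ ∈ Subgroup.zpowers u := by
      rw [hSu, hmem, show g⁻¹ * (g * z * g⁻¹) * g = z by group]; exact hz
    have hc : Commute (g * z * g⁻¹) y := hn ▸ hy.zpow_left n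
    calc z * (g⁻¹ * y * g) = g⁻¹ * ((g * z * g⁻¹) * y) * g := by group
      _ = g⁻¹ * (y * (g * z * g⁻¹)) * g := by rw [hc.eq]
      _ = g⁻¹ * y * g * z := by group
  -- no non-trivial normal subgroup of order prime to eleven
  have hsmall : ∀ N : Subgroup G, N.Normal → ¬ 11 ∣ Nat.card N → N = ⊥ := by
    intro N hN hN11'
    by_contra hne
    obtain ⟨q, hq, hqN⟩ := Nat.exists_prime_and_dvd (n := Nat.card N)
      (fun e => hne (Subgroup.eq_bot_of_card_eq N e))
    haveI := Fact.mk hq
    haveI := hN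
    obtain ⟨Q⟩ : Nonempty (Sylow q N) := inferInstance
    set Q' : Subgroup G := (Q : Subgroup N).map N.subtype with hQ'
    have hfr : Subgroup.normalizer (Q' : Set G) ⊔ N = ⊤ := Sylow.normalizer_sup_eq_top Q
    have h11N : 11 ∣ Nat.card (Subgroup.normalizer (Q' : Set G)) := by
      have h1 := N.card_mul_index
      rw [hcard, ← Subgroup.relIndex_top_right, ← hfr, Subgroup.relIndex_sup_right] at h1
      have h2 : 11 ∣ N.relIndex (Subgroup.normalizer (Q' : Set G)) :=
        ((Nat.Prime.dvd_mul h11.out).mp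
          ((by norm_num : 11 ∣ 7920).trans (dvd_of_eq h1.symm))).resolve_left hN11'
      exact h2.trans (Subgroup.relIndex_dvd_card _ _)
    obtain ⟨⟨u, hu⟩, huo⟩ :=
      exists_prime_orderOf_dvd_card' (G := Subgroup.normalizer (Q' : Set G)) 11 h11N
    rw [Subgroup.orderOf_mk] at huo
    have hQcard : Nat.card Q' = Nat.card Q :=
      Nat.card_congr ((Q : Subgroup N).equivMapOfInjective _ N.subtype_injective).symm.toEquiv
    obtain ⟨k, hk⟩ := (IsPGroup.iff_card (p := q)).mp Q.isPGroup'
    have hk0 : k ≠ 0 := by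
      rintro rfl
      have h2 := Q.dvd_card_of_dvd_card hqN
      rw [hk, pow_zero, Nat.dvd_one] at h2
      exact hq.one_lt.ne' h2
    have hq11 : q ≠ 11 := fun e => hN11' (e ▸ hqN)
    letI : MulAction (Subgroup.zpowers u) Q' :=
      { smul := fun v x => ⟨(v : G) * x * (v : G)⁻¹,
          (Subgroup.mem_normalizer_iff.mp ((Subgroup.zpowers_le.mpr hu) v.2) x).mp x.2⟩
        one_smul := fun x => Subtype.ext (show (1 : G) * x * (1 : G)⁻¹ = x by simp)
        mul_smul := fun v v' x => Subtype.ext (show ((v : G) * v') * x * ((v : G) * v')⁻¹ =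
          v * (v' * x * (v' : G)⁻¹) * (v : G)⁻¹ by group) }
    have hmod := (IsPGroup.of_card (G := Subgroup.zpowers u) (n := 1) (p := 11)
      (by rw [Nat.card_zpowers, huo, pow_one])).card_modEq_card_fixedPoints Q'
    have hfix : Nat.card (fixedPoints (Subgroup.zpowers u) Q') = 1 := by
      have key : ∀ a : fixedPoints (Subgroup.zpowers u) Q', (a.1 : G) = 1 := fun a => by
        have h1 : u * a.1 * u⁻¹ = a.1 := congrArg Subtype.val (a.2 ⟨u, Subgroup.mem_zpowers u⟩)
        have h2 := hCall u huo _ (mul_inv_eq_iff_eq_mul.mp h1)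
        have h3 := Subgroup.orderOf_dvd_natCard _ h2
        rw [Nat.card_zpowers, huo] at h3
        have h4 : orderOf (a.1 : G) ∣ q ^ k := by
          rw [← hk, ← hQcard]; exact Subgroup.orderOf_dvd_natCard _ a.1.2
        exact orderOf_eq_one_iff.mp (Nat.eq_one_of_dvd_coprimes
          (((Nat.coprime_primes hq h11.out).mpr hq11).pow_left k) h4 h3)
      rw [Nat.card_eq_one_iff_unique]
      exact ⟨⟨fun a b => Subtype.ext (Subtype.ext ((key a).trans (key b).symm))⟩,
        ⟨⟨1, fun v => Subtype.ext (show (v : G) * 1 * (v : G)⁻¹ = 1 by simp)⟩⟩⟩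
    rw [hfix, hQcard, hk, Nat.ModEq] at hmod
    have hdvd : q ^ k ∣ 720 := by
      have h1 : q ^ k ∣ 11 * 720 := by
        rw [← hk, ← hQcard]
        exact (Q'.card_subgroup_dvd_card).trans (dvd_of_eq hcard)
      exact (((Nat.coprime_primes hq h11.out).mpr hq11).pow_left k).dvd_of_dvd_mul_left h1
    have hbound : ∀ d ∈ Nat.divisors 720, d % 11 = 1 →
        d = 1 ∨ 2 * 3 ∣ d ∨ 2 * 5 ∣ d ∨ 3 * 5 ∣ d := by decide +kernel
    have key : ∀ a b : ℕ, a.Prime → b.Prime → a * b ∣ q ^ k → a = b := fun a b ha hb hab =>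
      ((Nat.prime_dvd_prime_iff_eq ha hq).mp (ha.dvd_of_dvd_pow ((dvd_mul_right a b).trans hab))).trans
        ((Nat.prime_dvd_prime_iff_eq hb hq).mp (hb.dvd_of_dvd_pow ((dvd_mul_left b a).trans hab))).symm
    rcases hbound _ (Nat.mem_divisors.mpr ⟨hdvd, by norm_num⟩) hmod with h1 | h1 | h1 | h1
    · exact absurd ((Nat.pow_eq_one.mp h1).resolve_right hk0) hq.one_lt.ne'
    · exact absurd (key 2 3 Nat.prime_two Nat.prime_three h1) (by norm_num)
    · exact absurd (key 2 5 Nat.prime_two (by norm_num) h1) (by norm_num)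
    · exact absurd (key 3 5 Nat.prime_three (by norm_num) h1) (by norm_num)
  haveI : Nontrivial G := Finite.one_lt_card_iff_nontrivial.mp (by omega)
  refine ⟨fun N hN => ?_⟩
  by_cases h11N : 11 ∣ Nat.card N
  swap
  · exact Or.inl (hsmall N hN h11N)
  right
  by_contra htop
  haveI := hN
  -- `N` contains all the Sylow eleven subgroups
  have hPN : (P : Subgroup G) ≤ N := by
    obtain ⟨⟨x, hxN⟩, hxo⟩ := exists_prime_orderOf_dvd_card' (G := N) 11 h11N
    rw [Subgroup.orderOf_mk] at hxo
    obtain ⟨S, hS⟩ := (IsPGroup.of_card (G := Subgroup.zpowers x) (n := 1) (p := 11)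
      (by rw [Nat.card_zpowers, hxo, pow_one])).exists_le_sylow
    have hSx : Subgroup.zpowers x = (S : Subgroup G) :=
      Subgroup.eq_of_le_of_card_ge hS (by rw [hP11, Nat.card_zpowers, hxo])
    obtain ⟨g, hg⟩ := exists_smul_eq G S P
    intro z hz
    rw [← hg, Sylow.smul_def, Sylow.pointwise_smul_def,
      Subgroup.mem_pointwise_smul_iff_inv_smul_mem] at hz
    have h1 : g⁻¹ * z * g ∈ N := by
      have : g⁻¹ * z * g ∈ Subgroup.zpowers x := by
        rw [hSx]; simpa [MulAut.smul_def, mul_assoc] using hz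
      exact (Subgroup.zpowers_le.mpr hxN) this
    simpa [mul_assoc] using hN.conj_mem _ h1 g
  set PN : Sylow 11 N := P.subtype hPN with hPN'
  have hPNcard : Nat.card PN = 11 := by
    exact (Nat.card_congr (Subgroup.subgroupOfEquivOfLe hPN).toEquiv).trans (hP11 P)
  have hfr : Subgroup.normalizer ((P : Subgroup G) : Set G) ⊔ N = ⊤ :=
    Sylow.normalizer_sup_eq_top' P hPN
  set NS := Subgroup.normalizer ((P : Subgroup G) : Set G)
  have hPNS : (P : Subgroup G) ≤ NS ⊓ N := le_inf Subgroup.le_normalizer hPN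
  have hmeet : NS ⊓ N = (P : Subgroup G) := by
    refine (Subgroup.eq_of_le_of_card_ge hPNS ?_).symm
    rw [hP11]
    obtain ⟨a, ha⟩ := Subgroup.card_dvd_of_le hPNS
    have h2 := Subgroup.card_dvd_of_le (inf_le_left : NS ⊓ N ≤ NS)
    rw [ha, hN55, hP11] at h2
    rw [ha, hP11]
    have h3 : a ∣ 5 := Nat.dvd_of_mul_dvd_mul_left (by norm_num) (show 11 * a ∣ 11 * 5 by simpa using h2)
    rcases (Nat.dvd_prime (by norm_num)).mp h3 with rfl | rfl
    · simp
    · exfalso
      have h4 : NS ⊓ N = NS := Subgroup.eq_of_le_of_card_ge inf_le_left (by rw [hN55, ha, hP11])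
      rw [sup_eq_right.mpr (h4 ▸ inf_le_right)] at hfr
      exact htop hfr
  have hPZ : Subgroup.normalizer ((PN : Subgroup N) : Set N) ≤
      Subgroup.centralizer ((PN : Subgroup N) : Set N) := by
    intro x hx
    have hxP : (x : G) ∈ (P : Subgroup G) := by
      rw [← hmeet]
      refine ⟨?_, x.2⟩
      change (x : G) ∈ NS
      rw [Subgroup.mem_normalizer_iff]
      intro y
      constructor
      · intro hy
        exact (Subgroup.mem_normalizer_iff.mp hx ⟨y, hPN hy⟩).mp hy
      · intro hy
        have hyN : y ∈ N := by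
          have h := N.mul_mem (N.mul_mem (N.inv_mem x.2) (hPN hy)) x.2
          simpa [mul_assoc] using h
        exact (Subgroup.mem_normalizer_iff.mp hx ⟨y, hyN⟩).mpr hy
    rw [Subgroup.mem_centralizer_iff]
    intro y hy
    refine Subtype.ext ?_
    have := hCP.symm ▸ hxP
    exact Subgroup.mem_centralizer_iff.mp this _ hy
  set K := (MonoidHom.transferSylow PN hPZ).ker with hK
  have hcompl := MonoidHom.ker_transferSylow_isComplement' PN hPZ
  have hKcard : Nat.card K * 11 = Nat.card N := by rw [← hPNcard]; exact hcompl.card_mul_card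
  have hK11 : ¬ 11 ∣ Nat.card K := by
    rintro ⟨c, hc⟩
    have : 121 ∣ 7920 := (show 121 ∣ Nat.card N from ⟨c, by rw [← hKcard, hc]; ring⟩).trans
      (hcard ▸ N.card_subgroup_dvd_card)
    omega
  have hKidx : K.index = 11 := hcompl.symm.index_eq_card.trans hPNcard
  set K' := K.map N.subtype
  have hK'n : K'.Normal := by
    refine ⟨?_⟩
    rintro _ ⟨x, hx, rfl⟩ g
    refine ⟨⟨g * x * g⁻¹, hN.conj_mem x x.2 g⟩, ?_, rfl⟩
    change (⟨g * x * g⁻¹, hN.conj_mem x x.2 g⟩ : N) ∈ K
    rw [← QuotientGroup.eq_one_iff]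
    have h1 : orderOf (QuotientGroup.mk' K ⟨g * x * g⁻¹, hN.conj_mem x x.2 g⟩) ∣ Nat.card K := by
      refine (orderOf_map_dvd _ _).trans ?_
      refine dvd_trans (dvd_of_eq ?_) (Subgroup.orderOf_dvd_natCard _ hx)
      exact ((Subgroup.orderOf_coe _).symm.trans
        (MulEquiv.orderOf_eq (MulAut.conj g) (x : G))).trans (Subgroup.orderOf_coe x)
    have h2 : orderOf (QuotientGroup.mk' K ⟨g * x * g⁻¹, hN.conj_mem x x.2 g⟩) ∣ 11 :=
      (orderOf_dvd_natCard _).trans (dvd_of_eq hKidx)
    exact orderOf_eq_one_iff.mp (Nat.eq_one_of_dvd_coprimes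
      ((Nat.Prime.coprime_iff_not_dvd h11.out).mpr hK11).symm h1 h2)
  have hKbot : K' = ⊥ := hsmall K' hK'n (by rwa [Subgroup.card_map_of_injective N.subtype_injective])
  have hK1 : Nat.card K = 1 := by
    rw [← Subgroup.card_map_of_injective N.subtype_injective]
    change Nat.card K' = 1
    rw [hKbot, Subgroup.card_bot]
  rw [hK1, one_mul] at hKcard
  have hNP : (P : Subgroup G) = N := Subgroup.eq_of_le_of_card_ge hPN (by rw [hP11, ← hKcard])
  haveI : (P : Subgroup G).Normal := by rw [hNP]; exact hN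
  have h1 : Nat.card NS = Nat.card G := by
    rw [show NS = ⊤ from Subgroup.normalizer_eq_top_iff.mpr inferInstance, Subgroup.card_top]
  rw [hN55, hcard] at h1
  omega

end Cfsg.Agent.Recog
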