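import Cfsg.Agent.Design.GroupsSmall
import Cfsg.Agent.Design.Iso
import Cfsg.Agent.NSE.SharpEleven

/-!
Any two sharply 4-transitive groups of degree eleven are isomorphic: such a group preserves the
S(4,5,11) whose blocks are the orbits on five points of its subgroups of order three.
-/

set_option autoImplicit false
set_option linter.style.haveILetI false
set_option linter.unusedSectionVars false

namespace Cfsg.Agent.Recog.ElevenFour

open MulAction Sharply NSE

variable {G α : Type*} [Group G] [Finite G] [MulAction G α] [Fintype α] [DecidableEq α]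

/-- `e` is the second fixed point of the element of order three moving `a, b, c` cyclically and
fixing `d`. -/
def Good (G : Type*) [Group G] [MulAction G α] (a b c d e : α) : Prop :=
  Distinct4 a b c d ∧ e ≠ d ∧
    ∃ w : G, w • a = b ∧ w • b = c ∧ w • c = a ∧ w • d = d ∧ w • e = e

variable (h : Eleven G α)
include h

theorem orderOf_three {a b c d : α} (hd : Distinct4 a b c d) {w : G} (h1 : w • a = b)
    (h2 : w • b = c) (h3 : w • c = a) (h4 : w • d = d) : orderOf w = 3 := by
  haveI : Fact (Nat.Prime 3) := ⟨Nat.prime_three⟩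
  refine orderOf_eq_prime (h.sharp.key _ a b c d hd ?_ ?_ ?_ ?_)
    (fun e => hd.1 (by rw [← h1, e, one_smul]))
  all_goals simp [pow_succ, mul_smul, h1, h2, h3, h4]

theorem good_unique {a b c d e e' : α} (hg : Good G a b c d e) (hg' : Good G a b c d e') :
    e = e' := by
  obtain ⟨hd, hed, w, h1, h2, h3, h4, h5⟩ := hg
  obtain ⟨-, hed', w', h1', h2', h3', h4', h5'⟩ := hg'
  obtain rfl : w = w' := h.sharp.ext4 hd (h1.trans h1'.symm) (h2.trans h2'.symm)
    (h3.trans h3'.symm) (h4.trans h4'.symm)
  have hf := h.fix_three (orderOf_three h hd h1 h2 h3 h4)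
  have hsub : ({d, e} : Finset α) ⊆ fixSet w := by
    intro x hx
    simp only [Finset.mem_insert, Finset.mem_singleton] at hx
    rcases hx with rfl | rfl <;> exact mem_fixSet.mpr (by assumption)
  have heq := Finset.eq_of_subset_of_card_le hsub
    (by rw [hf, Finset.card_pair (Ne.symm hed)])
  have := mem_fixSet.mpr h5'
  rw [← heq, Finset.mem_insert, Finset.mem_singleton] at this
  exact (this.resolve_left hed').symm

theorem exists_good {a b c d : α} (hd : Distinct4 a b c d) : ∃ e, Good G a b c d e := by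
  obtain ⟨w, h1, h2, h3, h4⟩ := h.sharp.trans a b c d b c a d hd
    ⟨hd.2.2.2.1, hd.1.symm, hd.2.2.2.2.1, hd.2.1.symm, hd.2.2.2.2.2, hd.2.2.1⟩
  have hf := h.fix_three (orderOf_three h hd h1 h2 h3 h4)
  obtain ⟨e, he, hne⟩ := Finset.exists_mem_ne (s := (fixSet w : Finset α)) (by omega) d
  exact ⟨e, hd, hne, w, h1, h2, h3, h4, mem_fixSet.mp he⟩

theorem good_distinct {a b c d e : α} (hg : Good G a b c d e) :
    a ≠ e ∧ b ≠ e ∧ c ≠ e ∧ d ≠ e := by
  obtain ⟨hd, hed, w, h1, h2, h3, h4, h5⟩ := hg
  refine ⟨fun x => hd.1 ?_, fun x => hd.2.2.2.1 ?_, fun x => hd.2.1 ?_, hed.symm⟩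
  · subst x; exact h5.symm.trans h1
  · subst x; exact h5.symm.trans h2
  · subst x; exact h3.symm.trans h5

theorem good_cyc {a b c d e : α} (hg : Good G a b c d e) : Good G b c a d e := by
  obtain ⟨⟨h1, h2, h3, h4, h5, h6⟩, hed, w, w1, w2, w3, w4, w5⟩ := hg
  exact ⟨⟨h4, h1.symm, h5, h2.symm, h6, h3⟩, hed, w, w2, w3, w1, w4, w5⟩

theorem good_swap {a b c d e : α} (hg : Good G a b c d e) : Good G b a c d e := by
  obtain ⟨⟨h1, h2, h3, h4, h5, h6⟩, hed, w, w1, w2, w3, w4, w5⟩ := hg
  exact ⟨⟨h1.symm, h4, h5, h2, h3, h6⟩, hed, w⁻¹, inv_smul_eq_iff.mpr w1.symm,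
    inv_smul_eq_iff.mpr w3.symm, inv_smul_eq_iff.mpr w2.symm, inv_smul_eq_iff.mpr w4.symm,
    inv_smul_eq_iff.mpr w5.symm⟩

theorem good_last {a b c d e : α} (hg : Good G a b c d e) : Good G a b c e d := by
  obtain ⟨n1, n2, n3, n4⟩ := good_distinct h hg
  obtain ⟨⟨h1, h2, h3, h4, h5, h6⟩, hed, w, w1, w2, w3, w4, w5⟩ := hg
  exact ⟨⟨h1, h2, n1, h4, n2, n3⟩, n4, w, w1, w2, w3, w5, w4⟩

theorem fixed_invol {t : G} {a b c d e : α} (hg : Good G a b c d e)
    (t1 : t • a = b) (t2 : t • b = a) (t3 : t • c = c) (t4 : t • d = d) : t • e = e := by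
  obtain ⟨n1, n2, n3, n4⟩ := good_distinct h hg
  obtain ⟨hd, hed, w, w1, w2, w3, w4, w5⟩ := hg
  have htw : t * w = w⁻¹ * t := by
    refine h.sharp.ext4 hd ?_ ?_ ?_ ?_ <;>
      simp only [mul_smul, w1, w2, w3, w4, t1, t2, t3, t4] <;> symm <;> rw [inv_smul_eq_iff] <;>
      simp only [w1, w2, w3, w4]
  have hwe : w • t • e = t • e := by
    have e1 : w⁻¹ • t • e = t • e := by rw [← mul_smul, ← htw, mul_smul, w5]
    exact (inv_smul_eq_iff.mp e1).symm
  have hf := h.fix_three (orderOf_three h hd w1 w2 w3 w4)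
  have hsub : ({d, e} : Finset α) ⊆ fixSet w := by
    intro x hx
    simp only [Finset.mem_insert, Finset.mem_singleton] at hx
    rcases hx with rfl | rfl <;> exact mem_fixSet.mpr (by assumption)
  have heq := Finset.eq_of_subset_of_card_le hsub
    (by rw [hf, Finset.card_pair (Ne.symm hed)])
  have := mem_fixSet.mpr hwe
  rw [← heq, Finset.mem_insert, Finset.mem_singleton] at this
  exact this.resolve_left fun x => hed (MulAction.injective t (x.trans t4.symm))

theorem good_mid {a b c d e : α} (hg : Good G a b c d e) : Good G a b d c e := by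
  obtain ⟨n1, n2, n3, n4⟩ := good_distinct h hg
  have hd := hg.1
  obtain ⟨h1, h2, h3, h4, h5, h6⟩ := hd
  obtain ⟨t, t1, t2, t3, t4⟩ := h.sharp.trans a b c d b a c d hg.1 ⟨h1.symm, h4, h5, h2, h3, h6⟩
  have t5 := fixed_invol h hg t1 t2 t3 t4
  obtain ⟨f, hf⟩ := exists_good h (show Distinct4 a b d c from ⟨h1, h3, h2, h5, h4, h6.symm⟩)
  have t6 := fixed_invol h hf t1 t2 t4 t3
  obtain ⟨m1, m2, m3, m4⟩ := good_distinct h hf
  have ho : orderOf t = 2 := by
    haveI : Fact (Nat.Prime 2) := ⟨Nat.prime_two⟩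
    refine orderOf_eq_prime (h.sharp.key _ a b c d hg.1 ?_ ?_ ?_ ?_)
      (fun x => h1 (by rw [← t1, x, one_smul]))
    all_goals simp [pow_succ, mul_smul, t1, t2, t3, t4]
  have hsub : ({c, d, e} : Finset α) ⊆ fixSet t := by
    intro x hx
    simp only [Finset.mem_insert, Finset.mem_singleton] at hx
    rcases hx with rfl | rfl | rfl <;> exact mem_fixSet.mpr (by assumption)
  have heq := Finset.eq_of_subset_of_card_le hsub
    (by rw [h.fix_invol ho, Finset.card_eq_three.mpr ⟨c, d, e, h6, n3, n4, rfl⟩])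
  have := mem_fixSet.mpr t6
  simp only [← heq, Finset.mem_insert, Finset.mem_singleton] at this
  rcases this with x | x | x
  · exact absurd x.symm m4
  · exact absurd x.symm m3
  · rwa [x] at hf

theorem good_of_mem {p q r u x a b c d : α} (hg : Good G p q r u x) (hd : Distinct4 a b c d)
    (ha : a ∈ ({p, q, r, u} : Finset α)) (hb : b ∈ ({p, q, r, u} : Finset α))
    (hc : c ∈ ({p, q, r, u} : Finset α)) (hd' : d ∈ ({p, q, r, u} : Finset α)) :
    Good G a b c d x := by
  obtain ⟨h1, h2, h3, h4, h5, h6⟩ := hd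
  simp only [Finset.mem_insert, Finset.mem_singleton] at ha hb hc hd'
  -- bring `d` into the fourth place
  obtain ⟨i, j, k, hg1, ha1, hb1, hc1⟩ : ∃ i j k, Good G i j k d x ∧
      (a = i ∨ a = j ∨ a = k) ∧ (b = i ∨ b = j ∨ b = k) ∧ (c = i ∨ c = j ∨ c = k) := by
    rcases hd' with e | e | e | e
    · subst e
      exact ⟨q, r, u, good_mid h (good_cyc h hg), ha.resolve_left h3, hb.resolve_left h5,
        hc.resolve_left h6⟩
    · subst e
      refine ⟨r, p, u, good_mid h (good_cyc h (good_cyc h hg)), ?_, ?_, ?_⟩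
      · rcases ha with e | e | e | e <;> first | exact absurd e h3 | simp [e]
      · rcases hb with e | e | e | e <;> first | exact absurd e h5 | simp [e]
      · rcases hc with e | e | e | e <;> first | exact absurd e h6 | simp [e]
    · subst e
      refine ⟨p, q, u, good_mid h hg, ?_, ?_, ?_⟩
      · rcases ha with e | e | e | e <;> first | exact absurd e h3 | simp [e]
      · rcases hb with e | e | e | e <;> first | exact absurd e h5 | simp [e]
      · rcases hc with e | e | e | e <;> first | exact absurd e h6 | simp [e]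
    · subst e
      refine ⟨p, q, r, hg, ?_, ?_, ?_⟩
      · rcases ha with e | e | e | e <;> first | exact absurd e h3 | simp [e]
      · rcases hb with e | e | e | e <;> first | exact absurd e h5 | simp [e]
      · rcases hc with e | e | e | e <;> first | exact absurd e h6 | simp [e]
  -- bring `c` into the third place
  obtain ⟨v, w, hg2, ha2, hb2⟩ : ∃ v w, Good G v w c d x ∧ (a = v ∨ a = w) ∧ (b = v ∨ b = w) := by
    rcases hc1 with e | e | e
    · subst e
      exact ⟨j, k, good_cyc h hg1, ha1.resolve_left h2, hb1.resolve_left h4⟩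
    · subst e
      refine ⟨k, i, good_cyc h (good_cyc h hg1), ?_, ?_⟩
      · rcases ha1 with e | e | e <;> first | exact absurd e h2 | simp [e]
      · rcases hb1 with e | e | e <;> first | exact absurd e h4 | simp [e]
    · subst e
      exact ⟨i, j, hg1, by rcases ha1 with e | e | e <;> first | exact absurd e h2 | simp [e],
        by rcases hb1 with e | e | e <;> first | exact absurd e h4 | simp [e]⟩
  rcases ha2 with ea | ea <;> rcases hb2 with eb | eb
  · exact absurd (ea.trans eb.symm) h1
  · rw [ea, eb]; exact hg2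
  · rw [ea, eb]; exact good_swap h hg2
  · exact absurd (ea.trans eb.symm) h1

omit h in
/-- The blocks. -/
def blocks (G : Type*) [Group G] [MulAction G α] : Set (Finset α) :=
  {s | ∃ a b c d e, Good G a b c d e ∧ s = {a, b, c, d, e}}

theorem block_erase {p q r u z : α} (hg : Good G p q r u z) {x : α}
    (hx : x ∈ ({p, q, r, u, z} : Finset α)) :
    ∃ a b c d, Good G a b c d x ∧
      ({p, q, r, u, z} : Finset α) = insert x ({a, b, c, d} : Finset α) := by
  simp only [Finset.mem_insert, Finset.mem_singleton] at hx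
  rcases hx with rfl | rfl | rfl | rfl | rfl
  · exact ⟨_, _, _, _, good_last h (good_mid h (good_cyc h hg)), by ext y; simp <;> tauto⟩
  · exact ⟨_, _, _, _, good_last h (good_mid h (good_cyc h (good_cyc h hg))), by ext y; simp; tauto⟩
  · exact ⟨_, _, _, _, good_last h (good_mid h hg), by ext y; simp; tauto⟩
  · exact ⟨_, _, _, _, good_last h hg, by ext y; simp; tauto⟩
  · exact ⟨_, _, _, _, hg, by ext y; simp; tauto⟩

theorem card_block {a b c d e : α} (hg : Good G a b c d e) :
    ({a, b, c, d, e} : Finset α).card = 5 := by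
  obtain ⟨n1, n2, n3, n4⟩ := good_distinct h hg
  obtain ⟨h1, h2, h3, h4, h5, h6⟩ := hg.1
  simp [h1, h2, h3, h4, h5, h6, n1, n2, n3, n4]

theorem steiner : Cfsg.IsSteinerSystem 4 5 (blocks G : Set (Finset α)) := by
  refine ⟨fun s ⟨a, b, c, d, e, hg, hs⟩ => hs ▸ card_block h hg, fun s hs => ?_⟩
  obtain ⟨a, b, c, d, h1, h2, h3, h4, h5, h6, rfl⟩ := Finset.card_eq_four.mp hs
  have hd : Distinct4 a b c d := ⟨h1, h2, h3, h4, h5, h6⟩
  obtain ⟨e, hg⟩ := exists_good h hd
  refine ⟨{a, b, c, d, e}, ⟨⟨a, b, c, d, e, hg, rfl⟩, by intro y; simp; tauto⟩, ?_⟩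
  rintro t ⟨⟨p, q, r, u, z, hg', rfl⟩, hsub⟩
  obtain ⟨x, hx, hxn⟩ : ∃ x, x ∈ ({p, q, r, u, z} : Finset α) ∧ x ∉ ({a, b, c, d} : Finset α) :=
    Finset.exists_mem_notMem_of_card_lt_card (by rw [hs, card_block h hg']; norm_num)
  obtain ⟨p', q', r', u', hg'', heq⟩ := block_erase h hg' hx
  have hin : ∀ y ∈ ({a, b, c, d} : Finset α), y ∈ ({p', q', r', u'} : Finset α) := by
    intro y hy
    have := hsub hy
    rw [heq, Finset.mem_insert] at this
    exact this.resolve_left fun e => hxn (e ▸ hy)
  have hgood := good_of_mem h hg'' hd (hin a (by simp)) (hin b (by simp)) (hin c (by simp))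
    (hin d (by simp))
  obtain rfl := good_unique h hgood hg
  have hsub2 : ({a, b, c, d, x} : Finset α) ⊆ {p, q, r, u, z} := by
    intro y hy
    simp only [Finset.mem_insert, Finset.mem_singleton] at hy
    rcases hy with rfl | rfl | rfl | rfl | rfl <;> first | exact hx | exact hsub (by simp)
  exact (Finset.eq_of_subset_of_card_le hsub2
    (by rw [card_block h hg', card_block h hg])).symm

theorem nonempty_equiv_aut :
    Nonempty (G ≃* Cfsg.setSystemAut (blocks G : Set (Finset α))) := by
  have hmem : ∀ (g : G) (s : Finset α), s ∈ (blocks G : Set (Finset α)) →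
      s.map (toPermHom G α g).toEmbedding ∈ (blocks G : Set (Finset α)) := by
    rintro g s ⟨a, b, c, d, e, ⟨⟨h1, h2, h3, h4, h5, h6⟩, hed, w, w1, w2, w3, w4, w5⟩, rfl⟩
    refine ⟨g • a, g • b, g • c, g • d, g • e, ⟨⟨?_, ?_, ?_, ?_, ?_, ?_⟩, ?_,
      g * w * g⁻¹, ?_, ?_, ?_, ?_, ?_⟩, ?_⟩
    any_goals exact (MulAction.injective g).ne (by assumption)
    any_goals simp only [mul_smul, inv_smul_smul, w1, w2, w3, w4, w5]
    ext y
    simp
  have haut : ∀ g : G, toPermHom G α g ∈ Cfsg.setSystemAut (blocks G : Set (Finset α)) := by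
    intro g
    rw [Design.mem_aut]
    refine fun s => ⟨fun hs => ?_, hmem g s⟩
    have h2 := hmem g⁻¹ _ hs
    have : (s.map (toPermHom G α g).toEmbedding).map (toPermHom G α g⁻¹).toEmbedding = s := by
      ext y; simp
    rwa [this] at h2
  let f := (toPermHom G α).codRestrict _ haut
  have hinj : Function.Injective f := fun g k e => by
    have e' : toPermHom G α g = toPermHom G α k := congrArg Subtype.val e
    exact h.faithful fun a => Equiv.Perm.congr_fun e' a
  have hcard : Nat.card G = Nat.card (Cfsg.setSystemAut (blocks G : Set (Finset α))) := by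
    rw [h.card, Design.card_aut11 (steiner h) h.deg]
  haveI : Fintype G := Fintype.ofFinite G
  haveI : Fintype (Cfsg.setSystemAut (blocks G : Set (Finset α))) := Fintype.ofFinite _
  exact ⟨MulEquiv.ofBijective f ((Fintype.bijective_iff_injective_and_card f).mpr
    ⟨hinj, by rw [← Nat.card_eq_fintype_card, ← Nat.card_eq_fintype_card, hcard]⟩)⟩

theorem nonempty_equiv {H β : Type*} [Group H] [Finite H] [MulAction H β] [Fintype β]
    [DecidableEq β] (h' : Eleven H β) : Nonempty (G ≃* H) := by
  obtain ⟨a⟩ := nonempty_equiv_aut h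
  obtain ⟨b⟩ := nonempty_equiv_aut h'
  obtain ⟨e, he⟩ := Design.exists_iso11 (steiner h) h.deg
  obtain ⟨e', he'⟩ := Design.exists_iso11 (steiner h') h'.deg
  have hmap : ∀ g : Equiv.Perm α, g ∈ Cfsg.setSystemAut (blocks G : Set (Finset α)) ↔
      (e.symm.trans e').permCongr g ∈ Cfsg.setSystemAut (blocks H : Set (Finset β)) := by
    intro g
    rw [Design.mem_aut, Design.mem_aut]
    have key : ∀ s : Finset α, s.map (e.symm.trans e').toEmbedding ∈ (blocks H : Set (Finset β)) ↔
        s ∈ (blocks G : Set (Finset α)) := by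
      intro s
      have h1 : s.map (e.symm.trans e').toEmbedding =
          (s.map e.symm.toEmbedding).map e'.toEmbedding := by rw [Finset.map_map]; rfl
      rw [h1, he', ← he, Design.map_pull]
    constructor
    · intro hg s
      obtain ⟨u, rfl⟩ : ∃ u : Finset α, u.map (e.symm.trans e').toEmbedding = s :=
        ⟨s.map (e.symm.trans e').symm.toEmbedding, by ext y; simp⟩
      rw [key, ← hg u, ← key (u.map g.toEmbedding)]
      refine Iff.of_eq (congrArg (· ∈ (blocks H : Set (Finset β))) ?_)
      rw [Finset.map_map, Finset.map_map]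
      congr 1
      ext y; simp
    · intro hg s
      rw [← key (s.map g.toEmbedding), ← key s, ← hg (s.map (e.symm.trans e').toEmbedding)]
      refine Iff.of_eq (congrArg (· ∈ (blocks H : Set (Finset β))) ?_)
      rw [Finset.map_map, Finset.map_map]
      congr 1
      ext y; simp
  refine ⟨a.trans (MulEquiv.trans ?_ b.symm)⟩
  exact
    { toFun := fun g => ⟨(e.symm.trans e').permCongr g.1, (hmap _).mp g.2⟩
      invFun := fun g => ⟨(e.symm.trans e').permCongr.symm g.1,
        (hmap _).mpr (by rw [Equiv.apply_symm_apply]; exact g.2)⟩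
      left_inv := fun g => Subtype.ext ((e.symm.trans e').permCongr.symm_apply_apply g.1)
      right_inv := fun g => Subtype.ext ((e.symm.trans e').permCongr.apply_symm_apply g.1)
      map_mul' := fun g k => Subtype.ext (by ext y; simp) }

end Cfsg.Agent.Recog.ElevenFour
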