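import Mathlib.GroupTheory.Transfer
import Mathlib.GroupTheory.Perm.Cycle.Type
import Mathlib.GroupTheory.GroupAction.Quotient
import Mathlib.GroupTheory.Nilpotent
import Cfsg.Prelude.Def_Solvable
import Cfsg.Prelude.Def_CaseTheorems
import Cfsg.Agent.TwoGroups.Taussky
import Cfsg.Agent.TwoGroups.MaxClassCriterion
import Cfsg.Agent.TwoGroups.UniqueInvolution

/-!
# Two-groups and transitive groups in which non-identity elements fix at most two points
-/

namespace Cfsg.Agent.Recog.FixityTwo

open MulAction Subgroup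

/-- A permutation all of whose nontrivial cycles have length `o`, an even number of them, is
even. -/
theorem sign_eq_one_of_period {α : Type*} [Fintype α] [DecidableEq α] (f : Equiv.Perm α) (o : ℕ)
    (h : ∀ x ∈ f.support, ∀ n : ℕ, (f ^ n) x = x ↔ o ∣ n) (hd : 2 * o ∣ f.support.card) :
    Equiv.Perm.sign f = 1 := by
  rcases Nat.eq_zero_or_pos o with rfl | ho
  · rw [Nat.mul_zero, zero_dvd_iff, Finset.card_eq_zero, Equiv.Perm.support_eq_empty_iff] at hd
    rw [hd, map_one]
  have hall : ∀ n ∈ f.cycleType, n = o := by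
    intro n hn
    rw [Equiv.Perm.cycleType_def, Multiset.mem_map] at hn
    obtain ⟨c, hc, rfl⟩ := hn
    have hcyc := (Equiv.Perm.mem_cycleFactorsFinset_iff.mp hc).1
    obtain ⟨x, hx⟩ := hcyc.nonempty_support
    have hce := Equiv.Perm.cycle_is_cycleOf hx hc
    have hxf := Equiv.Perm.mem_cycleFactorsFinset_support_le hc hx
    have key : ∀ k : ℕ, orderOf c ∣ k ↔ o ∣ k := fun k => by
      rw [orderOf_dvd_iff_pow_eq_one, hcyc.pow_eq_one_iff' (Equiv.Perm.mem_support.mp hx), hce,
        Equiv.Perm.cycleOf_pow_apply_self, h x hxf k]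
    exact hcyc.orderOf.symm.trans
      (Nat.dvd_antisymm ((key o).mpr dvd_rfl) ((key _).mp dvd_rfl))
  have hrep := Multiset.eq_replicate_of_mem hall
  have hsum : f.cycleType.sum = Multiset.card f.cycleType * o := by
    conv_lhs => rw [hrep]
    simp
  obtain ⟨k, hk⟩ := hd
  rw [← Equiv.Perm.sum_cycleType, hsum] at hk
  have hc2 : Multiset.card f.cycleType = 2 * k :=
    Nat.eq_of_mul_eq_mul_right ho (hk.trans (by ring))
  rw [Equiv.Perm.sign_of_cycleType, hsum, hc2, show 2 * k * o + 2 * k = 2 * (k * o + k) by ring,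
    pow_mul, neg_one_sq, one_pow]

/-- A 2-group with an involution whose centraliser has order four has order four or is dihedral
or semidihedral. -/
theorem dihedral_or_qd {P : Type*} [Group P] [Finite P] (hP : IsPGroup 2 P) {t : P}
    (ht : orderOf t = 2) (hc : Nat.card (centralizer ({t} : Set P)) = 4) :
    Nat.card P = 4 ∨ ((∃ n : ℕ, Nonempty (P ≃* DihedralGroup n)) ∨ Cfsg.IsQuasiDihedral P) := by
  by_cases hna : ∃ x y : P, x * y ≠ y * x
  · have h4 := TwoGroups.index_commutator_of_card_centralizer hP hna hc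
    rcases TwoGroups.cases_of_index_commutator_eq_four hP h4 with h | ⟨n, hn, h | ⟨⟨e⟩⟩ | h⟩
    · exact Or.inl h
    · exact Or.inr (Or.inl ⟨_, h⟩)
    · exfalso
      have hn0 : NeZero (2 ^ (n - 1)) := ⟨by positivity⟩
      have h2 : orderOf (e t) = 2 := by rw [MulEquiv.orderOf_eq, ht]
      have hcen : e t = QuaternionGroup.a ((2 ^ (n - 1) : ℕ) : ZMod (2 * 2 ^ (n - 1))) := by
        rcases he : e t with i | i
        · rw [he] at h2
          have hi : i + i = 0 := by
            have := pow_orderOf_eq_one (QuaternionGroup.a i)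
            rw [h2, pow_two, QuaternionGroup.a_mul_a, QuaternionGroup.one_def] at this
            exact QuaternionGroup.a.inj this
          have hi0 : i ≠ 0 := by
            rintro rfl
            rw [← QuaternionGroup.one_def, orderOf_one] at h2
            exact absurd h2 (by norm_num)
          congr 1
          obtain ⟨k, hk, rfl⟩ : ∃ k : ℕ, k < 2 * 2 ^ (n - 1) ∧
              (k : ZMod (2 * 2 ^ (n - 1))) = i :=
            ⟨i.val, ZMod.val_lt i, ZMod.natCast_zmod_val i⟩
          rw [← Nat.cast_add, ZMod.natCast_eq_zero_iff] at hi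
          have hk0 : k ≠ 0 := fun h => hi0 (by rw [h, Nat.cast_zero])
          obtain ⟨c, hc'⟩ := hi
          have hc1 : c = 1 := by
            rcases c with _ | _ | c
            · omega
            · rfl
            · exfalso; nlinarith
          subst hc1
          congr 1
          omega
        · rw [he, QuaternionGroup.orderOf_xa] at h2
          exact absurd h2 (by norm_num)
      have htop : centralizer ({t} : Set P) = ⊤ := by
        refine eq_top_iff.mpr fun g _ => ?_
        rw [mem_centralizer_singleton_iff]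
        apply e.injective
        rw [map_mul, map_mul, hcen]
        have hneg : -((2 ^ (n - 1) : ℕ) : ZMod (2 * 2 ^ (n - 1))) = ((2 ^ (n - 1) : ℕ) : ZMod _) := by
          rw [neg_eq_iff_add_eq_zero, ← Nat.cast_add, ← two_mul, ZMod.natCast_self]
        rcases e g with i | i
        · rw [QuaternionGroup.a_mul_a, QuaternionGroup.a_mul_a, add_comm]
        · rw [QuaternionGroup.xa_mul_a, QuaternionGroup.a_mul_xa]
          congr 1
          rw [sub_eq_add_neg, hneg]
      rw [htop, Subgroup.card_top, Nat.card_congr e.toEquiv,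
        TwoGroups.nat_card_quaternionGroup] at hc
      have : (2 : ℕ) ^ 1 ≤ 2 ^ (n - 1) := Nat.pow_le_pow_right two_pos (by omega)
      omega
    · exact Or.inr (Or.inr h)
  · left
    push Not at hna
    have htop : centralizer ({t} : Set P) = ⊤ :=
      eq_top_iff.mpr fun g _ => mem_centralizer_singleton_iff.mpr (hna g t)
    rw [← Subgroup.card_top, ← htop, hc]

/-- A group of order four containing two distinct involutions is dihedral. -/
theorem dihedral_of_card_four {P : Type*} [Group P] [Finite P] (h4 : Nat.card P = 4) {a b : P}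
    (ha : orderOf a = 2) (hb : orderOf b = 2) (hab : a * b = b * a) (hne : a ≠ b) :
    ∃ n : ℕ, Nonempty (P ≃* DihedralGroup n) := by
  refine ⟨2, TwoGroups.equiv_dihedral_of_generators (b := b) ha (by rw [h4]) ?_ ?_ ?_⟩
  · intro hmem
    obtain ⟨k, hk⟩ := mem_zpowers_iff.mp hmem
    rw [← zpow_mod_orderOf, ha] at hk
    rcases Int.emod_two_eq_zero_or_one k with e | e <;>
      rw [show k % ((2 : ℕ) : ℤ) = k % 2 from rfl, e] at hk
    · rw [zpow_zero] at hk
      rw [← hk, orderOf_one] at hb
      exact absurd hb (by norm_num)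
    · rw [zpow_one] at hk
      exact hne hk
  · rw [← pow_two, ← hb, pow_orderOf_eq_one]
  · rw [← hab, mul_inv_cancel_right]
    exact eq_inv_of_mul_eq_one_left (by rw [← pow_two, ← ha, pow_orderOf_eq_one])

section TwoGroup

variable {P : Type*} [Group P] [Finite P] {Ω : Type*} [MulAction P Ω]

/-- The structure of a 2-group acting so that non-identity elements fix at most two points,
with respect to a point `a` whose stabiliser is proper and non-trivial. -/
theorem two_group_cases (hP : IsPGroup 2 P)
    (hfix : ∀ g : P, ∀ a b c : Ω, a ≠ b → a ≠ c → b ≠ c →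
      g • a = a → g • b = b → g • c = c → g = 1)
    (a : Ω) (hbot : stabilizer P a ≠ ⊥) (htop : stabilizer P a ≠ ⊤) :
    (((∃ n : ℕ, Nonempty (P ≃* DihedralGroup n)) ∨ Cfsg.IsQuasiDihedral P) ∧
      (Nat.card (stabilizer P a) = 2 ∨ (stabilizer P a).index = 2)) ∨
    ((stabilizer P a).index = 2 ∧ ∃ b : Ω, b ≠ a ∧ (∀ p : P, p • a = a ∨ p • a = b) ∧
      (∀ t ∈ stabilizer P a, t • b = b) ∧
      ∀ c : Ω, c ≠ a → c ≠ b → stabilizer P c = ⊥) := by
  have : Fact (Nat.Prime 2) := ⟨Nat.prime_two⟩
  have := hP.isNilpotent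
  set T := stabilizer P a with hT
  obtain ⟨t0, ht0, ht01⟩ := ((bot_or_exists_ne_one _).resolve_left hbot)
  have hlt := Group.normalizerCondition_of_isNilpotent T (lt_top_iff_ne_top.mpr htop)
  obtain ⟨n0, hn0M, hn0T⟩ := SetLike.exists_of_lt hlt
  have hTfix : ∀ n ∈ normalizer (T : Set P), ∀ t ∈ T, t • (n • a) = n • a := by
    intro n hn t ht
    have hm : n⁻¹ * t * n ∈ T := by
      have := (mem_normalizer_iff.mp (inv_mem hn) t).mp ht
      rwa [inv_inv] at this
    have hm' : (n⁻¹ * t * n) • a = a := hm
    rw [mul_smul, mul_smul, inv_smul_eq_iff] at hm'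
    exact hm'
  set b := n0 • a with hb
  have hba : b ≠ a := fun h => hn0T h
  have hTb : ∀ t ∈ T, t • b = b := hTfix n0 hn0M
  have hfixT : ∀ c : Ω, (∀ t ∈ T, t • c = c) → c = a ∨ c = b := by
    intro c hc
    by_contra hne
    push Not at hne
    exact ht01 (hfix t0 a b c hba.symm hne.1.symm hne.2.symm ht0 (hTb t0 ht0) (hc t0 ht0))
  have hTM : T ≤ normalizer (T : Set P) := le_normalizer
  have hMiff : ∀ n : P, n ∈ normalizer (T : Set P) ↔ n • a = a ∨ n • a = b := by
    refine fun n => ⟨fun hn => hfixT _ (hTfix n hn), ?_⟩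
    rintro (h | h)
    · exact hTM h
    · have hm : n0⁻¹ * n ∈ T := by
        rw [hT, mem_stabilizer_iff, mul_smul, h, hb, inv_smul_smul]
      have := mul_mem hn0M (hTM hm)
      rwa [mul_inv_cancel_left] at this
  have hMswap : ∀ n ∈ normalizer (T : Set P), n • a = b → n • b = a := by
    intro n hn hna
    have h2 : (n * n0) • a = n • b := mul_smul _ _ _
    rcases (hMiff _).mp (mul_mem hn hn0M) with h | h
    · rw [← h2, h]
    · exfalso
      rw [h2] at h
      exact hba (MulAction.injective n (h.trans hna.symm))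
  have hrel : T.relIndex (normalizer (T : Set P)) = 2 := by
    rw [relIndex, index_eq_two_iff]
    refine ⟨⟨n0, hn0M⟩, fun ⟨x, hx⟩ => ?_⟩
    simp only [mem_subgroupOf, Subgroup.coe_mul, hT, mem_stabilizer_iff, mul_smul, ← hb]
    rcases (hMiff x).mp hx with h | h
    · exact Or.inr ⟨h, fun h' => hba (MulAction.injective x (h'.trans h.symm))⟩
    · exact Or.inl ⟨hMswap x hx h, fun h' => hba (h.symm.trans h')⟩
  have hMcard : Nat.card (normalizer (T : Set P)) = 2 * Nat.card T := by
    have h := card_mul_index (T.subgroupOf (normalizer (T : Set P)))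
    rw [← relIndex, hrel, Nat.card_congr (subgroupOfEquivOfLe hTM).toEquiv] at h
    omega
  by_cases hMtop : normalizer (T : Set P) = ⊤
  · have hidx : T.index = 2 := by rw [← relIndex_top_right, ← hMtop, hrel]
    have hall : ∀ p : P, p • a = a ∨ p • a = b := fun p => (hMiff p).mp (hMtop ▸ mem_top p)
    by_cases hfree : ∀ c : Ω, c ≠ a → c ≠ b → stabilizer P c = ⊥
    · exact Or.inr ⟨hidx, b, hba, hall, hTb, hfree⟩
    left
    push Not at hfree
    obtain ⟨c, hca, hcb, hc⟩ := hfree
    obtain ⟨s, hs, hs1⟩ := ((bot_or_exists_ne_one _).resolve_left hc)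
    have hsT : s ∉ T := fun h => hs1 (hfix s a b c hba.symm hca.symm hcb.symm h (hTb s h) hs)
    have hs2T : s * s ∈ T := Subgroup.mul_self_mem_of_index_two hidx s
    have hs2 : s * s = 1 := hfix _ a b c hba.symm hca.symm hcb.symm hs2T (hTb _ hs2T)
      (by rw [mul_smul, hs, hs])
    have hso : orderOf s = 2 := orderOf_eq_prime (by rw [pow_two, hs2]) hs1
    have hTn : T.Normal := normal_of_index_eq_two hidx
    -- the centraliser of `s` meets `T` in a subgroup of order two
    set C := centralizer ({s} : Set P) with hC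
    have hu : ∀ y₁ ∈ C ⊓ T, ∀ y₂ ∈ C ⊓ T, y₁ ≠ 1 → y₂ ≠ 1 → y₁ = y₂ := by
      intro y₁ h₁ y₂ h₂ hy₁ hy₂
      have hmove : ∀ y ∈ C ⊓ T, y ≠ 1 → y • c ≠ c ∧ s • (y • c) = y • c := by
        intro y hy hy1
        refine ⟨fun h => hy1 (hfix y a b c hba.symm hca.symm hcb.symm hy.2 (hTb y hy.2) h), ?_⟩
        rw [← mul_smul, ← (mem_centralizer_singleton_iff.mp hy.1), mul_smul, hs]
      obtain ⟨m₁, f₁⟩ := hmove y₁ h₁ hy₁
      obtain ⟨m₂, f₂⟩ := hmove y₂ h₂ hy₂
      have he : y₁ • c = y₂ • c := by
        by_contra hne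
        exact hs1 (hfix s c _ _ m₁.symm m₂.symm hne hs f₁ f₂)
      have hm : y₁⁻¹ * y₂ ∈ T := mul_mem (inv_mem h₁.2) h₂.2
      have h1 : y₁⁻¹ * y₂ = 1 := hfix _ a b c hba.symm hca.symm hcb.symm hm (hTb _ hm)
        (by rw [mul_smul, ← he, inv_smul_smul])
      exact inv_mul_eq_one.mp h1
    obtain ⟨z, hz, hz1⟩ : ∃ z ∈ C ⊓ T, z ≠ 1 := by
      obtain ⟨z, hzT, hzc, hzo⟩ := TwoGroups.exists_central_involution_of_normal hP T hbot
      exact ⟨z, ⟨center_le_centralizer _ hzc, hzT⟩, fun h => by simp [h] at hzo⟩
    have hCT : Nat.card (C ⊓ T : Subgroup P) = 2 := by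
      rw [Nat.card_eq_two_iff' (1 : (C ⊓ T : Subgroup P))]
      exact ⟨⟨z, hz⟩, fun h => hz1 (Subtype.ext_iff.mp h), fun y hy =>
        Subtype.ext (hu _ y.2 _ hz (fun h => hy (Subtype.ext h)) hz1)⟩
    have hC4 : Nat.card C = 4 := by
      have hsC : s ∈ C := mem_centralizer_singleton_iff.mpr rfl
      have hr : T.relIndex C = 2 := by
        refine ((Nat.dvd_prime Nat.prime_two).mp
          (hidx ▸ relIndex_dvd_index_of_normal T C)).resolve_left fun h => hsT ?_
        exact relIndex_eq_one.mp h hsC
      have h := card_mul_index (T.subgroupOf C)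
      rw [← relIndex, hr, ← inf_subgroupOf_left, Nat.card_congr
        (subgroupOfEquivOfLe (inf_le_left : C ⊓ T ≤ C)).toEquiv, hCT] at h
      omega
    refine ⟨?_, Or.inr hidx⟩
    rcases dihedral_or_qd hP hso hC4 with h4 | h
    · refine Or.inl (dihedral_of_card_four h4 (a := z) (b := s) ?_ hso ?_
        fun h => hsT (h ▸ hz.2))
      · have hz' : orderOf (⟨z, hz⟩ : (C ⊓ T : Subgroup P)) = 2 := by
          refine ((Nat.dvd_prime Nat.prime_two).mp (hCT ▸ orderOf_dvd_natCard _)).resolve_left
            fun h => hz1 ?_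
          exact Subtype.ext_iff.mp (orderOf_eq_one_iff.mp h)
        rwa [← Subgroup.orderOf_coe] at hz'
      · exact mem_centralizer_singleton_iff.mp hz.1
    · exact h
  · left
    have hlt2 := Group.normalizerCondition_of_isNilpotent _ (lt_top_iff_ne_top.mpr hMtop)
    obtain ⟨s, hsN, hsM⟩ := SetLike.exists_of_lt hlt2
    set T' := T.map (MulAut.conj s).toMonoidHom with hT'
    have hT'le : T' ≤ normalizer (T : Set P) := by
      rintro _ ⟨t, ht, rfl⟩
      exact (mem_normalizer_iff.mp hsN t).mp (hTM ht)
    have hdisj : Disjoint T T' := by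
      rw [disjoint_iff, eq_bot_iff]
      rintro x ⟨hx, t, ht, rfl⟩
      by_contra hne
      rw [mem_bot] at hne
      have hsa : (MulAut.conj s).toMonoidHom t • (s • a) = s • a := by
        rw [← mul_smul]
        simp [mul_smul, show t • a = a from ht]
      have hnot : s • a ≠ a ∧ s • a ≠ b := by
        constructor <;> intro h <;> exact hsM ((hMiff s).mpr (by simp [h]))
      exact hne (hfix _ a b (s • a) hba.symm hnot.1.symm hnot.2.symm hx (hTb _ hx) hsa)
    have hcardT' : Nat.card T' = Nat.card T :=
      (Nat.card_congr (equivMapOfInjective T _ (MulAut.conj s).injective).toEquiv).symm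
    have hle : Nat.card T * Nat.card T ≤ 2 * Nat.card T := by
      rw [← hMcard]
      have hinj : Function.Injective (fun g : T × T' =>
          (⟨g.1 * g.2, mul_mem (hTM g.1.2) (hT'le g.2.2)⟩ : normalizer (T : Set P))) :=
        fun x y h => mul_injective_of_disjoint hdisj (congrArg Subtype.val h)
      have := Nat.card_le_card_of_injective _ hinj
      rwa [Nat.card_prod, hcardT'] at this
    have hT1 : Nat.card T ≠ 1 := fun h => hbot (eq_bot_of_card_eq T h)
    have hT2 : Nat.card T = 2 := by
      have := Nat.card_pos (α := T)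
      have := Nat.le_of_mul_le_mul_right hle this
      omega
    have huniq : ∀ t ∈ T, t = 1 ∨ t = t0 := by
      intro t ht
      obtain ⟨w, -, hw⟩ := (Nat.card_eq_two_iff' (1 : T)).mp hT2
      by_cases h : t = 1
      · exact Or.inl h
      · right
        have e1 := hw ⟨t, ht⟩ (fun hh => h (Subtype.ext_iff.mp hh))
        have e2 := hw ⟨t0, ht0⟩ (fun hh => ht01 (Subtype.ext_iff.mp hh))
        exact Subtype.ext_iff.mp (e1.trans e2.symm)
    have hto : orderOf t0 = 2 := by
      have h2 : t0 * t0 = 1 := (huniq _ (mul_mem ht0 ht0)).resolve_right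
        fun h => ht01 (by simpa using h)
      exact orderOf_eq_prime (by rw [pow_two, h2]) ht01
    have hCM : centralizer ({t0} : Set P) = normalizer (T : Set P) := by
      ext g
      rw [mem_centralizer_singleton_iff, mem_normalizer_iff]
      constructor
      · intro hg x
        have hg' : g * t0 * g⁻¹ = t0 := by rw [hg, mul_inv_cancel_right]
        refine ⟨fun hx => ?_, fun hx => ?_⟩
        · rcases huniq x hx with rfl | rfl
          · simp
          · rwa [hg']
        · rcases huniq _ hx with h | h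
          · rw [show x = 1 by simpa using h]; exact one_mem _
          · have : x = t0 := by
              refine mul_left_cancel (a := g) (mul_right_cancel (b := g⁻¹) ?_)
              rw [h, hg']
            rwa [this]
      · intro hg
        rcases huniq _ ((hg t0).mp ht0) with h | h
        · exact absurd (by simpa using h) ht01
        · calc g * t0 = g * t0 * g⁻¹ * g := by group
            _ = t0 * g := by rw [h]
    have hC4 : Nat.card (centralizer ({t0} : Set P)) = 4 := by rw [hCM, hMcard, hT2]
    refine ⟨(dihedral_or_qd hP hto hC4).resolve_left fun h => hMtop ?_, Or.inl hT2⟩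
    exact eq_top_of_card_eq _ (by rw [hMcard, hT2, h])

end TwoGroup

section Global

variable {G : Type*} [Group G] [Finite G] {Ω : Type*} [Fintype Ω] [MulAction G Ω]

/-- An index-two normal subgroup containing the stabiliser part of the Sylow 2-subgroup. -/
theorem exists_index_two (S : Sylow 2 G) (a b : Ω) (hba : b ≠ a)
    (hidx : (stabilizer (S : Subgroup G) a).index = 2)
    (hall : ∀ p : (S : Subgroup G), p • a = a ∨ p • a = b)
    (hTb : ∀ t ∈ stabilizer (S : Subgroup G) a, t • b = b)
    (hfree : ∀ c : Ω, c ≠ a → c ≠ b → stabilizer (S : Subgroup G) c = ⊥)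
    (hdvd : Nat.card (S : Subgroup G) ∣ Nat.card {c : Ω // c ≠ a ∧ c ≠ b}) :
    ∃ N : Subgroup G, N.Normal ∧ N.index = 2 ∧
      ∀ t ∈ (S : Subgroup G), t • a = a → t ∈ N := by
  classical
  have : Fact (Nat.Prime 2) := ⟨Nat.prime_two⟩
  set T := stabilizer (S : Subgroup G) a with hT
  by_cases hcyc : IsCyclic (S : Subgroup G)
  · have h2 : 2 ∣ Nat.card G :=
      (hidx ▸ T.index_dvd_card).trans (card_subgroup_dvd_card (S : Subgroup G))
    have hmin : (Nat.card G).minFac = 2 := (Nat.minFac_eq_two_iff _).mpr h2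
    set f := MonoidHom.transferSylow S (IsCyclic.normalizer_le_centralizer hmin hcyc) with hf
    have hsurj : Function.Surjective f := by
      rw [← MonoidHom.range_eq_top]
      refine eq_top_of_card_eq _ ?_
      rw [← index_ker]
      exact (IsCyclic.isComplement' hmin hcyc).symm.index_eq_card
    have hTn : T.Normal := normal_of_index_eq_two hidx
    refine ⟨T.comap f, hTn.comap f, by rw [index_comap_of_surjective _ hsurj, hidx], ?_⟩
    intro t ht hta
    rw [mem_comap, hf, MonoidHom.transferSylow_eq_pow _ _ t ht, hT, mem_stabilizer_iff]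
    have : (⟨t, ht⟩ : (S : Subgroup G)) ^ (S : Subgroup G).index ∈ T := pow_mem hta _
    exact this
  · set φ : G →* ℤˣ := Equiv.Perm.sign.comp (MulAction.toPermHom G Ω) with hφ
    have hper : ∀ x : (S : Subgroup G), x ≠ 1 → ∀ f : Equiv.Perm Ω,
        (∀ c : Ω, c ≠ a → c ≠ b → f c = x • c) → f a = a → f b = b →
        Equiv.Perm.sign f = 1 := by
      intro x hx f hf hfa hfb
      have hinv : ∀ c : Ω, c ≠ a → c ≠ b → x • c ≠ a ∧ x • c ≠ b := by
        intro c hca hcb
        have hab : ∀ d : Ω, (d = a ∨ d = b) → (x • d = a ∨ x • d = b) := by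
          intro d hd
          rcases hd with hd | hd <;> rw [hd]
          · exact hall x
          · obtain ⟨p, hp⟩ : ∃ p : (S : Subgroup G), p • a = b := by
              by_contra hno
              push Not at hno
              have htop : T = ⊤ := eq_top_iff.mpr fun p _ => (hall p).resolve_right (hno p)
              rw [htop, index_top] at hidx
              exact absurd hidx (by norm_num)
            rw [← hp, ← mul_smul, hp]
            exact hall _
        have hback : ∀ e : Ω, (e = a ∨ e = b) → x • c = e → False := by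
          intro e he hc
          have h1 := hab a (Or.inl rfl)
          have h2 := hab b (Or.inr rfl)
          rcases he with he | he <;> rw [he] at hc
          · rcases h1 with h | h
            · exact hca (MulAction.injective x (hc.trans h.symm))
            · rcases h2 with h' | h'
              · exact hcb (MulAction.injective x (hc.trans h'.symm))
              · exact hba (MulAction.injective x (h'.trans h.symm))
          · rcases h2 with h | h
            · rcases h1 with h' | h'
              · exact hba (MulAction.injective x (h.trans h'.symm))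
              · exact hca (MulAction.injective x (hc.trans h'.symm))
            · exact hcb (MulAction.injective x (hc.trans h.symm))
        exact ⟨fun h => hback a (Or.inl rfl) h, fun h => hback b (Or.inr rfl) h⟩
      have hpow : ∀ (n : ℕ) (c : Ω), c ≠ a → c ≠ b →
          (f ^ n) c = x ^ n • c ∧ x ^ n • c ≠ a ∧ x ^ n • c ≠ b := by
        intro n
        induction n with
        | zero => intro c hca hcb; simp [hca, hcb]
        | succ n ih =>
          intro c hca hcb
          obtain ⟨h1, h2, h3⟩ := ih c hca hcb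
          rw [pow_succ', pow_succ', Equiv.Perm.mul_apply, h1, hf _ h2 h3, mul_smul]
          exact ⟨rfl, hinv _ h2 h3⟩
      have hsupp : f.support = Finset.univ.filter (fun c => c ≠ a ∧ c ≠ b) := by
        ext c
        rw [Equiv.Perm.mem_support, Finset.mem_filter]
        refine ⟨fun h => ⟨Finset.mem_univ _, fun e => h (e ▸ hfa), fun e => h (e ▸ hfb)⟩, ?_⟩
        rintro ⟨-, hca, hcb⟩ h
        rw [hf c hca hcb] at h
        exact hx (mem_bot.mp (hfree c hca hcb ▸ h))
      refine sign_eq_one_of_period f (orderOf x) (fun c hc n => ?_) ?_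
      · rw [hsupp, Finset.mem_filter] at hc
        rw [(hpow n c hc.2.1 hc.2.2).1, orderOf_dvd_iff_pow_eq_one]
        exact ⟨fun h => mem_bot.mp (hfree c hc.2.1 hc.2.2 ▸ h), fun h => by rw [h, one_smul]⟩
      · rw [hsupp, ← Fintype.card_subtype, ← Nat.card_eq_fintype_card]
        refine dvd_trans ?_ hdvd
        obtain ⟨k, hk⟩ := IsPGroup.iff_card.mp S.2
        obtain ⟨j, hj, hj'⟩ := (Nat.dvd_prime_pow Nat.prime_two).mp (hk ▸ orderOf_dvd_natCard x)
        rw [hj', hk, ← pow_succ']
        refine pow_dvd_pow 2 (lt_of_le_of_ne hj fun h => hcyc ?_)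
        exact isCyclic_of_orderOf_eq_card x (by rw [hj', h, hk])
    have hin : ∀ t ∈ (S : Subgroup G), t • a = a → φ t = 1 := by
      intro t ht hta
      by_cases h1 : t = 1
      · rw [h1, map_one]
      · exact hper ⟨t, ht⟩ (fun h => h1 (Subtype.ext_iff.mp h)) _ (fun c _ _ => rfl) hta
          (hTb ⟨t, ht⟩ hta)
    refine ⟨φ.ker, φ.normal_ker, ?_, hin⟩
    obtain ⟨s, hs⟩ : ∃ p : (S : Subgroup G), p • a = b := by
      by_contra hno
      push Not at hno
      have htop : T = ⊤ := eq_top_iff.mpr fun p _ => (hall p).resolve_right (hno p)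
      rw [htop, index_top] at hidx
      exact absurd hidx (by norm_num)
    have hsb : s • b = a := by
      rw [← hs, ← mul_smul]
      exact (hall _).resolve_right fun h => hba (by
        rw [mul_smul, hs] at h
        exact (MulAction.injective s (h.trans hs.symm)))
    have hs1 : φ s = -1 := by
      have hne : s ≠ 1 := by rintro rfl; exact hba (by rw [← hs, one_smul])
      have h := hper s hne (Equiv.swap a b * MulAction.toPerm (s : G)) ?_ ?_ ?_
      · rw [map_mul, Equiv.Perm.sign_swap hba.symm] at h
        change Equiv.Perm.sign (MulAction.toPerm (s : G)) = -1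
        rcases Int.units_eq_one_or (Equiv.Perm.sign (MulAction.toPerm (s : G) : Equiv.Perm Ω)) with e | e
        · rw [e, mul_one] at h; exact absurd h (by decide)
        · exact e
      · intro c hca hcb
        change Equiv.swap a b (s • c) = s • c
        refine Equiv.swap_apply_of_ne_of_ne (fun h => hcb ?_) (fun h => hca ?_)
        · exact MulAction.injective s (h.trans hsb.symm)
        · exact MulAction.injective s (h.trans hs.symm)
      · change Equiv.swap a b (s • a) = a
        rw [hs, Equiv.swap_apply_right]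
      · change Equiv.swap a b (s • b) = b
        rw [hsb, Equiv.swap_apply_left]
    rw [index_ker, MonoidHom.range_eq_top.mpr (fun u => ?_), card_top, Nat.card_eq_fintype_card,
      Fintype.card_units_int]
    rcases Int.units_eq_one_or u with rfl | rfl
    · exact ⟨1, map_one _⟩
    · exact ⟨s, hs1⟩

/-- The transitive group has a subgroup of index two which is a Frobenius group. -/
theorem exists_frobenius_index_two (htr : IsPretransitive G Ω) [FaithfulSMul G Ω]
    (hfix : ∀ g : G, ∀ a b c : Ω, a ≠ b → a ≠ c → b ≠ c →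
      g • a = a → g • b = b → g • c = c → g = 1)
    (S : Sylow 2 G) (a : Ω) (hbot : stabilizer (S : Subgroup G) a ≠ ⊥) {N : Subgroup G}
    (hN : N.Normal) (hN2 : N.index = 2) (hTN : ∀ t ∈ (S : Subgroup G), t • a = a → t ∈ N)
    (hidx : (stabilizer (S : Subgroup G) a).index = 2) (h4 : 4 ∣ Nat.card Ω + 2) :
    ∃ H : Subgroup N, Cfsg.IsFrobeniusComplement H := by
  classical
  have : Fact (Nat.Prime 2) := ⟨Nat.prime_two⟩
  have hcard : Nat.card Ω * Nat.card (stabilizer G a) = Nat.card G := by
    rw [← index_stabilizer_of_transitive (G := G) (x := a), index_mul_card]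
  -- point stabilisers lie in N
  have haN : stabilizer G a ≤ N := by
    intro g hg
    by_contra hgN
    set A := stabilizer G a
    have hr : N.relIndex A = 2 := by
      refine ((Nat.dvd_prime Nat.prime_two).mp
        (hN2 ▸ relIndex_dvd_index_of_normal N A)).resolve_left fun h => hgN ?_
      exact relIndex_eq_one.mp h hg
    have hmul := card_mul_index (N.subgroupOf A)
    rw [← relIndex, hr] at hmul
    have hTA : Nat.card (stabilizer (S : Subgroup G) a) ∣ Nat.card (N.subgroupOf A) := by
      refine card_dvd_of_injective (MonoidHom.mk' (fun t =>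
        (⟨⟨(t.1 : G), t.2⟩, hTN _ t.1.2 t.2⟩ : N.subgroupOf A)) fun x y => rfl) ?_
      intro x y h
      exact Subtype.ext (Subtype.ext (congrArg (fun z : N.subgroupOf A => (z.1 : G)) h))
    have hS : Nat.card (S : Subgroup G) = 2 * Nat.card (stabilizer (S : Subgroup G) a) := by
      rw [← card_mul_index (stabilizer (S : Subgroup G) a), hidx, mul_comm]
    have hdvd : 2 * Nat.card (S : Subgroup G) ∣ Nat.card G := by
      rw [hS, ← hcard, ← hmul, mul_comm (Nat.card (N.subgroupOf A)) 2]
      obtain ⟨k, hk⟩ : 2 ∣ Nat.card Ω := by omega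
      rw [hk, mul_assoc 2 k]
      exact mul_dvd_mul_left 2 ((mul_dvd_mul_left 2 hTA).trans (dvd_mul_left _ _))
    rw [← (S : Subgroup G).card_mul_index, mul_comm 2] at hdvd
    exact S.not_dvd_index' Finite.card_pos.ne' (Nat.dvd_of_mul_dvd_mul_left Nat.card_pos hdvd)
  have hallN : ∀ (c : Ω) (g : G), g • c = c → g ∈ N := by
    intro c g hg
    obtain ⟨h, rfl⟩ := MulAction.exists_smul_eq G a c
    have hm : h⁻¹ * g * h ∈ stabilizer G a := by
      rw [mem_stabilizer_iff, mul_smul, mul_smul, hg, inv_smul_smul]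
    have := hN.conj_mem _ (haN hm) h
    simpa [mul_assoc] using this
  obtain ⟨s, -, hs⟩ : ∃ s : G, s ∈ (⊤ : Subgroup G) ∧ s ∉ N :=
    SetLike.exists_of_lt (lt_top_iff_ne_top.mpr fun h => by
      rw [h, index_top] at hN2; exact absurd hN2 (by norm_num))
  have hdis : ∀ c, c ∈ orbit N a → c ∈ orbit N (s • a) → False := by
    rintro c ⟨x, rfl⟩ ⟨y, hy⟩
    have hy' : ((x : G)⁻¹ * y * s) • a = a := by
      rw [mul_smul, mul_smul]
      exact (congrArg ((x : G)⁻¹ • ·) hy).trans (inv_smul_smul _ _)
    refine hs ?_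
    have := mul_mem (inv_mem (mul_mem (inv_mem x.2) y.2)) (hallN _ _ hy')
    rwa [inv_mul_cancel_left] at this
  have hcov : ∀ c, c ∈ orbit N a ∨ c ∈ orbit N (s • a) := by
    intro c
    obtain ⟨g, rfl⟩ := MulAction.exists_smul_eq G a c
    by_cases hg : g ∈ N
    · exact Or.inl ⟨⟨g, hg⟩, rfl⟩
    · refine Or.inr ⟨⟨g * s⁻¹, ?_⟩, ?_⟩
      · rw [mul_mem_iff_of_index_two hN2]
        simp [hg, hs]
      · change (g * s⁻¹) • (s • a) = g • a
        rw [mul_smul, inv_smul_smul]
  have horb : ∀ c : Ω, Nat.card (orbit N c) = Nat.card (orbit N a) := by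
    intro c
    obtain ⟨g, rfl⟩ := MulAction.exists_smul_eq G a c
    refine Nat.card_congr ((MulAction.toPerm g⁻¹ : Equiv.Perm Ω).subtypeEquiv fun d => ?_)
    constructor
    · rintro ⟨n, rfl⟩
      refine ⟨⟨g⁻¹ * n * g, by simpa using hN.conj_mem _ n.2 g⁻¹⟩, ?_⟩
      change (g⁻¹ * (n : G) * g) • a = g⁻¹ • ((n : G) • (g • a))
      rw [mul_smul, mul_smul]
    · rintro ⟨n, hn⟩
      refine ⟨⟨g * n * g⁻¹, hN.conj_mem _ n.2 g⟩, ?_⟩
      change (g * (n : G) * g⁻¹) • (g • a) = d
      rw [mul_smul, mul_smul, inv_smul_smul]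
      exact (congrArg (g • ·) hn).trans (smul_inv_smul _ _)
  set m := Nat.card (orbit N a) with hm
  have hΩ : Nat.card Ω = 2 * m := by
    have hc : (orbit N (s • a) : Set Ω) = (orbit N a)ᶜ := by
      ext c
      exact ⟨fun h h' => hdis c h' h, fun h => (hcov c).resolve_left h⟩
    rw [← Set.ncard_add_ncard_compl (orbit N a), ← hc, ← Nat.card_coe_set_eq,
      ← Nat.card_coe_set_eq, two_mul]
    exact congrArg (m + ·) (horb _)
  have hmodd : ¬ 2 ∣ m := by omega
  -- a non-identity element of N fixes at most one point of an orbit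
  have hone : ∀ y : N, y ≠ 1 → ∀ c ∈ orbit N a, y • c = c → y • a = a → c = a := by
    intro y hy c hc hyc hya
    by_contra hca
    have hpos : orderOf y ≠ 1 := fun h => hy (orderOf_eq_one_iff.mp h)
    set p := (orderOf y).minFac
    have hp : p.Prime := Nat.minFac_prime hpos
    have : Fact p.Prime := ⟨hp⟩
    set z := y ^ (orderOf y / p) with hz
    have hzo : orderOf z = p := orderOf_pow_orderOf_div (orderOf_pos y).ne' (Nat.minFac_dvd _)
    have hz1 : z ≠ 1 := fun h => hp.one_lt.ne' (by rw [← hzo, h, orderOf_one])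
    have hfx : ∀ d : Ω, y • d = d → z • d = d := fun d hd =>
      pow_mem (show y ∈ stabilizer N d from hd) _
    have hza := hfx a hya
    have hzc := hfx c hyc
    have honly : ∀ d : Ω, z • d = d → d = a ∨ d = c := by
      intro d hd
      by_contra hne
      push Not at hne
      exact hz1 (Subtype.ext (hfix (z : G) a c d (Ne.symm hca) hne.1.symm hne.2.symm hza hzc hd))
    have hP : IsPGroup p (zpowers z) :=
      IsPGroup.of_card (n := 1) (by rw [Nat.card_zpowers, hzo, pow_one])
    have hfp : ∀ (e : Ω) (d : orbit N e),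
        d ∈ fixedPoints (zpowers z) (orbit N e) ↔ z • (d : Ω) = d := by
      intro e d
      refine ⟨fun h => congrArg Subtype.val (h ⟨z, mem_zpowers z⟩), fun h w => ?_⟩
      obtain ⟨i, hi⟩ := mem_zpowers_iff.mp w.2
      apply Subtype.ext
      change (w : N) • (d : Ω) = d
      rw [← hi]
      exact zpow_mem (show z ∈ stabilizer N (d : Ω) from h) i
    have h2 : Nat.card (fixedPoints (zpowers z) (orbit N a)) = 2 := by
      rw [Nat.card_coe_set_eq, Set.ncard_eq_two]
      refine ⟨⟨a, mem_orbit_self a⟩, ⟨c, hc⟩, fun h => hca (congrArg Subtype.val h).symm, ?_⟩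
      ext d
      rw [hfp, Set.mem_insert_iff, Set.mem_singleton_iff, Subtype.ext_iff, Subtype.ext_iff]
      exact ⟨honly _, by rintro (h | h) <;> rw [h] <;> assumption⟩
    have h0 : Nat.card (fixedPoints (zpowers z) (orbit N (s • a))) = 0 := by
      rw [Nat.card_eq_zero]
      refine Or.inl ⟨fun d => ?_⟩
      rcases honly _ ((hfp _ _).mp d.2) with h | h
      · have hd := d.1.2
        rw [h] at hd
        exact hdis a (mem_orbit_self a) hd
      · have hd := d.1.2
        rw [h] at hd
        exact hdis c hc hd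
    have e1 := hP.card_modEq_card_fixedPoints (orbit N a)
    have e2 := hP.card_modEq_card_fixedPoints (orbit N (s • a))
    rw [h2] at e1
    rw [h0, horb] at e2
    have hp2 : p ∣ 2 := Nat.modEq_zero_iff_dvd.mp (e1.symm.trans e2)
    rw [(Nat.prime_dvd_prime_iff_eq hp Nat.prime_two).mp hp2] at e2
    exact hmodd (Nat.modEq_zero_iff_dvd.mp e2)
  refine ⟨stabilizer N a, ?_, ?_, ?_⟩
  · intro hH
    obtain ⟨t, ht, ht1⟩ := ((bot_or_exists_ne_one _).resolve_left hbot)
    have : (⟨(t : G), hTN _ t.2 ht⟩ : N) ∈ stabilizer N a := ht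
    rw [hH, mem_bot] at this
    exact ht1 (Subtype.ext (congrArg (fun z : N => (z : G)) this))
  · intro hH
    obtain ⟨t, ht, ht1⟩ := ((bot_or_exists_ne_one _).resolve_left hbot)
    have hall : ∀ c : Ω, (t : G) • c = c := by
      intro c
      obtain ⟨g, rfl⟩ := MulAction.exists_smul_eq G a c
      have hm : (⟨g⁻¹ * (t : G) * g, by simpa using hN.conj_mem _ (hTN _ t.2 ht) g⁻¹⟩ : N) ∈
          stabilizer N a := hH ▸ mem_top _
      have hm' : (g⁻¹ * (t : G) * g) • a = a := hm
      rw [mul_smul, mul_smul, inv_smul_eq_iff] at hm'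
      exact hm'
    exact ht1 (Subtype.ext (FaithfulSMul.eq_of_smul_eq_smul fun c => by rw [hall c]; simp))
  · intro g hg
    rw [eq_bot_iff]
    intro y hyy
    obtain ⟨hy, hy₀⟩ := mem_inf.mp hyy
    have hy' := mem_pointwise_smul_iff_inv_smul_mem.mp hy₀
    rw [← map_inv, MulAut.smul_def, MulAut.conj_apply, inv_inv] at hy'
    by_contra hne
    have hy1 : y ≠ 1 := fun h => hne (mem_bot.mpr h)
    have hga : y • (g • a) = g • a := by
      have h := mem_stabilizer_iff.mp hy'
      rw [mul_smul, mul_smul, inv_smul_eq_iff] at h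
      exact h
    exact hg (hone y hy1 _ (mem_orbit a g) hga hy)

end Global

end Cfsg.Agent.Recog.FixityTwo
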