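import Cfsg.Agent.Recog.TransCommutant
import Cfsg.Agent.Recog.SymplecticCore
import Cfsg.Agent.LocalEven.ExtraspecialModule
import Cfsg.Agent.Coprime.Conj
import Cfsg.Agent.Cores.Basic
import Cfsg.Agent.Cores.Fitting

/-!
# Huppert's theorem on solvable transitive linear groups: the main dichotomy
-/

namespace Cfsg.Agent.Recog.TransLin

open scoped commutatorElement
set_option linter.style.haveILetI false

variable {p : ℕ} [Fact p.Prime] {V : Type*} [AddCommGroup V] [Module (ZMod p) V] [Finite V]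
  [Nontrivial V] {G : Type*} [Group G] [Finite G]

/-- Some abelian normal subgroup spans a field of the size of the space. -/
def IsGood (ρ : G →* (V ≃ₗ[ZMod p] V)) : Prop :=
  ∃ B : Subgroup G, B.Normal ∧ (∀ a ∈ B, ∀ b ∈ B, a * b = b * a) ∧
    Nat.card (spanOp ρ B) = Nat.card V

theorem IsGood.semilinear {ρ : G →* (V ≃ₗ[ZMod p] V)} (h : IsGood ρ) (htr : IsTrans ρ) :
    ∃ (F : Type) (_ : Field F) (_ : Fintype F) (e : V ≃+ F),
      ∀ g : G, ∃ (a : F) (σ : F ≃+* F), ∀ v : V, e (ρ g v) = a * σ (e v) := by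
  obtain ⟨B, hBn, hB, hc⟩ := h
  exact exists_semilinear ρ htr hBn hB hc

/-- Conjugation preserves commuting with an element fixed by it. -/
theorem conj_commute {y c u : G} (hy : y * c = c * y) (hu : c * u = u * c) :
    c * (y * u * y⁻¹) = y * u * y⁻¹ * c := by
  have hy' : y⁻¹ * c = c * y⁻¹ := (Commute.inv_left hy).eq
  calc c * (y * u * y⁻¹) = y * (c * u) * y⁻¹ := by simp only [← mul_assoc, ← hy]
    _ = y * u * (c * y⁻¹) := by rw [hu]; simp only [mul_assoc]
    _ = y * u * y⁻¹ * c := by rw [← hy']; simp only [mul_assoc]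

variable {ρ : G →* (V ≃ₗ[ZMod p] V)} (hρ : Function.Injective ρ) (htr : IsTrans ρ)
  {A₀ : Subgroup G} (hA₀n : A₀.Normal) (hA₀ : ∀ a ∈ A₀, ∀ b ∈ A₀, a * b = b * a)

include hρ htr hA₀n hA₀

/-- A normal `q`-subgroup of `C(A₀)` not centralised by an element of primitive prime order `r`:
then `q = 2` and `r = n + 1` with `n` a power of two, and `r²` does not divide the order. -/
theorem exceptional_of_not_centralized {r n : ℕ} [Fact r.Prime] (hn : 0 < n)
    (hord : orderOf ((Nat.card (spanOp ρ A₀) : ℕ) : ZMod r) = n)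
    (hV : Nat.card V = Nat.card (spanOp ρ A₀) ^ n)
    {x : G} (hxH : x ∈ Subgroup.centralizer (A₀ : Set G)) (hxo : orderOf x = r)
    {q : ℕ} [Fact q.Prime] {Q : Subgroup G} (hQn : Q.Normal) (hQ : IsPGroup q Q)
    (hQH : Q ≤ Subgroup.centralizer (A₀ : Set G)) (hnc : ¬ ∀ u ∈ Q, x * u = u * x) :
    p ≠ 2 ∧ r = n + 1 ∧ ∃ m : ℕ, n = 2 ^ m ∧
      ¬ r ^ 2 ∣ Nat.card (Subgroup.centralizer (A₀ : Set G)) ∧
      ∃ Q' : Subgroup G, Q'.Normal ∧ IsPGroup 2 Q' ∧ 2 * n ^ 2 ∣ Nat.card Q' := by
  classical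
  set H := Subgroup.centralizer (A₀ : Set G) with hH
  have hHn : H.Normal := by have := hA₀n; exact Subgroup.normal_centralizer
  have hrp : r.Prime := Fact.out
  have hqp : q.Prime := Fact.out
  obtain ⟨hcomm, hordr⟩ := centralizer_facts hρ htr hA₀n hA₀ hn hord hV hxH hxo
  have hpres : ∀ y, y ∈ Subgroup.zpowers x → ∀ u : G, x * u = u * x → y * u = u * y := by
    intro y hy u hu
    obtain ⟨k, rfl⟩ := Subgroup.mem_zpowers_iff.mp hy
    exact ((show Commute x u from hu).zpow_left k).eq
  -- the prime `q` differs from `p` and `r`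
  have hqp' : q ≠ p := by
    rintro rfl
    rw [eq_bot_of_isPGroup ρ hρ htr hQn hQ] at hnc
    exact hnc fun u hu => by rw [Subgroup.mem_bot] at hu; rw [hu, mul_one, one_mul]
  have hSylow : ∀ R : Sylow r H, ∀ a ∈ (R : Subgroup H), ∀ b ∈ (R : Subgroup H), a * b = b * a := by
    intro R a ha b hb
    rcases (R : Subgroup H).bot_or_nontrivial with hR | hR
    · rw [hR, Subgroup.mem_bot] at ha hb
      rw [ha, hb]
    obtain ⟨⟨z, hz⟩, hzo⟩ := exists_prime_orderOf_dvd_card' r
      (G := Subgroup.center (R : Subgroup H)) (by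
        have h1 := R.isPGroup'.center_nontrivial
        obtain ⟨k, hk0, hk⟩ :=
          (R.isPGroup'.to_subgroup (Subgroup.center (R : Subgroup H))).nontrivial_iff_card.mp h1
        exact hk ▸ dvd_pow_self r hk0.ne')
    rw [Subgroup.orderOf_mk, ← Subgroup.orderOf_coe, ← Subgroup.orderOf_coe] at hzo
    have hzc : ∀ c ∈ (R : Subgroup H), (c : G) * ((z : H) : G) = ((z : H) : G) * (c : G) := fun c hc =>
      congrArg (fun u : (R : Subgroup H) => ((u : H) : G)) (Subgroup.mem_center_iff.mp hz ⟨c, hc⟩)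
    exact Subtype.ext ((centralizer_facts hρ htr hA₀n hA₀ hn hord hV (z : H).2 hzo).1 a a.2 b b.2
      (hzc a ha) (hzc b hb))
  obtain ⟨R, hR⟩ : ∃ R : Sylow r H, (⟨x, hxH⟩ : H) ∈ (R : Subgroup H) := by
    obtain ⟨R, hR⟩ := (IsPGroup.of_card (n := 1) (p := r)
      (G := Subgroup.zpowers (⟨x, hxH⟩ : H)) (by rw [Nat.card_zpowers, Subgroup.orderOf_mk, hxo, pow_one])).exists_le_sylow
    exact ⟨R, hR (Subgroup.mem_zpowers _)⟩
  have hqr : q ≠ r := by
    rintro rfl
    refine hnc fun u hu => ?_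
    have hQ' : IsPGroup q (Q.subgroupOf H) :=
      hQ.of_equiv (Subgroup.subgroupOfEquivOfLe hQH).symm
    have hle : Q.subgroupOf H ≤ Cfsg.pCore q H :=
      Cores.le_pCore (hQn.subgroupOf H) hQ'
    exact congrArg Subtype.val (hSylow R ⟨x, hxH⟩ hR ⟨u, hQH hu⟩
      (Cores.pCore_le_sylow R (hle (show (⟨u, hQH hu⟩ : H) ∈ Q.subgroupOf H from hu))))
  have hcopQ : ∀ N : Subgroup G, N ≤ Q →
      (Nat.card (Subgroup.zpowers x)).Coprime (Nat.card N) := by
    intro N hN
    rw [Nat.card_zpowers, hxo]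
    obtain ⟨k, hk⟩ := IsPGroup.iff_card.mp (hQ.to_le hN)
    rw [hk]
    exact Nat.Coprime.pow_right k ((Nat.coprime_primes hrp hqp).mpr hqr.symm)
  have hsolv : ∀ N : Subgroup G, Group.IsSolvable (Subgroup.zpowers x) ∨ Group.IsSolvable N :=
    fun _ => Or.inl (Group.isSolvable_of_comm fun a b => mul_comm' a b)
  -- abelian normal subgroups inside `Q` are central in `Q`
  have hcen : ∀ A : Subgroup G, A.Normal → (∀ a ∈ A, ∀ b ∈ A, a * b = b * a) → A ≤ Q →
      ∀ a ∈ A, ∀ u ∈ Q, a * u = u * a := by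
    intro A hAn hA hAQ a ha u hu
    have hxa := commute_of_abelian_normal hρ htr hA₀n hA₀ hn hord hV hxH hxo hAn hA (hAQ.trans hQH)
    set N := Q ⊓ Subgroup.centralizer (A : Set G) with hN
    have hNn : N.Normal := by
      have := hAn
      have := hQn
      exact Subgroup.normal_inf_normal Q (Subgroup.centralizer (A : Set G))
    have hxN : Subgroup.zpowers x ≤ Subgroup.normalizer (N : Set G) := by
      rw [Subgroup.normalizer_eq_top_iff.mpr hNn]; exact le_top
    obtain ⟨c, hc, hcN⟩ := Coprime.exists_fixed_of_invariant_coset hxN (hcopQ N inf_le_left)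
      (hsolv N) (g := u) (fun y hy => by
        refine ⟨?_, Subgroup.mem_centralizer_iff.mpr fun b hb => ?_⟩
        · rw [show u⁻¹ * y * u * y⁻¹ = u⁻¹ * (y * u * y⁻¹) by group]
          exact Q.mul_mem (Q.inv_mem hu) (hQn.conj_mem u hu y)
        · have hyb : y * b = b * y := hpres y hy b (hxa b hb)
          have hub : y * (u * b * u⁻¹) = u * b * u⁻¹ * y :=
            hpres y hy _ (hxa _ (hAn.conj_mem b hb u))
          calc b * (u⁻¹ * y * u * y⁻¹) = u⁻¹ * (u * b * u⁻¹ * y) * u * y⁻¹ := by group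
            _ = u⁻¹ * y * u * (b * y⁻¹) := by rw [← hub]; group
            _ = u⁻¹ * y * u * (y⁻¹ * b) := by rw [← (Commute.inv_left hyb).eq]
            _ = (u⁻¹ * y * u * y⁻¹) * b := by group)
    have hcx : c * x = x * c :=
      ((Subgroup.mem_centralizer_iff.mp hc) x (Subgroup.mem_zpowers x)).symm
    have hcQ : c ∈ Q := by
      have := mul_mem hu hcN.1
      rwa [mul_inv_cancel_left] at this
    have h1 : c * a = a * c := hcomm c (hQH hcQ) a (hQH (hAQ ha)) hcx (hxa a ha).symm
    have h2 : a * (u⁻¹ * c) = (u⁻¹ * c) * a := Subgroup.mem_centralizer_iff.mp hcN.2 a ha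
    have h3 : Commute a (c * (u⁻¹ * c)⁻¹) :=
      (show Commute a c from h1.symm).mul_right (show Commute a (u⁻¹ * c) from h2).inv_right
    simpa using h3.eq
  -- the structure of `Q`
  have hchar : ∀ A : Subgroup Q, A.Characteristic → (A.map Q.subtype).Normal := fun A hA => by
    have := hA
    have := hQn
    exact Cores.normal_map_subtype_of_characteristic A
  have hmapab : ∀ A : Subgroup Q, (∀ a ∈ A, ∀ b ∈ A, a * b = b * a) →
      ∀ a ∈ A.map Q.subtype, ∀ b ∈ A.map Q.subtype, a * b = b * a := by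
    rintro A hA _ ⟨a, ha, rfl⟩ _ ⟨b, hb, rfl⟩
    exact congrArg Q.subtype (hA a ha b hb)
  obtain ⟨hc2, hcq, -⟩ := SympCore.classTwo_of_char_abelian_central hQ (fun A hA hAc a ha => by
    refine Subgroup.mem_center_iff.mpr fun u => Subtype.ext ?_
    exact (hcen _ (hchar A hA)
      (hmapab A fun a ha b hb => congrArg Subtype.val (hAc.is_comm.comm ⟨a, ha⟩ ⟨b, hb⟩))
      (Subgroup.map_subtype_le A) a ⟨a, ha, rfl⟩ u u.2).symm)
  have hnab : ∃ u v : Q, ⁅u, v⁆ ≠ 1 := by
    by_contra hcon
    push Not at hcon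
    refine hnc (commute_of_abelian_normal hρ htr hA₀n hA₀ hn hord hV hxH hxo hQn ?_ hQH)
    intro a ha b hb
    exact congrArg Subtype.val (commutatorElement_eq_one_iff_mul_comm.mp (hcon ⟨a, ha⟩ ⟨b, hb⟩))
  set C := commutator Q with hCdef
  have hmemC : ∀ u v : Q, ⁅u, v⁆ ∈ C := fun u v =>
    Subgroup.commutator_mem_commutator (Subgroup.mem_top u) (Subgroup.mem_top v)
  have hCZ : C ≤ Subgroup.center Q := by
    rw [hCdef, commutator_def, Subgroup.commutator_le]
    exact fun u _ v _ => hc2 u v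
  have hCexp : ∀ c ∈ C, c ^ q = 1 := by
    intro c hc
    rw [hCdef, commutator_eq_closure] at hc
    induction hc using Subgroup.closure_induction with
    | mem y hy =>
      obtain ⟨u, v, rfl⟩ := hy
      exact hcq u v
    | one => exact one_pow q
    | mul a b ha hb iha ihb =>
      have : Commute a b :=
        (Subgroup.mem_center_iff.mp (hCZ (by rw [hCdef, commutator_eq_closure]; exact hb)) a)
      rw [this.mul_pow, iha, ihb, one_mul]
    | inv a _ iha => rw [inv_pow, iha, inv_one]
  have hCcard : Nat.card C = q := by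
    have hcyc : IsCyclic (C.map Q.subtype) := isCyclic_of_normal htr (hchar C inferInstance)
      (hmapab C fun a _ b hb => Subgroup.mem_center_iff.mp (hCZ hb) a) hρ
    have hcyc' : IsCyclic C :=
      isCyclic_of_injective (C.equivMapOfInjective Q.subtype Q.subtype_injective).toMonoidHom
        (MulEquiv.injective _)
    obtain ⟨g, hg⟩ := hcyc'.exists_generator
    have hgo : orderOf g = Nat.card C := orderOf_eq_card_of_forall_mem_zpowers hg
    have hgq : g ^ q = 1 := Subtype.ext (by
      rw [SubmonoidClass.coe_pow, OneMemClass.coe_one]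
      exact hCexp _ g.2)
    rcases hqp.eq_one_or_self_of_dvd _ (hgo ▸ orderOf_dvd_of_pow_eq_one hgq) with h | h
    · exfalso
      obtain ⟨u, v, huv⟩ := hnab
      have := (Subgroup.eq_bot_of_card_eq C h)
      exact huv (Subgroup.mem_bot.mp (this ▸ hmemC u v))
    · exact h
  obtain ⟨m, hm⟩ := SympCore.exists_index_center_eq_sq C hCZ hCcard hmemC
  have hm0 : m ≠ 0 := by
    rintro rfl
    rw [pow_zero, one_pow, Subgroup.index_eq_one] at hm
    obtain ⟨u, v, huv⟩ := hnab
    refine huv (commutatorElement_eq_one_iff_mul_comm.mpr ?_)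
    exact Subgroup.mem_center_iff.mp (hm ▸ Subgroup.mem_top v) u
  set Z := Subgroup.center Q with hZdef
  set ZQ := Z.map Q.subtype with hZQ
  have hZQn : ZQ.Normal := hchar Z inferInstance
  have hZQab : ∀ a ∈ ZQ, ∀ b ∈ ZQ, a * b = b * a :=
    hmapab Z fun a _ b hb => Subgroup.mem_center_iff.mp hb a
  have hZQQ : ZQ ≤ Q := Subgroup.map_subtype_le Z
  have hxZ := commute_of_abelian_normal hρ htr hA₀n hA₀ hn hord hV hxH hxo hZQn hZQab
    (hZQQ.trans hQH)
  -- the fixed points of `x` on `Q` are central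
  have hfix : ∀ c : Q, x * (c : G) = (c : G) * x → c ∈ Z := by
    intro c hc
    refine Subgroup.mem_center_iff.mpr fun u => ?_
    set M := Q ⊓ Subgroup.centralizer ({(c : G)} : Set G) with hMdef
    have hMmem : ∀ v : G, v ∈ M ↔ v ∈ Q ∧ (c : G) * v = v * (c : G) := fun v => by
      rw [hMdef, Subgroup.mem_inf, Subgroup.mem_centralizer_singleton_iff]; exact ⟨fun h => ⟨h.1, h.2.symm⟩, fun h => ⟨h.1, h.2.symm⟩⟩
    have hxM : Subgroup.zpowers x ≤ Subgroup.normalizer (M : Set G) := by
      have hmove : ∀ y ∈ Subgroup.zpowers x, ∀ v ∈ M, y * v * y⁻¹ ∈ M := fun y hy v hv =>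
        (hMmem _).mpr ⟨hQn.conj_mem v ((hMmem v).mp hv).1 y,
          conj_commute (hpres y hy _ hc) ((hMmem v).mp hv).2⟩
      intro y hy
      rw [Subgroup.mem_normalizer_iff]
      refine fun v => ⟨hmove y hy v, fun h => ?_⟩
      have := hmove y⁻¹ (inv_mem hy) _ h
      simpa [mul_assoc] using this
    obtain ⟨d, hd, hdM⟩ := Coprime.exists_fixed_of_invariant_coset hxM (hcopQ M inf_le_left)
      (hsolv M) (g := (u : G)) (fun y hy => by
        have hyc : y * (c : G) = (c : G) * y := hpres y hy _ hc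
        rw [show (u : G)⁻¹ * y * u * y⁻¹ = (u : G)⁻¹ * (y * u * y⁻¹) by group, hMmem]
        have hu' : y * (u : G) * y⁻¹ ∈ Q := hQn.conj_mem _ u.2 y
        refine ⟨mul_mem (inv_mem u.2) hu', ?_⟩
        set u' : Q := ⟨y * (u : G) * y⁻¹, hu'⟩
        have hcu : ⁅(c : G), (u' : G)⁆ = ⁅(c : G), (u : G)⁆ := by
          show ⁅(c : G), y * (u : G) * y⁻¹⁆ = _
          have hmem : ((⁅c, u⁆ : Q) : G) ∈ ZQ := ⟨_, hc2 c u, rfl⟩
          have h1 : y * ⁅(c : G), (u : G)⁆ = ⁅(c : G), (u : G)⁆ * y :=
            hpres y hy _ (hxZ _ hmem)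
          calc ⁅(c : G), y * (u : G) * y⁻¹⁆ = y * ⁅y⁻¹ * (c : G) * y, (u : G)⁆ * y⁻¹ := by
                rw [commutatorElement_def, commutatorElement_def]; group
            _ = y * ⁅(c : G), (u : G)⁆ * y⁻¹ := by rw [mul_assoc y⁻¹, ← hyc, inv_mul_cancel_left]
            _ = ⁅(c : G), (u : G)⁆ := by rw [h1, mul_inv_cancel_right]
        have hcu' : ⁅c, u'⁆ = ⁅c, u⁆ := Subtype.ext hcu
        have h0 : ⁅c, u⁻¹ * u'⁆ = 1 := by
          rw [PGroup.commutatorElement_mul_right (hc2 c u'),
            PGroup.commutatorElement_inv_right (hc2 c u), hcu', inv_mul_cancel]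
        exact congrArg Subtype.val (commutatorElement_eq_one_iff_mul_comm.mp h0))
    have hdx : d * x = x * d :=
      ((Subgroup.mem_centralizer_iff.mp hd) x (Subgroup.mem_zpowers x)).symm
    obtain ⟨hdQ', hdc⟩ := (hMmem _).mp hdM
    have hdQ : d ∈ Q := by
      have := mul_mem u.2 hdQ'
      rwa [mul_inv_cancel_left] at this
    have h1 : d * c = c * d := hcomm d (hQH hdQ) c (hQH c.2) hdx hc.symm
    have h3 : Commute (c : G) (d * ((u : G)⁻¹ * d)⁻¹) :=
      (show Commute (c : G) d from h1.symm).mul_right (show Commute (c : G) ((u : G)⁻¹ * d) from hdc).inv_right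
    exact Subtype.ext (by simpa using h3.eq.symm)
  -- counting fixed points
  let act : MulAction (Subgroup.zpowers x) Q :=
    MulAction.compHom Q ((MulAut.conjNormal (H := Q)).comp (Subgroup.zpowers x).subtype)
  have hact : ∀ (y : Subgroup.zpowers x) (u : Q),
      ((y • u : Q) : G) = (y : G) * u * (y : G)⁻¹ := fun y u => MulAut.conjNormal_apply _ _
  have hfixed : MulAction.fixedPoints (Subgroup.zpowers x) Q = (Z : Set Q) := by
    ext u
    rw [MulAction.mem_fixedPoints, SetLike.mem_coe]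
    refine ⟨fun h => hfix u ?_, fun h y => Subtype.ext ?_⟩
    · have := congrArg Subtype.val (h ⟨x, Subgroup.mem_zpowers x⟩)
      rw [hact] at this
      exact mul_inv_eq_iff_eq_mul.mp this
    · rw [hact]
      exact mul_inv_eq_iff_eq_mul.mpr (hpres y y.2 u (hxZ u ⟨u, h, rfl⟩))
  have hmodr : Nat.card Q ≡ Nat.card Z [MOD r] := by
    have hP : IsPGroup r (Subgroup.zpowers x) :=
      IsPGroup.of_card (n := 1) (by rw [Nat.card_zpowers, hxo, pow_one])
    have h := hP.card_modEq_card_fixedPoints Q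
    rwa [hfixed] at h
  have hQcard : Nat.card Q = Nat.card Z * (q ^ m) ^ 2 := by rw [← hm, Z.card_mul_index]
  set s := q ^ m with hs
  have hs2 : 2 ≤ s := hqp.two_le.trans (Nat.le_self_pow hm0 q)
  have hrZ : ¬ r ∣ Nat.card Z := by
    obtain ⟨k, hk⟩ := IsPGroup.iff_card.mp (hQ.to_subgroup Z)
    rw [hk]
    exact fun h => hqr ((Nat.prime_dvd_prime_iff_eq hrp hqp).mp (hrp.dvd_of_dvd_pow h)).symm
  have hr1 : r ∣ s ^ 2 - 1 := by
    have h1 : r ∣ Nat.card Z * (s ^ 2 - 1) := by
      rw [Nat.mul_sub, mul_one, ← hQcard]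
      exact (Nat.modEq_iff_dvd' (by rw [hQcard]; exact Nat.le_mul_of_pos_right _ (by positivity))).mp
        hmodr.symm
    exact (hrp.dvd_mul.mp h1).resolve_left hrZ
  -- the bound
  have hsn : s ≤ n := by
    set B := A₀ ⊔ ZQ with hBdef
    have hBn : B.Normal := Subgroup.sup_normal A₀ ZQ
    have hcentB : ∀ u ∈ Q, B ≤ Subgroup.centralizer ({u} : Set G) := by
      intro u hu
      rw [hBdef, sup_le_iff]
      refine ⟨fun a ha => ?_, fun a ha => ?_⟩
      · rw [Subgroup.mem_centralizer_singleton_iff]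
        exact (Subgroup.mem_centralizer_iff.mp (hQH hu) a ha)
      · obtain ⟨a', ha', rfl⟩ := ha
        rw [Subgroup.mem_centralizer_singleton_iff]
        exact (congrArg Subtype.val (Subgroup.mem_center_iff.mp ha' ⟨u, hu⟩)).symm
    have hB : ∀ a ∈ B, ∀ b ∈ B, a * b = b * a := by
      have h : B ≤ Subgroup.centralizer (B : Set G) := by
        rw [hBdef, sup_le_iff, Subgroup.le_centralizer_iff, Subgroup.le_centralizer_iff (H := ZQ)]
        refine ⟨?_, ?_⟩ <;> rw [sup_le_iff] <;> refine ⟨?_, ?_⟩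
        · exact fun a ha => Subgroup.mem_centralizer_iff.mpr fun b hb => hA₀ b hb a ha
        · exact hZQQ.trans hQH
        · exact Subgroup.le_centralizer_iff.mp (hZQQ.trans hQH)
        · exact fun a ha => Subgroup.mem_centralizer_iff.mpr fun b hb => hZQab b hb a ha
      exact fun a ha b hb => Subgroup.mem_centralizer_iff.mp (h hb) a ha
    have hk : ∀ u : Q, ∀ b ∈ B, (u : G) * b = b * (u : G) := fun u b hb =>
      (Subgroup.mem_centralizer_singleton_iff.mp (hcentB u u.2 hb)).symm
    letI : Field (spanOp ρ B) := (span_isField htr hBn hB).toField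
    let σ : Q →* Module.End (spanOp ρ B) V :=
      { toFun := fun u =>
          { toFun := fun v => ρ (u : G) v
            map_add' := map_add (ρ (u : G))
            map_smul' := fun k v => LinearMap.congr_fun (commute_span ρ (hk u) k.2) v }
        map_one' := LinearMap.ext fun v => by simp
        map_mul' := fun a b => LinearMap.ext fun v => by
          show ρ ((a : G) * b) v = _
          rw [map_mul]
          rfl }
    have hle := LocalEven.Extraspecial.card_le_sq (K := spanOp ρ B) (W := V) σ (fun u hu => by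
        refine ⟨⟨op ρ u, op_mem_span ρ (Subgroup.mem_sup_right ⟨u, hu, rfl⟩)⟩, LinearMap.ext fun v => rfl⟩)
      (fun u _ hu => Subtype.ext (hρ (LinearEquiv.ext fun v => by
        have := LinearMap.congr_fun hu v
        rw [OneMemClass.coe_one, map_one]
        exact this)))
      (by rw [commutator_def, Subgroup.commutator_le]; exact fun a _ b _ => hc2 a b)
    rw [← Subgroup.index_eq_card, hm] at hle
    refine ((Nat.pow_le_pow_iff_left two_ne_zero).mp hle).trans ?_
    obtain ⟨j, hj0, hj⟩ := card_span_eq_pow htr hA₀n hA₀ hBn hB le_sup_left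
    have : FiniteDimensional (spanOp ρ B) V := Module.Finite.of_finite
    have h := Module.natCard_eq_pow_finrank (K := spanOp ρ B) (V := V)
    rw [hV, hj, ← pow_mul] at h
    have h1 : 1 < Nat.card (spanOp ρ A₀) := by
      by_contra hcon
      have h1 : Nat.card (spanOp ρ A₀) = 1 := le_antisymm (by omega) Nat.card_pos
      rw [h1, one_pow] at hV
      exact (Finite.one_lt_card (α := V)).ne' hV
    have h2 : n = j * Module.finrank (spanOp ρ B) V := Nat.pow_right_injective h1 h
    rw [h2]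
    exact Nat.le_mul_of_pos_left _ hj0
  have hnr : n < r := Arith.lt_of_orderOf_eq hn hord
  have hrs : r = s + 1 := by
    have h1 : r ∣ (s + 1) * (s - 1) := by
      rwa [← Nat.sq_sub_sq, one_pow]
    rcases hrp.dvd_mul.mp h1 with h | h
    · exact le_antisymm (Nat.le_of_dvd (by omega) h) (by omega)
    · have := Nat.le_of_dvd (by omega) h
      omega
  have hsn' : s = n := by omega
  have hq2 : q = 2 := by
    rcases hqp.eq_two_or_odd' with h | h
    · exact h
    · exfalso
      have h2 : Even r := by rw [hrs]; exact (h.pow).add_one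
      have := hrp.even_iff.mp h2
      omega
  subst hq2
  refine ⟨hqp'.symm, by omega, m, hsn'.symm, ?_, Q, hQn, hQ, ?_⟩
  · -- `r²` does not divide the order of `C(A₀)`
    intro hr2
    have hRcard : r ^ 2 ∣ Nat.card (R : Subgroup H) := R.pow_dvd_card_of_pow_dvd_card hr2
    obtain ⟨y, hyR, hy⟩ : ∃ y : H, y ∈ (R : Subgroup H) ∧ y ^ r ≠ 1 := by
      by_contra hcon
      push Not at hcon
      have hle : (R : Subgroup H).map H.subtype ≤ Subgroup.zpowers x := by
        rintro _ ⟨a, ha, rfl⟩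
        exact hordr a a.2 (congrArg Subtype.val (hSylow R a ha ⟨x, hxH⟩ hR))
          (congrArg Subtype.val (hcon a ha))
      have h1 := Subgroup.card_le_of_le hle
      rw [Subgroup.card_map_of_injective H.subtype_injective, Nat.card_zpowers, hxo] at h1
      have h2 := Nat.le_of_dvd Nat.card_pos hRcard
      have : r ^ 1 < r ^ 2 := Nat.pow_lt_pow_right hrp.one_lt (by norm_num)
      rw [pow_one] at this
      omega
    obtain ⟨k, hk⟩ := IsPGroup.iff_orderOf.mp R.isPGroup' ⟨y, hyR⟩
    rw [Subgroup.orderOf_mk] at hk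
    have hk2 : 2 ≤ k := by
      by_contra hcon
      apply hy
      rw [← orderOf_dvd_iff_pow_eq_one, hk]
      exact (Nat.pow_dvd_pow r (by omega : k ≤ 1)).trans (by rw [pow_one])
    set w := y ^ (r ^ (k - 2)) with hw
    have hwR : w ∈ (R : Subgroup H) := pow_mem hyR _
    have hwo : orderOf (w : G) = r ^ 2 := by
      rw [Subgroup.orderOf_coe, hw, orderOf_pow' _ (pow_ne_zero _ hrp.ne_zero), hk,
        Nat.gcd_eq_right (Nat.pow_dvd_pow r (by omega)), Nat.pow_div (by omega) hrp.pos]
      congr 1; omega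
    have hwx : (w : G) * x = x * (w : G) := congrArg Subtype.val (hSylow R w hwR ⟨x, hxH⟩ hR)
    have hwH : ∀ z ∈ Subgroup.zpowers (w : G), z ∈ H := fun z hz =>
      (Subgroup.zpowers_le.mpr w.2) hz
    have hzx : ∀ z ∈ Subgroup.zpowers (w : G), z * x = x * z := by
      rintro z hz
      obtain ⟨i, rfl⟩ := Subgroup.mem_zpowers_iff.mp hz
      exact ((show Commute (w : G) x from hwx).zpow_left i).eq
    let act' : MulAction (Subgroup.zpowers (w : G)) Q :=
      MulAction.compHom Q ((MulAut.conjNormal (H := Q)).comp (Subgroup.zpowers (w : G)).subtype)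
    have hact' : ∀ (z : Subgroup.zpowers (w : G)) (u : Q),
        ((z • u : Q) : G) = (z : G) * u * (z : G)⁻¹ := fun z u => MulAut.conjNormal_apply _ _
    have hfree : ∀ z : Subgroup.zpowers (w : G), z ≠ 1 →
        MulAction.fixedBy Q z = (Z : Set Q) := by
      intro z hz
      ext u
      rw [MulAction.mem_fixedBy, SetLike.mem_coe]
      refine ⟨fun h => hfix u ?_, fun h => Subtype.ext ?_⟩
      · have h' : (z : G) * u = u * z := by
          have := congrArg Subtype.val h
          rw [hact'] at this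
          exact mul_inv_eq_iff_eq_mul.mp this
        -- a power of `z` generates `⟨x⟩`
        have hzo : orderOf (z : G) ∣ r ^ 2 := hwo ▸ orderOf_dvd_of_mem_zpowers z.2
        obtain ⟨i, hi2, hi⟩ := (Nat.dvd_prime_pow hrp).mp hzo
        have hi0 : i ≠ 0 := fun h0 => hz (Subtype.ext (orderOf_eq_one_iff.mp (by rw [hi, h0, pow_zero])))
        set t := (z : G) ^ (r ^ (i - 1)) with ht
        have hto : orderOf t = r := by
          rw [ht, orderOf_pow' _ (pow_ne_zero _ hrp.ne_zero), hi,
            Nat.gcd_eq_right (Nat.pow_dvd_pow r (by omega)), Nat.pow_div (by omega) hrp.pos,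
            show i - (i - 1) = 1 by omega, pow_one]
        have htw : t ∈ Subgroup.zpowers (w : G) := pow_mem z.2 _
        have htx : t ∈ Subgroup.zpowers x :=
          hordr t (hwH t htw) (hzx t htw) (by rw [← hto, pow_orderOf_eq_one])
        have hgen : Subgroup.zpowers x = Subgroup.zpowers t :=
          (Subgroup.eq_of_le_of_card_ge (Subgroup.zpowers_le.mpr htx)
            (by rw [Nat.card_zpowers, Nat.card_zpowers, hto, hxo])).symm
        obtain ⟨j, hj⟩ := Subgroup.mem_zpowers_iff.mp (hgen ▸ Subgroup.mem_zpowers x : x ∈ Subgroup.zpowers t)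
        rw [← hj]
        exact (((show Commute (z : G) (u : G) from h').pow_left (r ^ (i - 1))).zpow_left j).eq
      · rw [hact']
        refine mul_inv_eq_iff_eq_mul.mpr ?_
        exact hcomm z (hwH z z.2) u (hQH u.2) (hzx z z.2) (hxZ u ⟨u, h, rfl⟩).symm
    have : Fintype (Subgroup.zpowers (w : G)) := Fintype.ofFinite _
    have : Fintype (MulAction.orbitRel.Quotient (Subgroup.zpowers (w : G)) Q) := Fintype.ofFinite _
    have : ∀ z : Subgroup.zpowers (w : G), Fintype (MulAction.fixedBy Q z) := fun z => Fintype.ofFinite _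
    have hburn := MulAction.sum_card_fixedBy_eq_card_orbits_mul_card_group (Subgroup.zpowers (w : G)) Q
    have hcardY : Fintype.card (Subgroup.zpowers (w : G)) = r ^ 2 := by
      rw [← Nat.card_eq_fintype_card, Nat.card_zpowers, hwo]
    have h1 : Fintype.card (MulAction.fixedBy Q (1 : Subgroup.zpowers (w : G))) = Nat.card Q := by
      rw [← Nat.card_eq_fintype_card]
      exact Nat.card_congr ((Equiv.setCongr (MulAction.fixedBy_one_eq_univ Q _)).trans (Equiv.Set.univ Q))
    rw [← Finset.add_sum_erase _ _ (Finset.mem_univ (1 : Subgroup.zpowers (w : G))), h1,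
      Finset.sum_congr rfl (g := fun _ => Nat.card Z) (fun z hz => by
        rw [← Nat.card_eq_fintype_card, hfree z (Finset.ne_of_mem_erase hz)]
        rfl),
      Finset.sum_const, Finset.card_erase_of_mem (Finset.mem_univ _), Finset.card_univ, hcardY,
      smul_eq_mul, hQcard] at hburn
    have h2 : r ^ 2 ∣ Nat.card Z * (s ^ 2 - 1) + r ^ 2 * Nat.card Z := by
      refine Dvd.intro_left _ (hburn.symm.trans ?_)
      obtain ⟨a, ha⟩ := Nat.exists_eq_add_of_le (Nat.one_le_pow 2 s (by omega))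
      obtain ⟨b, hb⟩ := Nat.exists_eq_add_of_le (Nat.one_le_pow 2 r hrp.pos)
      rw [ha, hb, Nat.add_sub_cancel_left, Nat.add_sub_cancel_left]
      ring
    have h3 : r ^ 2 ∣ Nat.card Z * (s ^ 2 - 1) := (Nat.dvd_add_left (dvd_mul_right _ _)).mp h2
    have h4 : s ^ 2 - 1 = r * (s - 1) := by
      rw [hrs, ← Nat.sq_sub_sq, one_pow]
    rw [h4, sq, mul_left_comm] at h3
    have h5 : r ∣ Nat.card Z * (s - 1) := Nat.dvd_of_mul_dvd_mul_left hrp.pos h3
    rcases hrp.dvd_mul.mp h5 with h | h
    · exact hrZ h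
    · have := Nat.le_of_dvd (by omega) h
      omega
  · rw [hQcard, hsn', mul_comm 2, mul_comm (Nat.card Z)]
    refine Nat.mul_dvd_mul_left _ ?_
    rw [← hCcard]
    exact Subgroup.card_dvd_of_le hCZ

/-- The dichotomy for an element of primitive prime order in `C(A₀)`. -/
theorem good_or_exceptional (hsol : Group.IsSolvable G) {r n : ℕ} [Fact r.Prime] (hn : 0 < n)
    (hord : orderOf ((Nat.card (spanOp ρ A₀) : ℕ) : ZMod r) = n)
    (hV : Nat.card V = Nat.card (spanOp ρ A₀) ^ n)
    {x : G} (hxH : x ∈ Subgroup.centralizer (A₀ : Set G)) (hxo : orderOf x = r) :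
    IsGood ρ ∨ (p ≠ 2 ∧ r = n + 1 ∧ ∃ m : ℕ, n = 2 ^ m ∧
      ¬ r ^ 2 ∣ Nat.card (Subgroup.centralizer (A₀ : Set G)) ∧
      ∃ Q' : Subgroup G, Q'.Normal ∧ IsPGroup 2 Q' ∧ 2 * n ^ 2 ∣ Nat.card Q') := by
  set H := Subgroup.centralizer (A₀ : Set G) with hH
  have hHn : H.Normal := by have := hA₀n; exact Subgroup.normal_centralizer
  have hHs : Group.IsSolvable H :=
    Group.isSolvable_of_isSolvable_injective (f := H.subtype) H.subtype_injective
  by_cases hall : ∀ q : ℕ, q.Prime → ∀ u ∈ Cfsg.pCore q H, x * (u : G) = (u : G) * x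
  · left
    set x' : H := ⟨x, hxH⟩
    set F := Cfsg.fittingSubgroup H
    have hxC : x' ∈ Subgroup.centralizer (F : Set H) := by
      have hle : F ≤ Subgroup.centralizer ({x'} : Set H) := by
        rw [show F = _ from Cores.fittingSubgroup_eq_iSup_pCore]
        exact iSup_le fun q u hu =>
          Subgroup.mem_centralizer_singleton_iff.mpr (Subtype.ext (hall q q.2 u hu).symm)
      exact Subgroup.mem_centralizer_iff.mpr fun u hu =>
        Subgroup.mem_centralizer_singleton_iff.mp (hle hu)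
    have hxF : x' ∈ F := Cores.centralizer_fittingSubgroup_le hxC
    set A := F ⊓ Subgroup.centralizer (F : Set H)
    have hAc : A.Characteristic := inferInstance
    refine exists_good hρ htr hA₀n hA₀ hn hord hV hxo
      (A := A.map H.subtype) (Cores.normal_map_subtype_of_characteristic A) ?_
      (Subgroup.map_subtype_le A) ⟨x', ⟨hxF, hxC⟩, rfl⟩
    rintro _ ⟨a, ha, rfl⟩ _ ⟨b, hb, rfl⟩
    exact congrArg H.subtype (Subgroup.mem_centralizer_iff.mp hb.2 a ha.1)
  · right
    push Not at hall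
    obtain ⟨q, hq, u, hu, hne⟩ := hall
    have : Fact q.Prime := ⟨hq⟩
    exact exceptional_of_not_centralized hρ htr hA₀n hA₀ hn hord hV hxH hxo
      (Q := (Cfsg.pCore q H).map H.subtype) (q := q)
      (by
        have : (Cfsg.pCore q H).Characteristic :=
          Subgroup.characteristic_iff_map_eq.2 fun e => Cores.map_pCore_equiv e
        exact Cores.normal_map_subtype_of_characteristic _)
      (Cores.pCore_isPGroup.map H.subtype) (Subgroup.map_subtype_le _)
      (fun h => hne (h _ ⟨u, hu, rfl⟩))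

end Cfsg.Agent.Recog.TransLin
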