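import Cfsg.Agent.Recog.HuppertTwo
import Cfsg.Agent.Arith.Zsigmondy

/-!
# Huppert's theorem on solvable transitive linear groups
-/

namespace Cfsg.Agent.Recog.TransLin

variable {p : ℕ} [Fact p.Prime] {V : Type*} [AddCommGroup V] [Module (ZMod p) V] [Finite V]
  [Nontrivial V] {G : Type*} [Group G] [Finite G] {ρ : G →* (V ≃ₗ[ZMod p] V)}

/-- The number of non-zero vectors divides the order of a transitive group. -/
theorem card_sub_one_dvd (htr : IsTrans ρ) : Nat.card V - 1 ∣ Nat.card G := by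
  classical
  let T := {v : V // v ≠ 0}
  let act : MulAction G T :=
    { smul := fun g v => ⟨ρ g v.1, fun h => v.2 ((ρ g).map_eq_zero_iff.mp h)⟩
      one_smul := fun v => Subtype.ext (by show ρ 1 v.1 = v.1; rw [map_one]; rfl)
      mul_smul := fun g h v => Subtype.ext (by
        show ρ (g * h) v.1 = ρ g (ρ h v.1)
        rw [map_mul]; rfl) }
  obtain ⟨v, hv⟩ := exists_ne (0 : V)
  have : Nonempty T := ⟨⟨v, hv⟩⟩
  have hp : MulAction.IsPretransitive G T :=
    ⟨fun a b => (htr a.1 b.1 a.2 b.2).imp fun g hg => Subtype.ext hg⟩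
  have h := MulAction.index_stabilizer_of_transitive G (⟨v, hv⟩ : T)
  have hT : Nat.card T = Nat.card V - 1 := by
    have : Fintype V := Fintype.ofFinite V
    rw [Nat.card_eq_fintype_card, Nat.card_eq_fintype_card, Fintype.card_subtype_compl,
      Fintype.card_subtype_eq]
  rw [← hT, ← h]
  exact (MulAction.stabilizer G (⟨v, hv⟩ : T)).index_dvd_card

/-- In a transitive group, elements of order three, respectively seven, give the two small cases
of the space with 64 vectors. -/
theorem isGood_sixty_four (hsol : Group.IsSolvable G) (hρ : Function.Injective ρ) (htr : IsTrans ρ)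
    (hp : p = 2) (hV : Nat.card V = 64) : IsGood ρ := by
  classical
  subst hp
  have hG63 : 63 ∣ Nat.card G := by have := card_sub_one_dvd htr; rwa [hV] at this
  have : Nontrivial G := Finite.one_lt_card_iff_nontrivial.mp (by
    have := Nat.le_of_dvd Nat.card_pos hG63
    omega)
  have := hsol
  obtain ⟨q, hq, hne⟩ := Cores.exists_pCore_ne_bot (G := G)
  have : Fact q.Prime := ⟨hq⟩
  set R := Cfsg.pCore q G
  have hRc : R.Characteristic :=
    Subgroup.characteristic_iff_map_eq.2 fun e => Cores.map_pCore_equiv e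
  set A := (Subgroup.center R).map R.subtype with hAdef
  have hAn : A.Normal := Cores.normal_map_subtype_of_characteristic _
  have hA : ∀ a ∈ A, ∀ b ∈ A, a * b = b * a := by
    rintro _ ⟨a, ha, rfl⟩ _ ⟨b, hb, rfl⟩
    exact congrArg R.subtype (Subgroup.mem_center_iff.mp hb a)
  have hA1 : A ≠ ⊥ := by
    intro h
    rw [hAdef, Subgroup.map_eq_bot_iff_of_injective _ R.subtype_injective] at h
    have : Nontrivial R := R.nontrivial_iff_ne_bot.mpr hne
    have := (Cores.pCore_isPGroup (p := q) (G := G)).center_nontrivial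
    exact (Subgroup.nontrivial_iff_ne_bot _).mp this h
  obtain ⟨d, hd0, hd⟩ := card_span_eq_pow htr (A₀ := ⊥) inferInstance
    (fun a ha b hb => by rw [Subgroup.mem_bot] at ha hb; rw [ha, hb]) hAn hA bot_le
  rw [card_spanOp_bot] at hd
  letI : Field (spanOp ρ A) := (span_isField htr hAn hA).toField
  have : FiniteDimensional (spanOp ρ A) V := Module.Finite.of_finite
  have hfr := Module.natCard_eq_pow_finrank (K := spanOp ρ A) (V := V)
  set f := Module.finrank (spanOp ρ A) V
  rw [hV, hd, ← pow_mul, show 64 = 2 ^ 6 by norm_num] at hfr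
  have h6 : 6 = d * f := Nat.pow_right_injective le_rfl hfr
  have hd1 : d ≠ 1 := by
    rintro rfl
    have h := card_dvd_card_span_sub_one hρ htr hAn hA
    rw [hd] at h
    exact hA1 (Subgroup.eq_bot_of_card_eq A (Nat.dvd_one.mp h))
  have hdd : d ∈ Nat.divisors 6 := Nat.mem_divisors.mpr ⟨⟨f, h6⟩, by norm_num⟩
  have hdcases : d = 2 ∨ d = 3 ∨ d = 6 := by
    have := Nat.le_of_dvd (by norm_num) (Nat.dvd_of_mem_divisors hdd)
    have := Nat.dvd_of_mem_divisors hdd
    interval_cases d <;> omega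
  -- the action of `G` on the span
  let ψ : G →* (spanOp ρ A ≃ₐ[ZMod 2] spanOp ρ A) :=
    { toFun := fun g => AlgEquiv.ofBijective
        ({ toFun := fun k => ⟨op ρ g * k * op ρ g⁻¹, conj_mem_span ρ (fun a ha => hAn.conj_mem a ha g) k.2⟩
           map_one' := Subtype.ext (by show op ρ g * 1 * op ρ g⁻¹ = 1; rw [mul_one, op_mul_inv])
           map_zero' := Subtype.ext (by show op ρ g * 0 * op ρ g⁻¹ = 0; rw [mul_zero, zero_mul])
           map_mul' := fun a b => Subtype.ext (by
             show op ρ g * ((a : Module.End (ZMod 2) V) * b) * op ρ g⁻¹ = _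
             show _ = op ρ g * a * op ρ g⁻¹ * (op ρ g * b * op ρ g⁻¹)
             rw [mul_assoc (op ρ g * a) (op ρ g⁻¹), ← mul_assoc (op ρ g⁻¹), ← mul_assoc (op ρ g⁻¹) (op ρ g),
               op_inv_mul, one_mul]
             simp [mul_assoc])
           map_add' := fun a b => Subtype.ext (by
             show op ρ g * ((a : Module.End (ZMod 2) V) + b) * op ρ g⁻¹ = _
             rw [mul_add, add_mul]; rfl)
           commutes' := fun k => Subtype.ext (by
             show op ρ g * algebraMap (ZMod 2) (Module.End (ZMod 2) V) k * op ρ g⁻¹ = _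
             rw [← Algebra.commutes k (op ρ g), mul_assoc, op_mul_inv, mul_one]; rfl) } :
          spanOp ρ A →ₐ[ZMod 2] spanOp ρ A)
        (Finite.injective_iff_bijective.mp (RingHom.injective _))
      map_one' := AlgEquiv.ext fun k => Subtype.ext (by
        show op ρ 1 * k * op ρ 1⁻¹ = k
        rw [inv_one, map_one, one_mul, mul_one])
      map_mul' := fun g h => AlgEquiv.ext fun k => Subtype.ext (by
        show op ρ (g * h) * k * op ρ (g * h)⁻¹ = op ρ g * (op ρ h * k * op ρ h⁻¹) * op ρ g⁻¹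
        rw [mul_inv_rev, map_mul, map_mul]; simp [mul_assoc]) }
  have hkerle : ψ.ker ≤ Subgroup.centralizer (A : Set G) := by
    intro g hg
    refine Subgroup.mem_centralizer_iff.mpr fun a ha => op_injective ρ hρ ?_
    have h := congrArg (fun σ : spanOp ρ A ≃ₐ[ZMod 2] spanOp ρ A =>
      ((σ ⟨op ρ a, op_mem_span ρ ha⟩ : spanOp ρ A) : Module.End (ZMod 2) V)) (MonoidHom.mem_ker.mp hg)
    have h' : op ρ g * op ρ a * op ρ g⁻¹ = op ρ a := h
    rw [map_mul, map_mul]
    calc op ρ a * op ρ g = op ρ g * op ρ a * op ρ g⁻¹ * op ρ g := by rw [h']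
      _ = op ρ g * op ρ a := by rw [mul_assoc, op_inv_mul, mul_one]
  have hrange : Nat.card ψ.range ∣ d := by
    have hfin : Module.finrank (ZMod 2) (spanOp ρ A) = d := by
      have h := Module.natCard_eq_pow_finrank (K := ZMod 2) (V := spanOp ρ A)
      rw [hd, Nat.card_zmod] at h
      exact (Nat.pow_right_injective le_rfl h).symm
    rw [← hfin, ← IsGalois.card_aut_eq_finrank]
    exact Subgroup.card_subgroup_dvd_card _
  have hexists : ∀ r : ℕ, r.Prime → r ∣ Nat.card ψ.ker → ∃ x, x ∈ Subgroup.centralizer (A : Set G) ∧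
      orderOf x = r := by
    intro r hr hdvd
    have : Fact r.Prime := ⟨hr⟩
    obtain ⟨⟨x, hx⟩, hxo⟩ := exists_prime_orderOf_dvd_card' r hdvd
    exact ⟨x, hkerle hx, by rw [← hxo, Subgroup.orderOf_mk]⟩
  have hcard : Nat.card G = Nat.card ψ.ker * Nat.card ψ.range := by
    rw [← Subgroup.index_ker, Subgroup.card_mul_index]
  rcases hdcases with rfl | rfl | rfl
  · -- field of order four
    have h7 : (7 : ℕ) ∣ Nat.card ψ.ker := by
      have h : 7 ∣ Nat.card ψ.ker * Nat.card ψ.range := hcard ▸ Nat.dvd_trans (by norm_num) hG63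
      refine ((by norm_num : Nat.Prime 7).dvd_mul.mp h).resolve_right fun h => ?_
      exact absurd (Nat.le_of_dvd (by norm_num) (h.trans hrange)) (by norm_num)
    obtain ⟨x, hx, hxo⟩ := hexists 7 (by norm_num) h7
    have hord : orderOf ((2 ^ 2 : ℕ) : ZMod 7) = 3 := by
      rw [orderOf_eq_iff (by norm_num)]
      refine ⟨by decide, fun m hm hm0 => ?_⟩
      interval_cases m <;> decide
    have : Fact (Nat.Prime 7) := ⟨by norm_num⟩
    exact (good_or_exceptional hρ htr hAn hA hsol (n := 3) (r := 7) (by norm_num) (by rw [hd]; exact hord)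
      (by rw [hd, hV]; norm_num) hx hxo).resolve_right fun h => h.1 rfl
  · -- field of order eight
    have h3 : (3 : ℕ) ∣ Nat.card ψ.ker := by
      have h : 3 * 3 ∣ Nat.card ψ.ker * Nat.card ψ.range := hcard ▸ Nat.dvd_trans (by norm_num) hG63
      by_contra hcon
      have hco : Nat.Coprime (3 * 3) (Nat.card ψ.ker) :=
        ((Nat.prime_three.coprime_iff_not_dvd).mpr hcon).mul_left
          ((Nat.prime_three.coprime_iff_not_dvd).mpr hcon)
      exact absurd (Nat.le_of_dvd (by norm_num) ((hco.dvd_of_dvd_mul_left h).trans hrange))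
        (by norm_num)
    obtain ⟨x, hx, hxo⟩ := hexists 3 (by norm_num) h3
    refine (good_or_exceptional hρ htr hAn hA hsol (n := 2) (r := 3) (by norm_num) ?_
      (by rw [hd, hV]; norm_num) hx hxo).resolve_right fun h => h.1 rfl
    rw [hd, orderOf_eq_iff (by norm_num)]
    refine ⟨by decide, fun m hm hm0 => ?_⟩
    interval_cases m; decide
  · exact ⟨A, hAn, hA, by rw [hd, hV]; norm_num⟩

/-- Huppert's theorem. -/
theorem huppert (hsol : Group.IsSolvable G) (hρ : Function.Injective ρ) (htr : IsTrans ρ) :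
    IsGood ρ ∨ (Nat.card V = 81 ∧ 32 ∣ Nat.card G) ∨
      (p ≠ 2 ∧ Nat.card V = p ^ 2 ∧ p + 1 ∣ 24 ∧ ¬ IsGood ρ) := by
  classical
  by_cases hgood : IsGood ρ
  · exact Or.inl hgood
  have hpp : p.Prime := Fact.out
  have hbotab : ∀ a ∈ (⊥ : Subgroup G), ∀ b ∈ (⊥ : Subgroup G), a * b = b * a :=
    fun a ha b hb => by rw [Subgroup.mem_bot] at ha hb; rw [ha, hb]
  obtain ⟨N, hN⟩ := exists_card_eq_pow (p := p) (V := V)
  have hN1 : 2 ≤ N := by
    by_contra hcon
    rcases (by omega : N = 0 ∨ N = 1) with rfl | rfl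
    · exact (Finite.one_lt_card (α := V)).ne' (by simpa using hN)
    · exact hgood ⟨⊥, inferInstance, hbotab, by rw [card_spanOp_bot, hN, pow_one]⟩
  have hG : p ^ N - 1 ∣ Nat.card G := hN ▸ card_sub_one_dvd htr
  -- elements of primitive prime order
  have hdich : ∀ r : ℕ, r.Prime → orderOf (p : ZMod r) = N →
      p ≠ 2 ∧ r = N + 1 ∧ ∃ m : ℕ, N = 2 ^ m ∧ ¬ r ^ 2 ∣ Nat.card G ∧ 2 * N ^ 2 ∣ Nat.card G := by
    intro r hr hord
    have : Fact r.Prime := ⟨hr⟩
    have hrdvd : r ∣ p ^ N - 1 :=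
      (Arith.dvd_pow_sub_one_iff_orderOf_dvd hpp.pos N).mpr (hord ▸ dvd_rfl)
    obtain ⟨x, hxo⟩ := exists_prime_orderOf_dvd_card' r (hrdvd.trans hG)
    rcases good_or_exceptional hρ htr (A₀ := ⊥) inferInstance hbotab hsol (n := N) (r := r) (by omega)
      (by rw [card_spanOp_bot]; exact hord) (by rw [card_spanOp_bot, hN])
      (Subgroup.mem_centralizer_iff.mpr fun a ha => by
        rw [SetLike.mem_coe, Subgroup.mem_bot] at ha; rw [ha, mul_one, one_mul]) hxo with
      h | ⟨h1, h2, m, h3, h4, Q, -, -, h5⟩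
    · exact absurd h hgood
    · refine ⟨h1, h2, m, h3, ?_, h5.trans (Subgroup.card_subgroup_dvd_card Q)⟩
      have htop : Subgroup.centralizer ((⊥ : Subgroup G) : Set G) = ⊤ :=
        eq_top_iff.mpr fun g _ => Subgroup.mem_centralizer_iff.mpr fun a ha => by
          rw [SetLike.mem_coe, Subgroup.mem_bot] at ha; rw [ha, mul_one, one_mul]
      rwa [htop, Subgroup.card_top] at h4
  by_cases hN2 : N = 2
  · subst hN2
    by_cases hp2 : p = 2
    · subst hp2
      have : Fact (Nat.Prime 3) := ⟨Nat.prime_three⟩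
      refine absurd rfl (hdich 3 Nat.prime_three ?_).1
      rw [orderOf_eq_iff (by norm_num)]
      refine ⟨by decide, fun m hm hm0 => ?_⟩
      interval_cases m; decide
    · refine Or.inr (Or.inr ⟨hp2, hN, ?_, hgood⟩)
      obtain ⟨-, hF, -, hZ, hidx, -, -⟩ := dim_two hsol hρ htr hp2 hN hgood
      have hcard : Nat.card G ∣ 24 * (p - 1) := by
        rw [← (Cfsg.fittingSubgroup G).card_mul_index, hF,
          show 24 * (p - 1) = 4 * (p - 1) * 6 by ring]
        exact Nat.mul_dvd_mul (Nat.mul_dvd_mul_left 4 hZ) hidx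
      have h := hG.trans hcard
      rw [show p ^ 2 - 1 = (p + 1) * (p - 1) by rw [← Nat.sq_sub_sq, one_pow]] at h
      exact Nat.dvd_of_mul_dvd_mul_right (Nat.sub_pos_of_lt hpp.one_lt) h
  by_cases h26 : p = 2 ∧ N = 6
  · exact absurd (isGood_sixty_four hsol hρ htr h26.1 (by rw [hN, h26.1, h26.2]; norm_num)) hgood
  -- all primitive primes are `N + 1`
  obtain ⟨r, hr, hord⟩ := Arith.exists_prime_orderOf_eq hpp.one_lt (by omega : 1 < N) h26
    (fun h => hN2 h.1)
  obtain ⟨hp2, hrN, m, hm, -, hQ⟩ := hdich r hr hord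
  obtain ⟨k, rfl⟩ : ∃ k, m = k + 2 := ⟨m - 2, by
    rcases m with _ | _ | m
    · simp at hm; omega
    · simp at hm; omega
    · omega⟩
  set h := N / 2 with hh
  have hNh : N = 2 * 2 ^ (k + 1) := by rw [hm]; ring
  have hh' : h = 2 ^ (k + 1) := by rw [hh, hNh, Nat.mul_div_cancel_left _ two_pos]
  have hfac : p ^ N - 1 = (p ^ h + 1) * (p ^ h - 1) := by
    rw [← Nat.sq_sub_sq, one_pow, ← pow_mul, hh', hNh, mul_comm]
  obtain ⟨t, ht⟩ : Odd p := hpp.odd_of_ne_two hp2
  have hsq8 : p ^ h % 4 = 1 := by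
    have he : p ^ h = (p ^ 2 ^ k) ^ 2 := by rw [← pow_mul, hh', pow_succ]
    rw [he]
    obtain ⟨u, hu⟩ : Odd (p ^ 2 ^ k) := Odd.pow ⟨t, ht⟩
    rw [hu, show (2 * u + 1) ^ 2 = 4 * (u * u + u) + 1 by ring, Nat.mul_add_mod]
  have hprim : p ^ h + 1 ∣ 2 * (N + 1) := by
    rw [Nat.dvd_iff_prime_pow_dvd_dvd]
    intro l j hl hj
    rcases Nat.eq_zero_or_pos j with rfl | hj0
    · simp
    have : Fact l.Prime := ⟨hl⟩
    rcases eq_or_ne l 2 with rfl | hl2
    · have : j ≤ 1 := by
        by_contra hcon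
        have h4 : 2 ^ 2 ∣ p ^ h + 1 := (Nat.pow_dvd_pow 2 (by omega)).trans hj
        omega
      exact ((Nat.pow_dvd_pow 2 this).trans (by rw [pow_one])).trans (dvd_mul_right _ _)
    have hdvd : l ∣ p ^ h + 1 := (dvd_pow_self l hj0.ne').trans hj
    have hord' : orderOf (p : ZMod l) = N := by
      have h1 : (p : ZMod l) ^ h = -1 := by
        rw [eq_neg_iff_add_eq_zero]
        exact_mod_cast (ZMod.natCast_eq_zero_iff (p ^ h + 1) l).mpr hdvd
      rw [hm, show k + 2 = (k + 1) + 1 from rfl]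
      refine orderOf_eq_prime_pow ?_ ?_
      · rw [← hh', h1]
        intro h2
        have h3 : ((2 : ℕ) : ZMod l) = 0 := by
          push_cast
          linear_combination (-1 : ZMod l) * h2
        exact hl2 ((Nat.prime_dvd_prime_iff_eq hl Nat.prime_two).mp ((ZMod.natCast_eq_zero_iff 2 l).mp h3))
      · rw [pow_succ, pow_mul, ← hh', h1]; ring
    obtain ⟨-, hlN, -, -, hl2', -⟩ := hdich l hl hord'
    have hj1 : j ≤ 1 := by
      by_contra hcon
      refine hl2' (((Nat.pow_dvd_pow l (by omega)).trans hj).trans ((Dvd.intro _ hfac.symm).trans hG))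
    refine ((Nat.pow_dvd_pow l hj1).trans ?_).trans (dvd_mul_left _ _)
    rw [pow_one, hlN]
  have hle : p ^ h + 1 ≤ 2 * (N + 1) := Nat.le_of_dvd (by omega) hprim
  have hp3 : 3 ≤ p := by have := hpp.two_le; omega
  rcases Nat.eq_zero_or_pos k with rfl | hk
  · -- `N = 4`
    have hh2 : h = 2 := by rw [hh']; norm_num
    have hN4 : N = 4 := by rw [hm]; norm_num
    have hp : p = 3 := by rw [hh2, hN4] at hle; nlinarith
    refine Or.inr (Or.inl ⟨by rw [hN, hp, hN4]; norm_num, ?_⟩)
    rw [hN4] at hQ; norm_num at hQ; exact hQ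
  · exfalso
    have hgrow : ∀ i, 4 ≤ i → 4 * i + 2 < 3 ^ i + 1 := by
      intro i hi
      induction i, hi using Nat.le_induction with
      | base => norm_num
      | succ i hi ih => rw [pow_succ]; omega
    have h4 : 4 ≤ h := by
      rw [hh']
      calc 4 = 2 ^ 2 := by norm_num
        _ ≤ 2 ^ (k + 1) := Nat.pow_le_pow_right two_pos (by omega)
    have := hgrow h h4
    have : 3 ^ h ≤ p ^ h := Nat.pow_le_pow_left hp3 h
    omega

end Cfsg.Agent.Recog.TransLin
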