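import Cfsg.Agent.Recog.Huppert

/-!
# Solvable transitive linear groups in dimension two
-/

namespace Cfsg.Agent.Recog.TransLin

open scoped commutatorElement
set_option linter.style.haveILetI false

variable {p : ℕ} [Fact p.Prime] {V : Type*} [AddCommGroup V] [Module (ZMod p) V] [Finite V]
  [Nontrivial V] {G : Type*} [Group G] [Finite G] {ρ : G →* (V ≃ₗ[ZMod p] V)}

omit [Nontrivial V] [Finite G] in
theorem card_bot_subalgebra [Nontrivial V] :
    Nat.card (⊥ : Subalgebra (ZMod p) (Module.End (ZMod p) V)) = p :=
  (Nat.card_congr (Algebra.botEquiv (ZMod p) (Module.End (ZMod p) V)).toEquiv).trans (Nat.card_zmod p)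

omit [Finite V] [Nontrivial V] [Finite G] in
theorem spanOp_bot : spanOp ρ (⊥ : Subgroup G) = ⊥ := by
  rw [eq_bot_iff]
  refine Algebra.adjoin_le ?_
  rintro _ ⟨a, ha, rfl⟩
  rw [SetLike.mem_coe, Subgroup.mem_bot] at ha
  rw [ha, map_one]
  exact Subalgebra.one_mem _

omit [Nontrivial V] [Finite G] in
theorem card_spanOp_bot [Nontrivial V] : Nat.card (spanOp ρ (⊥ : Subgroup G)) = p := by
  rw [spanOp_bot, card_bot_subalgebra]

/-- An abelian normal subgroup spanning the scalars is central. -/
theorem le_center_of_card_span (hρ : Function.Injective ρ) {A : Subgroup G}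
    (hc : Nat.card (spanOp ρ A) = p) : A ≤ Subgroup.center G := by
  have heq : spanOp ρ A = ⊥ := by
    refine (SetLike.coe_injective (Set.eq_of_subset_of_ncard_le
      (show ((⊥ : Subalgebra (ZMod p) (Module.End (ZMod p) V)) : Set (Module.End (ZMod p) V)) ⊆
        (spanOp ρ A : Set (Module.End (ZMod p) V)) from SetLike.coe_subset_coe.mpr bot_le)
      (le_of_eq ?_) (Set.toFinite _))).symm
    rw [← Nat.card_coe_set_eq, ← Nat.card_coe_set_eq]
    exact hc.trans card_bot_subalgebra.symm
  intro a ha
  refine Subgroup.mem_center_iff.mpr fun g => op_injective ρ hρ ?_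
  obtain ⟨c, hc⟩ := Algebra.mem_bot.mp (heq ▸ op_mem_span ρ ha)
  rw [map_mul, map_mul, ← hc]
  exact (Algebra.commutes c _).symm

/-- The order of an abelian normal subgroup divides the number of non-zero elements of its span. -/
theorem card_dvd_card_span_sub_one (hρ : Function.Injective ρ) (htr : IsTrans ρ) {A : Subgroup G}
    (hAn : A.Normal) (hA : ∀ a ∈ A, ∀ b ∈ A, a * b = b * a) :
    Nat.card A ∣ Nat.card (spanOp ρ A) - 1 := by
  letI : Field (spanOp ρ A) := (span_isField htr hAn hA).toField
  rw [← Nat.card_units]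
  let f : A →* spanOp ρ A :=
    { toFun := fun a => ⟨op ρ a, op_mem_span ρ a.2⟩
      map_one' := Subtype.ext (map_one (op ρ))
      map_mul' := fun a b => Subtype.ext (map_mul (op ρ) (a : G) (b : G)) }
  refine Subgroup.card_dvd_of_injective f.toHomUnits fun a b hab => ?_
  exact Subtype.ext (op_injective ρ hρ (congrArg Subtype.val (congrArg Units.val hab)))

/-- A solvable transitive linear group in dimension two, not contained in the semilinear group:
the structure. -/
theorem dim_two (hsol : Group.IsSolvable G) (hρ : Function.Injective ρ) (htr : IsTrans ρ)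
    (hp2 : p ≠ 2) (hV : Nat.card V = p ^ 2) (hng : ¬ IsGood ρ) :
    (∃ Q : Subgroup G, Q.Normal ∧ IsPGroup 2 Q ∧
      Cfsg.fittingSubgroup G = Q ⊔ Subgroup.center G ∧
      (∃ a ∈ Q, ∃ b ∈ Q, ⁅a, b⁆ ≠ 1) ∧
      Nat.card Q = 4 * Nat.card (Q ⊓ Subgroup.center G : Subgroup G)) ∧
    Nat.card (Cfsg.fittingSubgroup G) = 4 * Nat.card (Subgroup.center G) ∧
    2 ∣ Nat.card (Subgroup.center G) ∧
    Nat.card (Subgroup.center G) ∣ p - 1 ∧
    (Cfsg.fittingSubgroup G).index ∣ 6 ∧
    (Cfsg.fittingSubgroup G).index ≠ 1 ∧
    ((∃ N : Subgroup G, N.Normal ∧ N.index = 2) ∨ (Cfsg.fittingSubgroup G).index ∣ 3) := by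
  classical
  have := hsol
  have hpp : p.Prime := Fact.out
  -- abelian normal subgroups are central
  have hspan : ∀ A : Subgroup G, A.Normal → (∀ a ∈ A, ∀ b ∈ A, a * b = b * a) →
      Nat.card (spanOp ρ A) = p := by
    intro A hAn hA
    obtain ⟨j, hj0, hj⟩ := card_span_eq_pow htr (A₀ := ⊥) inferInstance
      (fun a ha b hb => by rw [Subgroup.mem_bot] at ha hb; rw [ha, hb]) hAn hA bot_le
    rw [card_spanOp_bot] at hj
    have h := card_span_le htr hAn hA
    rw [hj, hV, Nat.pow_le_pow_iff_right hpp.one_lt] at h
    rcases (by omega : j = 1 ∨ j = 2) with rfl | rfl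
    · rw [hj, pow_one]
    · exact absurd ⟨A, hAn, hA, hj.trans hV.symm⟩ hng
  have hcen : ∀ A : Subgroup G, A.Normal → (∀ a ∈ A, ∀ b ∈ A, a * b = b * a) →
      A ≤ Subgroup.center G := fun A hAn hA => le_center_of_card_span hρ (hspan A hAn hA)
  have hZab : ∀ a ∈ Subgroup.center G, ∀ b ∈ Subgroup.center G, a * b = b * a :=
    fun a _ b hb => Subgroup.mem_center_iff.mp hb a
  have hZspan := hspan (Subgroup.center G) inferInstance hZab
  have hZdvd : Nat.card (Subgroup.center G) ∣ p - 1 := by
    have := card_dvd_card_span_sub_one hρ htr (A := Subgroup.center G) inferInstance hZab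
    rwa [hZspan] at this
  -- some core is non-abelian
  obtain ⟨q, hq, hab⟩ : ∃ q : ℕ, q.Prime ∧
      ¬ ∀ a ∈ Cfsg.pCore q G, ∀ b ∈ Cfsg.pCore q G, a * b = b * a := by
    by_contra hcon
    push Not at hcon
    have hF : Cfsg.fittingSubgroup G ≤ Subgroup.center G := by
      rw [Cores.fittingSubgroup_eq_iSup_pCore]
      exact iSup_le fun q => hcen _
        (by have : (Cfsg.pCore (q : ℕ) G).Characteristic :=
              Subgroup.characteristic_iff_map_eq.2 fun e => Cores.map_pCore_equiv e
            infer_instance) (hcon q q.2)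
    have htop : (⊤ : Subgroup G) ≤ Subgroup.center G := fun g _ =>
      hF (Cores.centralizer_fittingSubgroup_le (Subgroup.mem_centralizer_iff.mpr fun u hu =>
        (Subgroup.mem_center_iff.mp (hF hu) g).symm))
    have hab : ∀ a ∈ (⊤ : Subgroup G), ∀ b ∈ (⊤ : Subgroup G), a * b = b * a :=
      fun a _ b hb => Subgroup.mem_center_iff.mp (htop hb) a
    have h1 := hspan ⊤ inferInstance hab
    obtain ⟨v, hv⟩ := exists_ne (0 : V)
    have h2 : Nat.card V ≤ Nat.card (spanOp ρ (⊤ : Subgroup G)) := by
      refine Nat.card_le_card_of_surjective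
        (fun k : spanOp ρ (⊤ : Subgroup G) => (k : Module.End (ZMod p) V) v) fun w => ?_
      by_cases hw : w = 0
      · exact ⟨0, by rw [hw]; rfl⟩
      · obtain ⟨g, hg⟩ := htr v w hv hw
        exact ⟨⟨op ρ g, op_mem_span ρ (Subgroup.mem_top g)⟩, hg⟩
    rw [h1, hV] at h2
    nlinarith [hpp.two_le]
  have : Fact q.Prime := ⟨hq⟩
  set Q := Cfsg.pCore q G with hQdef
  have hQchar : Q.Characteristic :=
    Subgroup.characteristic_iff_map_eq.2 fun e => Cores.map_pCore_equiv e
  have hQn : Q.Normal := inferInstance
  have hQ : IsPGroup q Q := Cores.pCore_isPGroup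
  have hchar : ∀ A : Subgroup Q, A.Characteristic → (∀ a ∈ A, ∀ b ∈ A, a * b = b * a) →
      A.map Q.subtype ≤ Subgroup.center G := fun A hA hAab => by
    have := hA
    refine hcen _ (Cores.normal_map_subtype_of_characteristic A) ?_
    rintro _ ⟨a, ha, rfl⟩ _ ⟨b, hb, rfl⟩
    exact congrArg Q.subtype (hAab a ha b hb)
  obtain ⟨hc2, hcq, hpow⟩ := SympCore.classTwo_of_char_abelian_central hQ (fun A hA hAc a ha =>
    Subgroup.mem_center_iff.mpr fun u => Subtype.ext (Subgroup.mem_center_iff.mp
      (hchar A hA (fun a ha b hb => congrArg Subtype.val (hAc.is_comm.comm ⟨a, ha⟩ ⟨b, hb⟩))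
        ⟨a, ha, rfl⟩) u))
  obtain ⟨a, b, hab⟩ : ∃ a b : Q, ⁅a, b⁆ ≠ 1 := by
    by_contra hcon
    push Not at hcon
    exact hab fun a ha b hb =>
      congrArg Subtype.val (commutatorElement_eq_one_iff_mul_comm.mp (hcon ⟨a, ha⟩ ⟨b, hb⟩))
  set Z := Subgroup.center Q with hZdef
  have hZG : ∀ z : Q, z ∈ Z ↔ (z : G) ∈ Subgroup.center G := fun z =>
    ⟨fun h => hchar Z inferInstance (fun _ _ b hb => Subgroup.mem_center_iff.mp hb _) ⟨z, h, rfl⟩,
      fun h => Subgroup.mem_center_iff.mpr fun u => Subtype.ext (Subgroup.mem_center_iff.mp h u)⟩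
  -- elements of the centre whose `k`-th power is trivial are powers
  have hcyc : IsCyclic (Subgroup.center G) := isCyclic_of_normal htr inferInstance hZab hρ
  set c : Q := ⁅a, b⁆ with hcdef
  have hco : orderOf (c : G) = q := by
    refine orderOf_eq_prime ?_ ?_
    · exact congrArg Subtype.val (hcq a b)
    · exact fun h => hab (Subtype.ext h)
  have hcG : (c : G) ∈ Subgroup.center G := (hZG c).mp (hc2 a b)
  have hroot : ∀ z ∈ Subgroup.center G, z ^ q = 1 → z ∈ Subgroup.zpowers (c : G) := by
    intro z hz hzq
    rcases eq_or_ne z 1 with rfl | hz1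
    · exact one_mem _
    · have := hcyc
      have : Fintype (Subgroup.center G) := Fintype.ofFinite _
      set c' : Subgroup.center G := ⟨(c : G), hcG⟩
      have hsub : (Subgroup.zpowers c' : Set (Subgroup.center G)).toFinset ⊆
          Finset.univ.filter (fun u : Subgroup.center G => u ^ q = 1) := by
        intro u hu
        rw [Set.mem_toFinset, SetLike.mem_coe] at hu
        refine Finset.mem_filter.mpr ⟨Finset.mem_univ _, ?_⟩
        rw [← hco, ← Subgroup.orderOf_mk (c : G) hcG]
        exact orderOf_dvd_iff_pow_eq_one.mp (orderOf_dvd_of_mem_zpowers hu)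
      have heq := Finset.eq_of_subset_of_card_le hsub
        ((IsCyclic.card_pow_eq_one_le hq.pos).trans_eq (by
          rw [Set.toFinset_card, ← Nat.card_eq_fintype_card]
          show q = Nat.card (Subgroup.zpowers c')
          rw [Nat.card_zpowers, Subgroup.orderOf_mk, hco]))
      have hz' : (⟨z, hz⟩ : Subgroup.center G) ∈ (Subgroup.zpowers c' : Set (Subgroup.center G)).toFinset := by
        rw [heq]
        exact Finset.mem_filter.mpr ⟨Finset.mem_univ _, Subtype.ext hzq⟩
      obtain ⟨i, hi⟩ := Subgroup.mem_zpowers_iff.mp (Set.mem_toFinset.mp hz')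
      exact Subgroup.mem_zpowers_iff.mpr ⟨i, congrArg Subtype.val hi⟩
  set C := Subgroup.zpowers c with hCdef
  have hCcard : Nat.card C = q := by rw [Nat.card_zpowers, ← Subgroup.orderOf_coe, hco]
  have hCZ : C ≤ Z := Subgroup.zpowers_le.mpr (hc2 a b)
  have hmemC : ∀ u v : Q, ⁅u, v⁆ ∈ C := by
    intro u v
    obtain ⟨i, hi⟩ := Subgroup.mem_zpowers_iff.mp
      (hroot _ ((hZG _).mp (hc2 u v)) (congrArg Subtype.val (hcq u v)))
    exact Subgroup.mem_zpowers_iff.mpr ⟨i, Subtype.ext (by rw [SubgroupClass.coe_zpow]; exact hi)⟩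
  obtain ⟨m, hm⟩ := SympCore.exists_index_center_eq_sq C hCZ hCcard hmemC
  -- the bound
  have hm1 : q ^ m = 2 ∧ q = 2 := by
    have hm0 : m ≠ 0 := by
      rintro rfl
      rw [pow_zero, one_pow, Subgroup.index_eq_one] at hm
      exact hab (commutatorElement_eq_one_iff_mul_comm.mpr
        (Subgroup.mem_center_iff.mp (hm ▸ Subgroup.mem_top b) a))
    let σ : Q →* Module.End (ZMod p) V := (op ρ).comp Q.subtype
    have hle := LocalEven.Extraspecial.card_le_sq σ
      (fun u hu => by
        have h : op ρ (u : G) ∈ spanOp ρ (Subgroup.center G) := op_mem_span ρ ((hZG u).mp hu)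
        have hbot : spanOp ρ (Subgroup.center G) = ⊥ := by
          refine (SetLike.coe_injective (Set.eq_of_subset_of_ncard_le
            (show ((⊥ : Subalgebra (ZMod p) (Module.End (ZMod p) V)) : Set (Module.End (ZMod p) V)) ⊆
              (spanOp ρ (Subgroup.center G) : Set (Module.End (ZMod p) V)) from
                SetLike.coe_subset_coe.mpr bot_le)
            (le_of_eq ?_) (Set.toFinite _))).symm
          rw [← Nat.card_coe_set_eq, ← Nat.card_coe_set_eq]
          exact hZspan.trans card_bot_subalgebra.symm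
        obtain ⟨k, hk⟩ := Algebra.mem_bot.mp (hbot ▸ h)
        exact ⟨k, hk.symm.trans (Algebra.algebraMap_eq_smul_one k)⟩)
      (fun u _ hu => Subtype.ext (op_injective ρ hρ (by
        rw [OneMemClass.coe_one, map_one]; exact hu)))
      (by rw [commutator_def, Subgroup.commutator_le]; exact fun a _ b _ => hc2 a b)
    have hfr : Module.finrank (ZMod p) V = 2 := by
      have h := Module.natCard_eq_pow_finrank (K := ZMod p) (V := V)
      rw [hV, Nat.card_zmod] at h
      exact (Nat.pow_right_injective hpp.two_le h).symm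
    rw [hfr, ← Subgroup.index_eq_card, hm] at hle
    have h1 : q ^ m ≤ 2 := (Nat.pow_le_pow_iff_left two_ne_zero).mp hle
    have h2 : q ≤ q ^ m := Nat.le_self_pow hm0 q
    have := hq.two_le
    omega
  obtain ⟨hm1, rfl⟩ := hm1
  have hidx : Z.index = 4 := by rw [hm, hm1]; norm_num
  -- other cores are central
  have hFQ : Cfsg.fittingSubgroup G = Q ⊔ Subgroup.center G := by
    refine le_antisymm ?_ (sup_le Cores.pCore_le_fittingSubgroup
      (Cores.le_fittingSubgroup inferInstance
        (Cores.isNilpotent_of_commutator_commutator_eq_bot (by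
          rw [(Subgroup.commutator_eq_bot_iff_le_centralizer).mpr
              (fun x hx => Subgroup.mem_centralizer_iff.mpr fun y hy => hZab y hy x hx),
            Subgroup.commutator_bot_left]))))
    rw [Cores.fittingSubgroup_eq_iSup_pCore]
    refine iSup_le fun r => ?_
    by_cases hr : (r : ℕ) = 2
    · rw [hr]; exact le_sup_left
    · refine le_trans ?_ le_sup_right
      have : Fact (r : ℕ).Prime := ⟨r.2⟩
      set R := Cfsg.pCore (r : ℕ) G
      have hRchar : R.Characteristic :=
        Subgroup.characteristic_iff_map_eq.2 fun e => Cores.map_pCore_equiv e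
      by_cases hRab : ∀ a ∈ R, ∀ b ∈ R, a * b = b * a
      · exact hcen R inferInstance hRab
      · exfalso
        have hchar' : ∀ A : Subgroup R, A.Characteristic → IsMulCommutative A →
            A ≤ Subgroup.center R := by
          intro A hA hAc x hx
          have := hA
          refine Subgroup.mem_center_iff.mpr fun u => Subtype.ext (Subgroup.mem_center_iff.mp
            (hcen _ (Cores.normal_map_subtype_of_characteristic A) ?_ ⟨x, hx, rfl⟩) u)
          rintro _ ⟨a, ha, rfl⟩ _ ⟨b, hb, rfl⟩
          exact congrArg R.subtype (congrArg Subtype.val (hAc.is_comm.comm ⟨a, ha⟩ ⟨b, hb⟩))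
        obtain ⟨hc2', -, hpow'⟩ :=
          SympCore.classTwo_of_char_abelian_central Cores.pCore_isPGroup hchar'
        -- the centre of this core has index at most four, a power of an odd prime
        let σ : R →* Module.End (ZMod p) V := (op ρ).comp R.subtype
        have hle := LocalEven.Extraspecial.card_le_sq σ
          (fun u hu => by
            have hu' : (u : G) ∈ Subgroup.center G := by
              have hn := Cores.normal_map_subtype_of_characteristic (N := R) (Subgroup.center R)
              refine hcen _ hn ?_ ⟨u, hu, rfl⟩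
              rintro _ ⟨a, ha, rfl⟩ _ ⟨b, hb, rfl⟩
              exact congrArg R.subtype (Subgroup.mem_center_iff.mp hb a)
            have h : op ρ (u : G) ∈ spanOp ρ (Subgroup.center G) := op_mem_span ρ hu'
            have hbot : spanOp ρ (Subgroup.center G) = ⊥ := by
              refine (SetLike.coe_injective (Set.eq_of_subset_of_ncard_le
                (show ((⊥ : Subalgebra (ZMod p) (Module.End (ZMod p) V)) : Set (Module.End (ZMod p) V)) ⊆
                  (spanOp ρ (Subgroup.center G) : Set (Module.End (ZMod p) V)) from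
                    SetLike.coe_subset_coe.mpr bot_le)
                (le_of_eq ?_) (Set.toFinite _))).symm
              rw [← Nat.card_coe_set_eq, ← Nat.card_coe_set_eq]
              exact hZspan.trans card_bot_subalgebra.symm
            obtain ⟨k, hk⟩ := Algebra.mem_bot.mp (hbot ▸ h)
            exact ⟨k, hk.symm.trans (Algebra.algebraMap_eq_smul_one k)⟩)
          (fun u _ hu => Subtype.ext (op_injective ρ hρ (by
            rw [OneMemClass.coe_one, map_one]; exact hu)))
          (by rw [commutator_def, Subgroup.commutator_le]; exact fun a _ b _ => hc2' a b)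
        have hfr : Module.finrank (ZMod p) V = 2 := by
          have h := Module.natCard_eq_pow_finrank (K := ZMod p) (V := V)
          rw [hV, Nat.card_zmod] at h
          exact (Nat.pow_right_injective hpp.two_le h).symm
        rw [hfr, ← Subgroup.index_eq_card] at hle
        obtain ⟨k, hk⟩ := IsPGroup.iff_card.mp (Cores.pCore_isPGroup (p := (r : ℕ)) (G := G))
        obtain ⟨i, hi, hi'⟩ := (Nat.dvd_prime_pow r.2).mp (hk ▸ (Subgroup.center R).index_dvd_card)
        have hr3 : 3 ≤ (r : ℕ) := by have := r.2.two_le; omega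
        have hi1 : i ≤ 1 := by
          by_contra hcon
          have h9 : 3 ^ 2 ≤ (r : ℕ) ^ i :=
            (Nat.pow_le_pow_left hr3 2).trans (Nat.pow_le_pow_right (by omega) (by omega))
          rw [hi'] at hle
          omega
        -- cyclic central quotient
        have hcycq : IsCyclic (R ⧸ Subgroup.center R) := by
          rcases (by omega : i = 0 ∨ i = 1) with rfl | rfl
          · have : Subsingleton (R ⧸ Subgroup.center R) :=
              (Nat.card_eq_one_iff_unique.mp (by rw [← Subgroup.index_eq_card, hi', pow_zero])).1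
            infer_instance
          · exact isCyclic_of_prime_card (p := (r : ℕ))
              (by rw [← Subgroup.index_eq_card, hi', pow_one])
        refine hRab fun x hx y hy => congrArg Subtype.val
          (commutative_of_cyclic_center_quotient (QuotientGroup.mk' (Subgroup.center R))
            (by rw [QuotientGroup.ker_mk']) ⟨x, hx⟩ ⟨y, hy⟩)
  -- cards
  set F := Cfsg.fittingSubgroup G with hFdef
  have hsub : (Subgroup.center G).subgroupOf Q = Z := Subgroup.ext fun z => by
    rw [Subgroup.mem_subgroupOf, hZG]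
  have hFcard : Nat.card F = 4 * Nat.card (Subgroup.center G) := by
    have h1 : (Subgroup.center G).relIndex F = 4 := by
      rw [hFQ, Subgroup.relIndex_sup_right, Subgroup.relIndex, hsub, hidx]
    have hle : Subgroup.center G ≤ F := hFQ ▸ le_sup_right
    rw [← Subgroup.card_mul_index ((Subgroup.center G).subgroupOf F),
      Nat.card_congr (Subgroup.subgroupOfEquivOfLe hle).toEquiv]
    rw [Subgroup.relIndex] at h1
    rw [h1, mul_comm]
  have hQcard : Nat.card Q = 4 * Nat.card (Q ⊓ Subgroup.center G : Subgroup G) := by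
    rw [← Z.card_mul_index, hidx, mul_comm, inf_comm, ← Subgroup.subgroupOf_map_subtype, hsub,
      Subgroup.card_map_of_injective Q.subtype_injective]
  have h2Z : 2 ∣ Nat.card (Subgroup.center G) := by
    rw [← hco, ← Subgroup.orderOf_mk (c : G) hcG]
    exact orderOf_dvd_natCard _
  -- action on the central quotient of `Q`
  let T := {y : Q ⧸ Z // y ≠ 1}
  have hTfin : Fintype T := Fintype.ofFinite T
  let act : G → (Q ⧸ Z) ≃* (Q ⧸ Z) := fun g =>
    QuotientGroup.congr Z Z (MulAut.conjNormal g)
      (Subgroup.characteristic_iff_map_eq.mp inferInstance _)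
  have hactmk : ∀ g (u : Q), act g (u : Q ⧸ Z) = ((MulAut.conjNormal g u : Q) : Q ⧸ Z) :=
    fun g u => rfl
  let φ : G →* Equiv.Perm T :=
    { toFun := fun g => (act g).toEquiv.subtypeEquiv fun y => by
        simp
      map_one' := by
        refine Equiv.ext fun y => Subtype.ext ?_
        obtain ⟨u, hu⟩ := QuotientGroup.mk_surjective y.1
        show act 1 y.1 = y.1
        rw [← hu, hactmk, map_one]
        rfl
      map_mul' := fun g h => by
        refine Equiv.ext fun y => Subtype.ext ?_
        obtain ⟨u, hu⟩ := QuotientGroup.mk_surjective y.1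
        show act (g * h) y.1 = act g (act h y.1)
        rw [← hu, hactmk, hactmk, hactmk, map_mul]
        rfl }
  have hker : ∀ g, g ∈ φ.ker ↔ ∀ u : Q, ⁅g, (u : G)⁆ ∈ Subgroup.center G := by
    intro g
    have key : ∀ u : Q, act g (u : Q ⧸ Z) = u ↔ ⁅g, (u : G)⁆ ∈ Subgroup.center G := by
      intro u
      rw [hactmk, QuotientGroup.eq, hZG]
      have e1 : (((MulAut.conjNormal g u : Q)⁻¹ * u : Q) : G) = g * (u : G)⁻¹ * g⁻¹ * u := by
        rw [Subgroup.coe_mul, Subgroup.coe_inv, MulAut.conjNormal_apply]; group
      have e2 : g * (u : G)⁻¹ * g⁻¹ * u = (u : G)⁻¹ * ⁅g, (u : G)⁆⁻¹ * u := by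
        rw [commutatorElement_def]; group
      rw [e1, e2]
      refine ⟨fun h => ?_, fun h => ?_⟩
      · have h2 := (inferInstance : (Subgroup.center G).Normal).conj_mem _ h (u : G)
        rwa [show (u : G) * ((u : G)⁻¹ * ⁅g, (u : G)⁆⁻¹ * u) * (u : G)⁻¹ = ⁅g, (u : G)⁆⁻¹ by group,
          inv_mem_iff] at h2
      · rw [Subgroup.mem_center_iff.mp (inv_mem h) (u : G)⁻¹, inv_mul_cancel_right]
        exact inv_mem h
    rw [MonoidHom.mem_ker]
    constructor
    · intro h u
      rw [← key]
      by_cases hu : (u : Q ⧸ Z) = 1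
      · rw [hu, map_one]
      · exact congrArg Subtype.val (congrArg (fun f : Equiv.Perm T => f ⟨_, hu⟩) h)
    · intro h
      refine Equiv.ext fun y => Subtype.ext ?_
      obtain ⟨u, hu⟩ := QuotientGroup.mk_surjective y.1
      show act g y.1 = y.1
      rw [← hu]
      exact (key u).mpr (h u)
  have hkerF : φ.ker = F := by
    apply le_antisymm
    · intro g hg
      rw [hker] at hg
      have hsq : ∀ u : Q, ⁅g, (u : G)⁆ ∈ Subgroup.zpowers (c : G) := fun u => by
        refine hroot _ (hg u) ?_
        rw [← PGroup.commutatorElement_pow_right (hg u) 2, commutatorElement_eq_one_iff_mul_comm]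
        exact Subgroup.mem_center_iff.mp ((hZG (u ^ 2)).mp (hpow u)) g
      obtain ⟨i, hi⟩ := Subgroup.mem_zpowers_iff.mp (hsq a)
      obtain ⟨j, hj⟩ := Subgroup.mem_zpowers_iff.mp (hsq b)
      have hcinv : (c : G)⁻¹ = (c : G) := inv_eq_of_mul_eq_one_right (by
        rw [← sq]; exact congrArg Subtype.val (hcq a b))
      have hba : ⁅(b : G), (a : G)⁆ = (c : G) := by
        rw [← commutatorElement_inv]; exact hcinv
      -- `h` matches `g` on `a` and `b`
      have hz : ∀ (u v : Q), ⁅(u : G), (v : G)⁆ ∈ Subgroup.center G := fun u v => (hZG _).mp (hc2 u v)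
      have hzpow : ∀ (u v : Q) (k : ℤ), ⁅(u : G) ^ k, (v : G)⁆ = ⁅(u : G), (v : G)⁆ ^ k := by
        intro u v k
        obtain ⟨n, rfl | rfl⟩ := Int.eq_nat_or_neg k
        · rw [zpow_natCast, zpow_natCast, PGroup.commutatorElement_pow_left (hz u v)]
        · rw [zpow_neg, zpow_neg, zpow_natCast, zpow_natCast,
            PGroup.commutatorElement_inv_left
              (by rw [PGroup.commutatorElement_pow_left (hz u v)]; exact pow_mem (hz u v) n),
            PGroup.commutatorElement_pow_left (hz u v)]
      set h : Q := b ^ i * a ^ j with hhdef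
      have hha : ⁅(h : G), (a : G)⁆ = ⁅g, (a : G)⁆ := by
        rw [hhdef, Subgroup.coe_mul, SubgroupClass.coe_zpow, SubgroupClass.coe_zpow,
          PGroup.commutatorElement_mul_left (by rw [hzpow, commutatorElement_self, one_zpow]; exact one_mem _),
          hzpow, hzpow, commutatorElement_self, one_zpow, mul_one, hba, hi]
      have hhb : ⁅(h : G), (b : G)⁆ = ⁅g, (b : G)⁆ := by
        rw [hhdef, Subgroup.coe_mul, SubgroupClass.coe_zpow, SubgroupClass.coe_zpow,
          PGroup.commutatorElement_mul_left (by rw [hzpow]; exact zpow_mem (hz a b) _),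
          hzpow, hzpow, commutatorElement_self, one_zpow, one_mul]
        exact hj
      have hg' : ∀ u : Q, ⁅(h : G), (u : G)⁆ = ⁅g, (u : G)⁆ →
          (g * (h : G)⁻¹) * u = u * (g * (h : G)⁻¹) := fun u hu => by
        rw [← commutatorElement_eq_one_iff_mul_comm,
          PGroup.commutatorElement_mul_left (by
            rw [PGroup.commutatorElement_inv_left (hz h u)]; exact inv_mem (hz h u)),
          PGroup.commutatorElement_inv_left (hz h u), hu, mul_inv_cancel]
      -- `Q` is generated by `a`, `b` and its centre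
      have hgen : ∀ u : Q, u ∈ Subgroup.closure {a, b} ⊔ Z := by
        intro u
        set K := Subgroup.closure {a, b} ⊔ Z
        have haK : a ∈ K := Subgroup.mem_sup_left (Subgroup.subset_closure (by simp))
        have hbK : b ∈ K := Subgroup.mem_sup_left (Subgroup.subset_closure (by simp))
        have hK : K = ⊤ := by
          have hZK : Z ≤ K := le_sup_right
          have h4 : (Z.relIndex K) * K.index = 4 := by
            rw [Subgroup.relIndex_mul_index hZK, hidx]
          have h3 : 3 ≤ Z.relIndex K := by
            have hna : a ∉ Z := fun h => hab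
              (commutatorElement_eq_one_iff_mul_comm.mpr (Subgroup.mem_center_iff.mp h b).symm)
            have hnb : b ∉ Z := fun h => hab
              (commutatorElement_eq_one_iff_mul_comm.mpr (Subgroup.mem_center_iff.mp h a))
            have hnab : a⁻¹ * b ∉ Z := fun h => hab (by
              have : ⁅a, a * (a⁻¹ * b)⁆ = 1 := by
                rw [commutatorElement_eq_one_iff_mul_comm]
                exact ((Commute.refl a).mul_right (Subgroup.mem_center_iff.mp h a)).eq
              rwa [mul_inv_cancel_left] at this)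
            let f : Fin 3 → K ⧸ Z.subgroupOf K :=
              ![((1 : K) : K ⧸ Z.subgroupOf K), ((⟨a, haK⟩ : K) : K ⧸ Z.subgroupOf K),
                ((⟨b, hbK⟩ : K) : K ⧸ Z.subgroupOf K)]
            have hf : Function.Injective f := by
              have hinv : ∀ {x : Q}, x⁻¹ ∈ Z ↔ x ∈ Z := inv_mem_iff
              have hnba : b⁻¹ * a ∉ Z := fun h => hnab (by
                have := Z.inv_mem h
                rwa [mul_inv_rev, inv_inv] at this)
              intro s t hst
              fin_cases s <;> fin_cases t <;>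
                simp [f, QuotientGroup.eq, QuotientGroup.eq_one_iff, eq_comm (a := (1 : K ⧸ Z.subgroupOf K)), Subgroup.mem_subgroupOf, hinv, hna, hnb, hnab, hnba] at hst ⊢
            have := Nat.card_le_card_of_injective f hf
            rwa [Nat.card_fin] at this
          rw [← Subgroup.index_eq_one]
          rcases Nat.lt_or_ge K.index 2 with h | h
          · have := Subgroup.index_ne_zero_of_finite (H := K); omega
          · nlinarith
        exact hK ▸ Subgroup.mem_top u
      have hcent : g * (h : G)⁻¹ ∈ Subgroup.centralizer (F : Set G) := by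
        have hle : F ≤ Subgroup.centralizer ({g * (h : G)⁻¹} : Set G) := by
          rw [hFQ, sup_le_iff]
          refine ⟨fun u hu => ?_, fun u hu => ?_⟩
          · have : (⟨u, hu⟩ : Q) ∈ (Subgroup.centralizer ({g * (h : G)⁻¹} : Set G)).subgroupOf Q := by
              refine (sup_le (a := Subgroup.closure {a, b}) (b := Z) ?_ fun z hz => ?_ : _ ≤ (Subgroup.centralizer ({g * (h : G)⁻¹} : Set G)).subgroupOf Q) (hgen ⟨u, hu⟩)
              · rw [Subgroup.closure_le]
                rintro x (rfl | rfl)
                · exact Subgroup.mem_centralizer_singleton_iff.mpr (hg' _ hha).symm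
                · exact Subgroup.mem_centralizer_singleton_iff.mpr (hg' _ hhb).symm
              · exact Subgroup.mem_centralizer_singleton_iff.mpr
                  (Subgroup.mem_center_iff.mp ((hZG z).mp hz) _).symm
            exact Subgroup.mem_subgroupOf.mp this
          · exact Subgroup.mem_centralizer_singleton_iff.mpr (Subgroup.mem_center_iff.mp hu _).symm
        exact Subgroup.mem_centralizer_iff.mpr fun u hu =>
          Subgroup.mem_centralizer_singleton_iff.mp (hle hu)
      have h1 : g * (h : G)⁻¹ ∈ F := Cores.centralizer_fittingSubgroup_le hcent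
      have h2 : (h : G) ∈ F := hFQ ▸ Subgroup.mem_sup_left h.2
      simpa using mul_mem h1 h2
    · rw [hFQ, sup_le_iff]
      refine ⟨fun v hv => (hker v).mpr fun u => (hZG _).mp (hc2 ⟨v, hv⟩ u), fun v hv => (hker v).mpr fun u => ?_⟩
      rw [commutatorElement_eq_one_iff_mul_comm.mpr (Subgroup.mem_center_iff.mp hv u).symm]
      exact one_mem _
  have hTcard : Nat.card T = 3 := by
    have h1 : Nat.card (Q ⧸ Z) = 4 := by rw [← Subgroup.index_eq_card, hidx]
    have : Fintype (Q ⧸ Z) := Fintype.ofFinite _
    rw [Nat.card_eq_fintype_card] at h1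
    rw [Nat.card_eq_fintype_card, Fintype.card_subtype_compl, h1, Fintype.card_subtype_eq]
  have hidx6 : F.index ∣ 6 := by
    rw [← hkerF, Subgroup.index_ker]
    have := Subgroup.card_subgroup_dvd_card φ.range
    rwa [Nat.card_perm, hTcard] at this
  refine ⟨⟨Q, hQn, hQ, hFQ, ⟨a, a.2, b, b.2, fun h => hab (Subtype.ext h)⟩, hQcard⟩, hFcard, h2Z,
    hZdvd, hidx6, ?_, ?_⟩
  · -- `G` is not nilpotent
    intro h1
    rw [Subgroup.index_eq_one] at h1
    set A := Subgroup.zpowers (a : G) ⊔ Subgroup.center G with hAdef
    have hAab : ∀ x ∈ A, ∀ y ∈ A, x * y = y * x := by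
      have h : A ≤ Subgroup.centralizer (A : Set G) := by
        rw [hAdef, sup_le_iff, Subgroup.le_centralizer_iff,
          Subgroup.le_centralizer_iff (H := Subgroup.center G)]
        refine ⟨?_, ?_⟩ <;> rw [sup_le_iff] <;> refine ⟨?_, ?_⟩
        · rw [Subgroup.zpowers_le]
          refine Subgroup.mem_centralizer_iff.mpr fun y hy => ?_
          obtain ⟨k, rfl⟩ := Subgroup.mem_zpowers_iff.mp hy
          exact (Commute.zpow_self (a : G) k).eq
        · exact fun x hx => Subgroup.mem_centralizer_iff.mpr fun y _ => Subgroup.mem_center_iff.mp hx y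
        · exact fun x _ => Subgroup.mem_centralizer_iff.mpr fun y hy =>
            (Subgroup.mem_center_iff.mp hy x).symm
        · exact fun x hx => Subgroup.mem_centralizer_iff.mpr fun y _ => Subgroup.mem_center_iff.mp hx y
      exact fun x hx y hy => Subgroup.mem_centralizer_iff.mp (h hy) x hx
    have hcommG : ∀ x y : G, ⁅x, y⁆ ∈ Subgroup.center G := by
      intro x y
      have hx : x ∈ φ.ker := hkerF ▸ h1 ▸ Subgroup.mem_top x
      have hy : y ∈ Q ⊔ Subgroup.center G := hFQ ▸ h1 ▸ Subgroup.mem_top y
      obtain ⟨u, hu, z, hz, rfl⟩ := Subgroup.mem_sup_of_normal_right.mp hy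
      have hxz : ⁅x, z⁆ = 1 :=
        commutatorElement_eq_one_iff_mul_comm.mpr (Subgroup.mem_center_iff.mp hz x)
      rw [PGroup.commutatorElement_mul_right (by rw [hxz]; exact one_mem _), hxz, mul_one]
      exact (hker x).mp hx ⟨u, hu⟩
    have hAn : A.Normal := ⟨fun x hx g => by
      have := mul_mem (Subgroup.mem_sup_right (hcommG g x) : _ ∈ A) hx
      rwa [commutatorElement_def, inv_mul_cancel_right] at this⟩
    have haZ : (a : G) ∈ Subgroup.center G :=
      hcen A hAn hAab (Subgroup.mem_sup_left (Subgroup.mem_zpowers _))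
    exact hab (commutatorElement_eq_one_iff_mul_comm.mpr
      (Subgroup.mem_center_iff.mp ((hZG a).mpr haZ) b).symm)
  · by_cases hodd : ∃ g, Equiv.Perm.sign (φ g) = -1
    · left
      refine ⟨(Equiv.Perm.sign.comp φ).ker, inferInstance, ?_⟩
      rw [Subgroup.index_ker]
      have hs : Function.Surjective (Equiv.Perm.sign.comp φ) := by
        intro z
        rcases Int.units_eq_one_or z with rfl | rfl
        · exact ⟨1, map_one _⟩
        · exact hodd
      rw [MonoidHom.range_eq_top.mpr hs, Subgroup.card_top, Nat.card_eq_fintype_card,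
        Fintype.card_units_int]
    · right
      push Not at hodd
      rw [← hkerF, Subgroup.index_ker]
      have hle : φ.range ≤ alternatingGroup T := by
        rintro _ ⟨g, rfl⟩
        exact Equiv.Perm.mem_alternatingGroup.mpr ((Int.units_eq_one_or _).resolve_right (hodd g))
      have := Subgroup.card_dvd_of_le hle
      have hnt : Nontrivial T := Finite.one_lt_card_iff_nontrivial.mp (by omega)
      rwa [nat_card_alternatingGroup, hTcard] at this

end Cfsg.Agent.Recog.TransLin
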