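import Cfsg.Agent.Recog.PermChain

/-!
# Generators and certificates for the Mathieu groups of degrees eleven and twelve
-/

set_option autoImplicit false

namespace Cfsg.Agent.Recog.MathieuTwelve

open Cfsg.Agent.Recog.PermChain

/-- A permutation given by two tables. -/
abbrev P12 := Equiv.Perm (Fin 12)

/-- The generator `s`. -/
def gs : P12 := ⟨![0, 1, 2, 4, 5, 3, 7, 8, 6, 10, 11, 9], ![0, 1, 2, 5, 3, 4, 8, 6, 7, 11, 9, 10], by decide, by decide⟩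
/-- The generator `t`. -/
def gt : P12 := ⟨![0, 1, 2, 6, 7, 8, 9, 10, 11, 3, 4, 5], ![0, 1, 2, 9, 10, 11, 3, 4, 5, 6, 7, 8], by decide, by decide⟩
/-- The generator `u`. -/
def gu : P12 := ⟨![0, 1, 2, 3, 6, 9, 5, 8, 11, 4, 7, 10], ![0, 1, 2, 3, 9, 6, 4, 10, 7, 5, 11, 8], by decide, by decide⟩
/-- The generator `v`. -/
def gv : P12 := ⟨![0, 1, 2, 3, 7, 11, 10, 5, 6, 8, 9, 4], ![0, 1, 2, 3, 11, 7, 8, 4, 9, 10, 6, 5], by decide, by decide⟩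
/-- The generator `w`. -/
def gw : P12 := ⟨![0, 1, 2, 3, 10, 8, 11, 6, 4, 7, 5, 9], ![0, 1, 2, 3, 8, 10, 7, 9, 5, 11, 4, 6], by decide, by decide⟩
/-- The generator `x1`. -/
def gx1 : P12 := ⟨![3, 1, 2, 0, 4, 5, 7, 6, 10, 11, 8, 9], ![3, 1, 2, 0, 4, 5, 7, 6, 10, 11, 8, 9], by decide, by decide⟩
/-- The generator `x2`. -/
def gx2 : P12 := ⟨![1, 0, 2, 3, 4, 5, 9, 10, 11, 6, 7, 8], ![1, 0, 2, 3, 4, 5, 9, 10, 11, 6, 7, 8], by decide, by decide⟩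
/-- The generator `x3`. -/
def gx3 : P12 := ⟨![0, 2, 1, 3, 4, 5, 11, 9, 10, 7, 8, 6], ![0, 2, 1, 3, 4, 5, 11, 9, 10, 7, 8, 6], by decide, by decide⟩
private def t0_0 : P12 := ⟨![0, 1, 2, 3, 4, 5, 6, 7, 8, 9, 10, 11], ![0, 1, 2, 3, 4, 5, 6, 7, 8, 9, 10, 11], by decide, by decide⟩
private def t0_1 : P12 := ⟨![0, 1, 2, 3, 6, 9, 5, 8, 11, 4, 7, 10], ![0, 1, 2, 3, 9, 6, 4, 10, 7, 5, 11, 8], by decide, by decide⟩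
private def t0_2 : P12 := ⟨![0, 1, 2, 3, 7, 11, 10, 5, 6, 8, 9, 4], ![0, 1, 2, 3, 11, 7, 8, 4, 9, 10, 6, 5], by decide, by decide⟩
private def t0_3 : P12 := ⟨![0, 1, 2, 3, 10, 8, 11, 6, 4, 7, 5, 9], ![0, 1, 2, 3, 8, 10, 7, 9, 5, 11, 4, 6], by decide, by decide⟩
private def t0_4 : P12 := ⟨![0, 1, 2, 3, 5, 4, 9, 11, 10, 6, 8, 7], ![0, 1, 2, 3, 5, 4, 9, 11, 10, 6, 8, 7], by decide, by decide⟩
private def t0_5 : P12 := ⟨![0, 1, 2, 3, 11, 7, 8, 4, 9, 10, 6, 5], ![0, 1, 2, 3, 7, 11, 10, 5, 6, 8, 9, 4], by decide, by decide⟩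
private def t0_6 : P12 := ⟨![0, 1, 2, 3, 8, 10, 7, 9, 5, 11, 4, 6], ![0, 1, 2, 3, 10, 8, 11, 6, 4, 7, 5, 9], by decide, by decide⟩
private def t0_7 : P12 := ⟨![0, 1, 2, 3, 9, 6, 4, 10, 7, 5, 11, 8], ![0, 1, 2, 3, 6, 9, 5, 8, 11, 4, 7, 10], by decide, by decide⟩
/-- The transversal at level 0. -/
def T0 : Fin 8 → P12 := ![t0_0, t0_1, t0_2, t0_3, t0_4, t0_5, t0_6, t0_7]
/-- The generators at level 0. -/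
def S0 : Fin 3 → P12 := ![gu, gv, gw]
theorem tree0 : ∀ i : Fin 8, (i : ℕ) = 0 ∧ T0 i = 1 ∨ ∃ g : Fin 3, ∃ j : Fin 8, (j : ℕ) < (i : ℕ) ∧ ∀ x, T0 i x = (S0 g * T0 j) x := by
  intro i
  fin_cases i
  · exact Or.inl ⟨rfl, Equiv.ext (by decide +kernel)⟩
  · exact Or.inr ⟨0, 0, by decide, by decide +kernel⟩
  · exact Or.inr ⟨1, 0, by decide, by decide +kernel⟩
  · exact Or.inr ⟨2, 0, by decide, by decide +kernel⟩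
  · exact Or.inr ⟨0, 1, by decide, by decide +kernel⟩
  · exact Or.inr ⟨2, 1, by decide, by decide +kernel⟩
  · exact Or.inr ⟨0, 2, by decide, by decide +kernel⟩
  · exact Or.inr ⟨1, 3, by decide, by decide +kernel⟩
theorem inj0 : ∀ i j : Fin 8, T0 i 4 = T0 j 4 → i = j := by decide +kernel
/-- Certificate. -/
def c0_0 : Fin 3 → Fin 8 → Fin 8 := ![![1, 4, 6, 2, 7, 3, 5, 0],
  ![2, 3, 4, 7, 5, 0, 1, 6],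
  ![3, 5, 1, 4, 6, 7, 0, 2]]
theorem closed0 : ∀ (g : Fin 3) (i : Fin 8) (x : Fin 12),
    (S0 g * T0 i) x = (T0 (c0_0 g i)) x := by decide +kernel
private def t1_0 : P12 := ⟨![0, 1, 2, 3, 4, 5, 6, 7, 8, 9, 10, 11], ![0, 1, 2, 3, 4, 5, 6, 7, 8, 9, 10, 11], by decide, by decide⟩
private def t1_1 : P12 := ⟨![0, 1, 2, 4, 5, 3, 7, 8, 6, 10, 11, 9], ![0, 1, 2, 5, 3, 4, 8, 6, 7, 11, 9, 10], by decide, by decide⟩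
private def t1_2 : P12 := ⟨![0, 1, 2, 6, 7, 8, 9, 10, 11, 3, 4, 5], ![0, 1, 2, 9, 10, 11, 3, 4, 5, 6, 7, 8], by decide, by decide⟩
private def t1_3 : P12 := ⟨![0, 1, 2, 5, 3, 4, 8, 6, 7, 11, 9, 10], ![0, 1, 2, 4, 5, 3, 7, 8, 6, 10, 11, 9], by decide, by decide⟩
private def t1_4 : P12 := ⟨![0, 1, 2, 7, 8, 6, 10, 11, 9, 4, 5, 3], ![0, 1, 2, 11, 9, 10, 5, 3, 4, 8, 6, 7], by decide, by decide⟩
private def t1_5 : P12 := ⟨![0, 1, 2, 10, 8, 3, 6, 4, 11, 5, 9, 7], ![0, 1, 2, 5, 7, 9, 6, 11, 4, 10, 3, 8], by decide, by decide⟩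
private def t1_6 : P12 := ⟨![0, 1, 2, 9, 10, 11, 3, 4, 5, 6, 7, 8], ![0, 1, 2, 6, 7, 8, 9, 10, 11, 3, 4, 5], by decide, by decide⟩
private def t1_7 : P12 := ⟨![0, 1, 2, 11, 6, 4, 7, 5, 9, 3, 10, 8], ![0, 1, 2, 9, 5, 7, 4, 6, 11, 8, 10, 3], by decide, by decide⟩
private def t1_8 : P12 := ⟨![0, 1, 2, 8, 6, 7, 11, 9, 10, 5, 3, 4], ![0, 1, 2, 10, 11, 9, 4, 5, 3, 7, 8, 6], by decide, by decide⟩
/-- The transversal at level 1. -/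
def T1 : Fin 9 → P12 := ![t1_0, t1_1, t1_2, t1_3, t1_4, t1_5, t1_6, t1_7, t1_8]
/-- The generators at level 1. -/
def S1 : Fin 5 → P12 := ![gs, gt, gu, gv, gw]
theorem tree1 : ∀ i : Fin 9, (i : ℕ) = 0 ∧ T1 i = 1 ∨ ∃ g : Fin 5, ∃ j : Fin 9, (j : ℕ) < (i : ℕ) ∧ ∀ x, T1 i x = (S1 g * T1 j) x := by
  intro i
  fin_cases i
  · exact Or.inl ⟨rfl, Equiv.ext (by decide +kernel)⟩
  · exact Or.inr ⟨0, 0, by decide, by decide +kernel⟩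
  · exact Or.inr ⟨1, 0, by decide, by decide +kernel⟩
  · exact Or.inr ⟨0, 1, by decide, by decide +kernel⟩
  · exact Or.inr ⟨1, 1, by decide, by decide +kernel⟩
  · exact Or.inr ⟨4, 1, by decide, by decide +kernel⟩
  · exact Or.inr ⟨1, 2, by decide, by decide +kernel⟩
  · exact Or.inr ⟨4, 2, by decide, by decide +kernel⟩
  · exact Or.inr ⟨1, 3, by decide, by decide +kernel⟩
theorem inj1 : ∀ i j : Fin 9, T1 i 3 = T1 j 3 → i = j := by decide +kernel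
/-- Certificate. -/
def c1_0 : Fin 5 → Fin 9 → Fin 9 := ![![1, 3, 4, 0, 8, 7, 5, 6, 2],
  ![2, 4, 6, 8, 5, 1, 0, 3, 7],
  ![0, 2, 3, 6, 8, 4, 1, 5, 7],
  ![0, 4, 5, 7, 3, 6, 8, 1, 2],
  ![0, 5, 7, 8, 2, 3, 4, 6, 1]]
/-- Certificate. -/
def c1_1 : Fin 5 → Fin 9 → Fin 8 := ![![0, 0, 0, 0, 0, 0, 6, 3, 0],
  ![0, 0, 0, 0, 6, 3, 0, 3, 6],
  ![1, 1, 1, 1, 1, 2, 1, 7, 2],
  ![2, 2, 7, 7, 2, 7, 2, 7, 2],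
  ![3, 0, 0, 3, 3, 4, 3, 4, 3]]
theorem closed1 : ∀ (g : Fin 5) (i : Fin 9) (x : Fin 12),
    (S1 g * T1 i) x = (T1 (c1_0 g i) * T0 (c1_1 g i)) x := by decide +kernel
private def t2_0 : P12 := ⟨![0, 1, 2, 3, 4, 5, 6, 7, 8, 9, 10, 11], ![0, 1, 2, 3, 4, 5, 6, 7, 8, 9, 10, 11], by decide, by decide⟩
private def t2_1 : P12 := ⟨![3, 1, 2, 0, 4, 5, 7, 6, 10, 11, 8, 9], ![3, 1, 2, 0, 4, 5, 7, 6, 10, 11, 8, 9], by decide, by decide⟩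
private def t2_2 : P12 := ⟨![4, 1, 2, 0, 5, 3, 8, 7, 11, 9, 6, 10], ![3, 1, 2, 5, 0, 4, 10, 7, 6, 9, 11, 8], by decide, by decide⟩
private def t2_3 : P12 := ⟨![6, 1, 2, 0, 7, 8, 10, 9, 4, 5, 11, 3], ![3, 1, 2, 11, 8, 9, 0, 4, 5, 7, 6, 10], by decide, by decide⟩
private def t2_4 : P12 := ⟨![5, 1, 2, 0, 3, 4, 6, 8, 9, 10, 7, 11], ![3, 1, 2, 4, 5, 0, 6, 10, 7, 8, 9, 11], by decide, by decide⟩
private def t2_5 : P12 := ⟨![7, 1, 2, 0, 8, 6, 11, 10, 5, 3, 9, 4], ![3, 1, 2, 9, 11, 8, 5, 0, 4, 10, 7, 6], by decide, by decide⟩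
private def t2_6 : P12 := ⟨![10, 1, 2, 0, 8, 3, 4, 6, 9, 7, 11, 5], ![3, 1, 2, 5, 6, 11, 7, 9, 4, 8, 0, 10], by decide, by decide⟩
private def t2_7 : P12 := ⟨![9, 1, 2, 0, 10, 11, 4, 3, 7, 8, 5, 6], ![3, 1, 2, 7, 6, 10, 11, 8, 9, 0, 4, 5], by decide, by decide⟩
private def t2_8 : P12 := ⟨![11, 1, 2, 0, 6, 4, 5, 7, 10, 8, 9, 3], ![3, 1, 2, 11, 5, 6, 4, 7, 9, 10, 8, 0], by decide, by decide⟩
private def t2_9 : P12 := ⟨![8, 1, 2, 0, 6, 7, 9, 11, 3, 4, 10, 5], ![3, 1, 2, 8, 9, 11, 4, 5, 0, 6, 10, 7], by decide, by decide⟩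
/-- The transversal at level 2. -/
def T2 : Fin 10 → P12 := ![t2_0, t2_1, t2_2, t2_3, t2_4, t2_5, t2_6, t2_7, t2_8, t2_9]
/-- The generators at level 2. -/
def S2 : Fin 6 → P12 := ![gs, gt, gu, gv, gw, gx1]
theorem tree2 : ∀ i : Fin 10, (i : ℕ) = 0 ∧ T2 i = 1 ∨ ∃ g : Fin 6, ∃ j : Fin 10, (j : ℕ) < (i : ℕ) ∧ ∀ x, T2 i x = (S2 g * T2 j) x := by
  intro i
  fin_cases i
  · exact Or.inl ⟨rfl, Equiv.ext (by decide +kernel)⟩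
  · exact Or.inr ⟨5, 0, by decide, by decide +kernel⟩
  · exact Or.inr ⟨0, 1, by decide, by decide +kernel⟩
  · exact Or.inr ⟨1, 1, by decide, by decide +kernel⟩
  · exact Or.inr ⟨0, 2, by decide, by decide +kernel⟩
  · exact Or.inr ⟨1, 2, by decide, by decide +kernel⟩
  · exact Or.inr ⟨4, 2, by decide, by decide +kernel⟩
  · exact Or.inr ⟨1, 3, by decide, by decide +kernel⟩
  · exact Or.inr ⟨4, 3, by decide, by decide +kernel⟩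
  · exact Or.inr ⟨1, 4, by decide, by decide +kernel⟩
theorem inj2 : ∀ i j : Fin 10, T2 i 0 = T2 j 0 → i = j := by decide +kernel
/-- Certificate. -/
def c2_0 : Fin 6 → Fin 10 → Fin 10 := ![![0, 2, 4, 5, 1, 9, 8, 6, 7, 3],
  ![0, 3, 5, 7, 9, 6, 2, 1, 4, 8],
  ![0, 1, 3, 4, 7, 9, 5, 2, 6, 8],
  ![0, 1, 5, 6, 8, 4, 7, 9, 2, 3],
  ![0, 1, 6, 8, 9, 3, 4, 5, 7, 2],
  ![1, 0, 2, 5, 4, 3, 9, 8, 7, 6]]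
/-- Certificate. -/
def c2_1 : Fin 6 → Fin 10 → Fin 9 := ![![1, 0, 0, 0, 0, 0, 0, 0, 0, 0],
  ![2, 0, 0, 0, 0, 0, 0, 0, 0, 0],
  ![0, 0, 0, 0, 0, 0, 0, 0, 0, 0],
  ![0, 0, 0, 0, 0, 0, 0, 0, 0, 0],
  ![0, 0, 0, 0, 0, 0, 0, 0, 0, 0],
  ![0, 0, 3, 6, 1, 7, 8, 7, 4, 3]]
/-- Certificate. -/
def c2_2 : Fin 6 → Fin 10 → Fin 8 := ![![0, 0, 0, 0, 0, 0, 0, 3, 6, 0],
  ![0, 0, 0, 0, 0, 3, 6, 0, 6, 3],
  ![1, 2, 2, 2, 2, 2, 1, 2, 5, 1],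
  ![2, 1, 1, 5, 5, 1, 5, 1, 5, 1],
  ![3, 6, 0, 0, 6, 6, 4, 6, 4, 6],
  ![0, 0, 4, 6, 4, 0, 6, 6, 0, 3]]
theorem closed2 : ∀ (g : Fin 6) (i : Fin 10) (x : Fin 12),
    (S2 g * T2 i) x = (T2 (c2_0 g i) * T1 (c2_1 g i) * T0 (c2_2 g i)) x := by decide +kernel
private def t3_0 : P12 := ⟨![0, 1, 2, 3, 4, 5, 6, 7, 8, 9, 10, 11], ![0, 1, 2, 3, 4, 5, 6, 7, 8, 9, 10, 11], by decide, by decide⟩
private def t3_1 : P12 := ⟨![1, 0, 2, 3, 4, 5, 9, 10, 11, 6, 7, 8], ![1, 0, 2, 3, 4, 5, 9, 10, 11, 6, 7, 8], by decide, by decide⟩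
private def t3_2 : P12 := ⟨![1, 3, 2, 0, 4, 5, 11, 8, 9, 7, 6, 10], ![3, 0, 2, 1, 4, 5, 10, 9, 7, 8, 11, 6], by decide, by decide⟩
private def t3_3 : P12 := ⟨![1, 4, 2, 0, 5, 3, 9, 6, 10, 8, 7, 11], ![3, 0, 2, 5, 1, 4, 7, 10, 9, 6, 8, 11], by decide, by decide⟩
private def t3_4 : P12 := ⟨![1, 6, 2, 0, 7, 8, 5, 11, 3, 10, 9, 4], ![3, 0, 2, 8, 11, 6, 1, 4, 5, 10, 9, 7], by decide, by decide⟩
private def t3_5 : P12 := ⟨![1, 5, 2, 0, 3, 4, 10, 7, 11, 6, 8, 9], ![3, 0, 2, 4, 5, 1, 9, 7, 10, 11, 6, 8], by decide, by decide⟩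
private def t3_6 : P12 := ⟨![1, 7, 2, 0, 8, 6, 3, 9, 4, 11, 10, 5], ![3, 0, 2, 6, 8, 11, 5, 1, 4, 7, 10, 9], by decide, by decide⟩
private def t3_7 : P12 := ⟨![1, 10, 2, 0, 8, 3, 7, 11, 5, 4, 6, 9], ![3, 0, 2, 5, 9, 8, 10, 6, 4, 11, 1, 7], by decide, by decide⟩
private def t3_8 : P12 := ⟨![1, 9, 2, 0, 10, 11, 8, 5, 6, 4, 3, 7], ![3, 0, 2, 10, 9, 7, 8, 11, 6, 1, 4, 5], by decide, by decide⟩
private def t3_9 : P12 := ⟨![1, 11, 2, 0, 6, 4, 8, 9, 3, 5, 7, 10], ![3, 0, 2, 8, 5, 9, 4, 10, 6, 7, 11, 1], by decide, by decide⟩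
private def t3_10 : P12 := ⟨![1, 8, 2, 0, 6, 7, 4, 10, 5, 9, 11, 3], ![3, 0, 2, 11, 6, 8, 4, 5, 1, 9, 7, 10], by decide, by decide⟩
/-- The transversal at level 3. -/
def T3 : Fin 11 → P12 := ![t3_0, t3_1, t3_2, t3_3, t3_4, t3_5, t3_6, t3_7, t3_8, t3_9, t3_10]
/-- The generators at level 3. -/
def S3 : Fin 7 → P12 := ![gs, gt, gu, gv, gw, gx1, gx2]
theorem tree3 : ∀ i : Fin 11, (i : ℕ) = 0 ∧ T3 i = 1 ∨ ∃ g : Fin 7, ∃ j : Fin 11, (j : ℕ) < (i : ℕ) ∧ ∀ x, T3 i x = (S3 g * T3 j) x := by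
  intro i
  fin_cases i
  · exact Or.inl ⟨rfl, Equiv.ext (by decide +kernel)⟩
  · exact Or.inr ⟨6, 0, by decide, by decide +kernel⟩
  · exact Or.inr ⟨5, 1, by decide, by decide +kernel⟩
  · exact Or.inr ⟨0, 2, by decide, by decide +kernel⟩
  · exact Or.inr ⟨1, 2, by decide, by decide +kernel⟩
  · exact Or.inr ⟨0, 3, by decide, by decide +kernel⟩
  · exact Or.inr ⟨1, 3, by decide, by decide +kernel⟩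
  · exact Or.inr ⟨4, 3, by decide, by decide +kernel⟩
  · exact Or.inr ⟨1, 4, by decide, by decide +kernel⟩
  · exact Or.inr ⟨4, 4, by decide, by decide +kernel⟩
  · exact Or.inr ⟨1, 5, by decide, by decide +kernel⟩
theorem inj3 : ∀ i j : Fin 11, T3 i 1 = T3 j 1 → i = j := by decide +kernel
/-- Certificate. -/
def c3_0 : Fin 7 → Fin 11 → Fin 11 := ![![0, 1, 3, 5, 6, 2, 10, 9, 7, 8, 4],
  ![0, 1, 4, 6, 8, 10, 7, 3, 2, 5, 9],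
  ![0, 1, 2, 4, 5, 8, 10, 6, 3, 7, 9],
  ![0, 1, 2, 6, 7, 9, 5, 8, 10, 3, 4],
  ![0, 1, 2, 7, 9, 10, 4, 5, 6, 8, 3],
  ![0, 2, 1, 3, 6, 5, 4, 10, 9, 8, 7],
  ![1, 0, 2, 3, 8, 5, 7, 6, 4, 10, 9]]
/-- Certificate. -/
def c3_1 : Fin 7 → Fin 11 → Fin 10 := ![![0, 0, 0, 0, 0, 0, 0, 0, 0, 0, 0],
  ![0, 0, 0, 0, 0, 0, 0, 0, 0, 0, 0],
  ![0, 0, 0, 0, 0, 0, 0, 0, 0, 0, 0],
  ![0, 0, 0, 0, 0, 0, 0, 0, 0, 0, 0],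
  ![0, 0, 0, 0, 0, 0, 0, 0, 0, 0, 0],
  ![1, 0, 0, 0, 0, 0, 0, 0, 0, 0, 0],
  ![0, 0, 1, 1, 1, 1, 1, 1, 1, 1, 1]]
/-- Certificate. -/
def c3_2 : Fin 7 → Fin 11 → Fin 9 := ![![1, 1, 0, 0, 0, 0, 0, 0, 0, 0, 0],
  ![2, 6, 0, 0, 0, 0, 0, 0, 0, 0, 0],
  ![0, 0, 0, 0, 0, 0, 0, 0, 0, 0, 0],
  ![0, 0, 0, 0, 0, 0, 0, 0, 0, 0, 0],
  ![0, 0, 0, 0, 0, 0, 0, 0, 0, 0, 0],
  ![0, 0, 0, 3, 2, 1, 8, 7, 8, 5, 3],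
  ![0, 0, 0, 0, 0, 0, 0, 0, 0, 0, 0]]
/-- Certificate. -/
def c3_3 : Fin 7 → Fin 11 → Fin 8 := ![![0, 0, 0, 0, 0, 0, 0, 0, 2, 5, 0],
  ![0, 0, 0, 0, 0, 0, 2, 5, 0, 5, 2],
  ![1, 7, 3, 3, 3, 3, 3, 7, 3, 6, 7],
  ![2, 3, 7, 7, 6, 6, 7, 6, 7, 6, 7],
  ![3, 2, 5, 0, 0, 5, 5, 4, 5, 4, 5],
  ![0, 0, 0, 4, 5, 4, 2, 1, 0, 6, 2],
  ![0, 0, 0, 0, 0, 0, 1, 5, 0, 5, 1]]
theorem closed3 : ∀ (g : Fin 7) (i : Fin 11) (x : Fin 12),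
    (S3 g * T3 i) x = (T3 (c3_0 g i) * T2 (c3_1 g i) * T1 (c3_2 g i) * T0 (c3_3 g i)) x := by decide +kernel
private def t4_0 : P12 := ⟨![0, 1, 2, 3, 4, 5, 6, 7, 8, 9, 10, 11], ![0, 1, 2, 3, 4, 5, 6, 7, 8, 9, 10, 11], by decide, by decide⟩
private def t4_1 : P12 := ⟨![0, 2, 1, 3, 4, 5, 11, 9, 10, 7, 8, 6], ![0, 2, 1, 3, 4, 5, 11, 9, 10, 7, 8, 6], by decide, by decide⟩
private def t4_2 : P12 := ⟨![1, 2, 0, 3, 4, 5, 8, 6, 7, 10, 11, 9], ![2, 0, 1, 3, 4, 5, 7, 8, 6, 11, 9, 10], by decide, by decide⟩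
private def t4_3 : P12 := ⟨![1, 2, 3, 0, 4, 5, 10, 7, 6, 8, 9, 11], ![3, 0, 1, 2, 4, 5, 8, 7, 9, 10, 6, 11], by decide, by decide⟩
private def t4_4 : P12 := ⟨![1, 2, 4, 0, 5, 3, 11, 8, 7, 6, 10, 9], ![3, 0, 1, 5, 2, 4, 9, 8, 7, 11, 10, 6], by decide, by decide⟩
private def t4_5 : P12 := ⟨![1, 2, 6, 0, 7, 8, 4, 10, 9, 11, 3, 5], ![3, 0, 1, 10, 6, 11, 2, 4, 5, 8, 7, 9], by decide, by decide⟩
private def t4_6 : P12 := ⟨![1, 2, 5, 0, 3, 4, 9, 6, 8, 7, 11, 10], ![3, 0, 1, 4, 5, 2, 7, 9, 8, 6, 11, 10], by decide, by decide⟩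
private def t4_7 : P12 := ⟨![1, 2, 7, 0, 8, 6, 5, 11, 10, 9, 4, 3], ![3, 0, 1, 11, 10, 6, 5, 2, 4, 9, 8, 7], by decide, by decide⟩
private def t4_8 : P12 := ⟨![1, 2, 10, 0, 8, 3, 9, 4, 6, 11, 5, 7], ![3, 0, 1, 5, 7, 10, 8, 11, 4, 6, 2, 9], by decide, by decide⟩
private def t4_9 : P12 := ⟨![1, 2, 9, 0, 10, 11, 7, 4, 3, 5, 6, 8], ![3, 0, 1, 8, 7, 9, 10, 6, 11, 2, 4, 5], by decide, by decide⟩
private def t4_10 : P12 := ⟨![1, 2, 11, 0, 6, 4, 10, 5, 7, 9, 3, 8], ![3, 0, 1, 10, 5, 7, 4, 8, 11, 9, 6, 2], by decide, by decide⟩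
private def t4_11 : P12 := ⟨![1, 2, 8, 0, 6, 7, 3, 9, 11, 10, 5, 4], ![3, 0, 1, 6, 11, 10, 4, 5, 2, 7, 9, 8], by decide, by decide⟩
/-- The transversal at level 4. -/
def T4 : Fin 12 → P12 := ![t4_0, t4_1, t4_2, t4_3, t4_4, t4_5, t4_6, t4_7, t4_8, t4_9, t4_10, t4_11]
/-- The generators at level 4. -/
def S4 : Fin 8 → P12 := ![gs, gt, gu, gv, gw, gx1, gx2, gx3]
theorem tree4 : ∀ i : Fin 12, (i : ℕ) = 0 ∧ T4 i = 1 ∨ ∃ g : Fin 8, ∃ j : Fin 12, (j : ℕ) < (i : ℕ) ∧ ∀ x, T4 i x = (S4 g * T4 j) x := by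
  intro i
  fin_cases i
  · exact Or.inl ⟨rfl, Equiv.ext (by decide +kernel)⟩
  · exact Or.inr ⟨7, 0, by decide, by decide +kernel⟩
  · exact Or.inr ⟨6, 1, by decide, by decide +kernel⟩
  · exact Or.inr ⟨5, 2, by decide, by decide +kernel⟩
  · exact Or.inr ⟨0, 3, by decide, by decide +kernel⟩
  · exact Or.inr ⟨1, 3, by decide, by decide +kernel⟩
  · exact Or.inr ⟨0, 4, by decide, by decide +kernel⟩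
  · exact Or.inr ⟨1, 4, by decide, by decide +kernel⟩
  · exact Or.inr ⟨4, 4, by decide, by decide +kernel⟩
  · exact Or.inr ⟨1, 5, by decide, by decide +kernel⟩
  · exact Or.inr ⟨4, 5, by decide, by decide +kernel⟩
  · exact Or.inr ⟨1, 6, by decide, by decide +kernel⟩
theorem inj4 : ∀ i j : Fin 12, T4 i 2 = T4 j 2 → i = j := by decide +kernel
/-- Certificate. -/
def c4_0 : Fin 8 → Fin 12 → Fin 12 := ![![0, 1, 2, 4, 6, 7, 3, 11, 10, 8, 9, 5],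
  ![0, 1, 2, 5, 7, 9, 11, 8, 4, 3, 6, 10],
  ![0, 1, 2, 3, 5, 6, 9, 11, 7, 4, 8, 10],
  ![0, 1, 2, 3, 7, 8, 10, 6, 9, 11, 4, 5],
  ![0, 1, 2, 3, 8, 10, 11, 5, 6, 7, 9, 4],
  ![0, 1, 3, 2, 4, 7, 6, 5, 11, 10, 9, 8],
  ![0, 2, 1, 3, 4, 9, 6, 8, 7, 5, 11, 10],
  ![1, 0, 2, 3, 4, 10, 6, 9, 11, 7, 5, 8]]
/-- Certificate. -/
def c4_1 : Fin 8 → Fin 12 → Fin 11 := ![![0, 0, 0, 0, 0, 0, 0, 0, 0, 0, 0, 0],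
  ![0, 0, 0, 0, 0, 0, 0, 0, 0, 0, 0, 0],
  ![0, 0, 0, 0, 0, 0, 0, 0, 0, 0, 0, 0],
  ![0, 0, 0, 0, 0, 0, 0, 0, 0, 0, 0, 0],
  ![0, 0, 0, 0, 0, 0, 0, 0, 0, 0, 0, 0],
  ![0, 0, 0, 0, 0, 0, 0, 0, 0, 0, 0, 0],
  ![1, 0, 0, 0, 0, 0, 0, 0, 0, 0, 0, 0],
  ![0, 0, 1, 1, 1, 1, 1, 1, 1, 1, 1, 1]]
/-- Certificate. -/
def c4_2 : Fin 8 → Fin 12 → Fin 10 := ![![0, 0, 0, 0, 0, 0, 0, 0, 0, 0, 0, 0],
  ![0, 0, 0, 0, 0, 0, 0, 0, 0, 0, 0, 0],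
  ![0, 0, 0, 0, 0, 0, 0, 0, 0, 0, 0, 0],
  ![0, 0, 0, 0, 0, 0, 0, 0, 0, 0, 0, 0],
  ![0, 0, 0, 0, 0, 0, 0, 0, 0, 0, 0, 0],
  ![1, 1, 0, 0, 0, 0, 0, 0, 0, 0, 0, 0],
  ![0, 0, 0, 1, 1, 1, 1, 1, 1, 1, 1, 1],
  ![0, 0, 0, 0, 0, 0, 0, 0, 0, 0, 0, 0]]
/-- Certificate. -/
def c4_3 : Fin 8 → Fin 12 → Fin 9 := ![![1, 1, 1, 0, 0, 0, 0, 0, 0, 0, 0, 0],
  ![2, 7, 4, 0, 0, 0, 0, 0, 0, 0, 0, 0],
  ![0, 0, 0, 0, 0, 0, 0, 0, 0, 0, 0, 0],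
  ![0, 0, 0, 0, 0, 0, 0, 0, 0, 0, 0, 0],
  ![0, 0, 0, 0, 0, 0, 0, 0, 0, 0, 0, 0],
  ![0, 0, 0, 0, 3, 7, 1, 5, 2, 5, 8, 3],
  ![0, 0, 0, 0, 0, 0, 0, 0, 0, 0, 0, 0],
  ![0, 0, 0, 0, 0, 0, 0, 0, 0, 0, 0, 0]]
/-- Certificate. -/
def c4_4 : Fin 8 → Fin 12 → Fin 8 := ![![0, 0, 0, 0, 0, 0, 0, 0, 0, 7, 1, 0],
  ![0, 6, 0, 0, 0, 0, 0, 7, 1, 0, 1, 7],
  ![1, 5, 2, 6, 6, 6, 6, 6, 2, 6, 3, 2],
  ![2, 7, 6, 2, 2, 3, 3, 2, 3, 2, 3, 2],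
  ![3, 6, 7, 1, 0, 0, 1, 1, 4, 1, 4, 1],
  ![0, 0, 0, 0, 4, 2, 4, 5, 1, 6, 0, 7],
  ![0, 0, 0, 0, 0, 0, 0, 5, 1, 0, 1, 5],
  ![0, 0, 0, 0, 0, 1, 0, 0, 1, 0, 1, 1]]
theorem closed4 : ∀ (g : Fin 8) (i : Fin 12) (x : Fin 12),
    (S4 g * T4 i) x = (T4 (c4_0 g i) * T3 (c4_1 g i) * T2 (c4_2 g i) * T1 (c4_3 g i) * T0 (c4_4 g i)) x := by decide +kernel

end Cfsg.Agent.Recog.MathieuTwelve
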