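import Cfsg.Agent.Recog.TransLinear
import Cfsg.Agent.Arith.FiniteField

/-!
# Elements of primitive prime order in transitive linear groups
-/

namespace Cfsg.Agent.Recog.TransLin

open Polynomial

/-- The commutant of an element of primitive prime order: commutative, and the only elements of
order dividing `r` in it are powers of the element. -/
theorem commutant_facts {K V : Type*} [Field K] [Finite K] [AddCommGroup V] [Module K V] [Finite V]
    [Nontrivial V] {r n : ℕ} [Fact r.Prime] (hn : 0 < n)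
    (hord : orderOf ((Nat.card K : ℕ) : ZMod r) = n) (hV : Nat.card V = Nat.card K ^ n)
    {f : Module.End K V} (hf1 : f ≠ 1) (hfr : f ^ r = 1) :
    (∀ g h : Module.End K V, Commute g f → Commute h f → g * h = h * g) ∧
      ∀ g : Module.End K V, Commute g f → g ^ r = 1 → ∃ i : ℕ, g = f ^ i := by
  classical
  have hrp : r.Prime := Fact.out
  letI : Fintype K := Fintype.ofFinite K
  rw [Nat.card_eq_fintype_card] at hord
  have : FiniteDimensional K V := Module.Finite.of_finite
  have hfr' : Module.finrank K V = n := by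
    have h := Module.natCard_eq_pow_finrank (K := K) (V := V)
    rw [hV] at h
    exact (Nat.pow_right_injective (by rw [Nat.card_eq_fintype_card]; exact Fintype.one_lt_card) h).symm
  obtain ⟨hirr, hdeg⟩ := Arith.irreducible_minpoly_of_primitive hn hord hf1 hfr (by
    rw [← hfr', ← LinearMap.charpoly_natDegree f]
    exact natDegree_le_of_dvd (LinearMap.minpoly_dvd_charpoly f) f.charpoly_monic.ne_zero)
  have hpoly : ∀ g : Module.End K V, Commute g f → ∃ P : K[X], g = aeval f P := fun g hg =>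
    Arith.exists_aeval_eq_of_commute hirr (hdeg.trans hfr'.symm) hg
  refine ⟨fun g h hg hh => ?_, fun g hg hgr => ?_⟩
  · obtain ⟨P, rfl⟩ := hpoly g hg
    obtain ⟨Q, rfl⟩ := hpoly h hh
    rw [← map_mul, ← map_mul, mul_comm]
  · obtain ⟨P, rfl⟩ := hpoly g hg
    have : Fact (Irreducible (minpoly K f)) := ⟨hirr⟩
    set μ := minpoly K f
    set ζ := AdjoinRoot.root μ
    have hζr : ζ ^ r = 1 := by
      have h : μ ∣ X ^ r - 1 := minpoly.dvd K f (by simp [hfr])
      simpa [sub_eq_zero] using AdjoinRoot.mk_eq_zero.mpr h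
    have hζ1 : ζ ≠ 1 := by
      intro h
      have h' : AdjoinRoot.mk μ (X - 1) = 0 := by simp [ζ] at h ⊢; simp [h]
      exact hf1 (by simpa [sub_eq_zero] using minpoly.dvd_iff.mp (AdjoinRoot.mk_eq_zero.mp h'))
    have hprim : IsPrimitiveRoot ζ r :=
      IsPrimitiveRoot.iff_orderOf.mpr (orderOf_eq_prime hζr hζ1)
    have : NeZero r := ⟨hrp.ne_zero⟩
    have hPr : (AdjoinRoot.mk μ P) ^ r = 1 := by
      have h : μ ∣ P ^ r - 1 := minpoly.dvd K f (by simp [hgr])
      simpa [sub_eq_zero] using AdjoinRoot.mk_eq_zero.mpr h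
    obtain ⟨i, -, hi⟩ := hprim.eq_pow_of_pow_eq_one hPr
    refine ⟨i, ?_⟩
    have h' : AdjoinRoot.mk μ (P - X ^ i) = 0 := by
      rw [map_sub, map_pow, AdjoinRoot.mk_X, sub_eq_zero]
      exact hi.symm
    have := minpoly.dvd_iff.mp (AdjoinRoot.mk_eq_zero.mp h')
    rwa [map_sub, sub_eq_zero, map_pow, aeval_X] at this

/-- An automorphism of prime order `r` of a finite extension of degree less than `r` is trivial. -/
theorem algHom_eq_one {K L : Type*} [Field K] [Field L] [Algebra K L] [FiniteDimensional K L]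
    {r : ℕ} [Fact r.Prime] (σ : L →ₐ[K] L) (hσ : σ ^ r = 1) (hdim : Module.finrank K L < r) :
    σ = 1 := by
  classical
  rcases (Nat.dvd_prime (Fact.out : r.Prime)).mp (orderOf_dvd_of_pow_eq_one hσ) with h | h
  · exact orderOf_eq_one_iff.mp h
  · exfalso
    have hinj : Function.Injective (fun i : Fin (orderOf σ) => σ ^ (i : ℕ)) := fun a b hab =>
      Fin.ext (pow_injOn_Iio_orderOf a.2 b.2 hab)
    have := Finite.card_le_of_injective' (f := fun i : Fin (orderOf σ) => σ ^ (i : ℕ)) hinj
      (fun h0 => absurd h0 Nat.card_pos.ne')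
    have h2 := (this.trans (card_algHom_le_finrank K L L))
    rw [Nat.card_eq_fintype_card, Fintype.card_fin, h] at h2
    omega

variable {p : ℕ} [Fact p.Prime] {V : Type*} [AddCommGroup V] [Module (ZMod p) V] [Finite V]
  [Nontrivial V] {G : Type*} [Group G] [Finite G] {ρ : G →* (V ≃ₗ[ZMod p] V)}
  (hρ : Function.Injective ρ) (htr : IsTrans ρ) {A₀ : Subgroup G} (hA₀n : A₀.Normal)
  (hA₀ : ∀ a ∈ A₀, ∀ b ∈ A₀, a * b = b * a)

omit [Nontrivial V] [Finite G] in
/-- An element centralising `A₀` is linear over the span of `A₀`. -/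
theorem exists_linear {g : G} (hg : g ∈ Subgroup.centralizer (A₀ : Set G)) :
    ∃ f : Module.End (spanOp ρ A₀) V, ∀ v, f v = ρ g v :=
  ⟨{ toFun := fun v => ρ g v
     map_add' := map_add (ρ g)
     map_smul' := fun k v => by
      have h := commute_span ρ (g := g)
        (fun a ha => ((Subgroup.mem_centralizer_iff.mp hg) a ha).symm) k.2
      exact LinearMap.congr_fun h v }, fun v => rfl⟩

include hρ htr hA₀n hA₀

/-- Facts on the centraliser, inside `C(A₀)`, of an element of primitive prime order. -/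
theorem centralizer_facts {r n : ℕ} [Fact r.Prime] (hn : 0 < n)
    (hord : orderOf ((Nat.card (spanOp ρ A₀) : ℕ) : ZMod r) = n)
    (hV : Nat.card V = Nat.card (spanOp ρ A₀) ^ n)
    {y : G} (hy : y ∈ Subgroup.centralizer (A₀ : Set G)) (hyo : orderOf y = r) :
    (∀ g ∈ Subgroup.centralizer (A₀ : Set G), ∀ h ∈ Subgroup.centralizer (A₀ : Set G),
      g * y = y * g → h * y = y * h → g * h = h * g) ∧
    ∀ g ∈ Subgroup.centralizer (A₀ : Set G), g * y = y * g → g ^ r = 1 →
      g ∈ Subgroup.zpowers y := by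
  choose F hF using fun g : Subgroup.centralizer (A₀ : Set G) => exists_linear (ρ := ρ) g.2
  have hmul : ∀ a b, F (a * b) = F a * F b := fun a b => LinearMap.ext fun v => by
    rw [hF, Subgroup.coe_mul, map_mul, Module.End.mul_apply, hF, hF]; rfl
  have hone : F 1 = 1 := LinearMap.ext fun v => by rw [hF, OneMemClass.coe_one, map_one]; rfl
  have hpow : ∀ a, ∀ k : ℕ, F (a ^ k) = F a ^ k := fun a k => by
    induction k with
    | zero => rw [pow_zero, pow_zero, hone]
    | succ k ih => rw [pow_succ, hmul, ih, pow_succ]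
  have hinj : Function.Injective F := fun a b hab => Subtype.ext (hρ (LinearEquiv.ext fun v => by
    rw [← hF, ← hF, hab]))
  set y' : Subgroup.centralizer (A₀ : Set G) := ⟨y, hy⟩ with hy'
  letI : Field (spanOp ρ A₀) := (span_isField htr hA₀n hA₀).toField
  obtain ⟨h1, h2⟩ := commutant_facts (K := spanOp ρ A₀) (V := V) hn hord hV (f := F y')
    (fun h => by
      have : y' = 1 := hinj (h.trans hone.symm)
      have : y = 1 := congrArg Subtype.val this
      simp [this, (Fact.out : r.Prime).ne_one.symm] at hyo)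
    (by
      rw [← hpow, ← hone]
      refine congrArg F (Subtype.ext ?_)
      rw [SubmonoidClass.coe_pow, ← hyo, pow_orderOf_eq_one, OneMemClass.coe_one])
  have hcomm : ∀ g : Subgroup.centralizer (A₀ : Set G), (g : G) * y = y * g →
      Commute (F g) (F y') := fun g hg => by
    show F g * F y' = F y' * F g
    rw [← hmul, ← hmul]
    exact congrArg F (Subtype.ext hg)
  refine ⟨fun g hg h hh hgy hhy => ?_, fun g hg hgy hgr => ?_⟩
  · have := h1 _ _ (hcomm ⟨g, hg⟩ hgy) (hcomm ⟨h, hh⟩ hhy)
    rw [← hmul, ← hmul] at this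
    exact congrArg Subtype.val (hinj this)
  · obtain ⟨i, hi⟩ := h2 _ (hcomm ⟨g, hg⟩ hgy) (by
      rw [← hpow, ← hone]
      exact congrArg F (Subtype.ext hgr))
    rw [← hpow] at hi
    have : g = y ^ i := congrArg Subtype.val (hinj hi)
    exact this ▸ Subgroup.pow_mem _ (Subgroup.mem_zpowers y) i

omit hρ in
/-- The span of a larger abelian normal subgroup is an extension field. -/
theorem card_span_eq_pow {B : Subgroup G} (hBn : B.Normal) (hB : ∀ a ∈ B, ∀ b ∈ B, a * b = b * a)
    (hle : A₀ ≤ B) :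
    ∃ j, 0 < j ∧ Nat.card (spanOp ρ B) = Nat.card (spanOp ρ A₀) ^ j := by
  letI : Field (spanOp ρ A₀) := (span_isField htr hA₀n hA₀).toField
  letI : Field (spanOp ρ B) := (span_isField htr hBn hB).toField
  letI : Algebra (spanOp ρ A₀) (spanOp ρ B) :=
    (Subalgebra.inclusion (spanOp_mono ρ hle)).toRingHom.toAlgebra
  have : FiniteDimensional (spanOp ρ A₀) (spanOp ρ B) := Module.Finite.of_finite
  exact ⟨_, Module.finrank_pos, Module.natCard_eq_pow_finrank (K := spanOp ρ A₀) (V := spanOp ρ B)⟩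

/-- An element of primitive prime order centralises every abelian normal subgroup in `C(A₀)`. -/
theorem commute_of_abelian_normal {r n : ℕ} [Fact r.Prime] (hn : 0 < n)
    (hord : orderOf ((Nat.card (spanOp ρ A₀) : ℕ) : ZMod r) = n)
    (hV : Nat.card V = Nat.card (spanOp ρ A₀) ^ n)
    {x : G} (hx : x ∈ Subgroup.centralizer (A₀ : Set G)) (hxo : orderOf x = r)
    {A : Subgroup G} (hAn : A.Normal) (hA : ∀ a ∈ A, ∀ b ∈ A, a * b = b * a)
    (hAC : A ≤ Subgroup.centralizer (A₀ : Set G)) :
    ∀ a ∈ A, x * a = a * x := by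
  set B := A ⊔ A₀ with hBdef
  have hBn : B.Normal := Subgroup.sup_normal A A₀
  have hB : ∀ a ∈ B, ∀ b ∈ B, a * b = b * a := by
    have hc : IsMulCommutative B := by
      have h : B ≤ Subgroup.centralizer (B : Set G) := by
        rw [hBdef, sup_le_iff, Subgroup.le_centralizer_iff, Subgroup.le_centralizer_iff (H := A₀)]
        refine ⟨?_, ?_⟩ <;> rw [sup_le_iff] <;> refine ⟨?_, ?_⟩
        · exact fun a ha => Subgroup.mem_centralizer_iff.mpr fun b hb => hA b hb a ha
        · exact Subgroup.le_centralizer_iff.mp hAC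
        · exact hAC
        · exact fun a ha => Subgroup.mem_centralizer_iff.mpr fun b hb => hA₀ b hb a ha
      exact ⟨⟨fun a b => Subtype.ext (Subgroup.mem_centralizer_iff.mp (h b.2) a a.2)⟩⟩
    exact fun a ha b hb => congrArg Subtype.val (hc.is_comm.comm ⟨a, ha⟩ ⟨b, hb⟩)
  obtain ⟨j, hj0, hj⟩ := card_span_eq_pow htr hA₀n hA₀ hBn hB le_sup_right
  have hjn : j ≤ n := by
    have h := card_span_le htr hBn hB
    rw [hj, hV] at h
    refine (Nat.pow_le_pow_iff_right ?_).mp h
    by_contra hcon
    have h1 : Nat.card (spanOp ρ A₀) = 1 := le_antisymm (by omega) Nat.card_pos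
    rw [h1, one_pow] at hV
    exact (Finite.one_lt_card (α := V)).ne' hV
  have hnr : n < r := Arith.lt_of_orderOf_eq hn hord
  letI : Field (spanOp ρ A₀) := (span_isField htr hA₀n hA₀).toField
  letI : Field (spanOp ρ B) := (span_isField htr hBn hB).toField
  letI : Algebra (spanOp ρ A₀) (spanOp ρ B) :=
    (Subalgebra.inclusion (spanOp_mono ρ le_sup_right)).toRingHom.toAlgebra
  have : FiniteDimensional (spanOp ρ A₀) (spanOp ρ B) := Module.Finite.of_finite
  have hxA₀ : ∀ a ∈ A₀, x * a = a * x := fun a ha =>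
    (Subgroup.mem_centralizer_iff.mp hx a ha).symm
  let σ : spanOp ρ B →ₐ[spanOp ρ A₀] spanOp ρ B :=
    { toFun := fun k => ⟨op ρ x * k * op ρ x⁻¹,
        conj_mem_span ρ (fun a ha => hBn.conj_mem a ha x) k.2⟩
      map_one' := Subtype.ext (by
        show op ρ x * 1 * op ρ x⁻¹ = 1
        rw [mul_one, op_mul_inv])
      map_zero' := Subtype.ext (by
        show op ρ x * 0 * op ρ x⁻¹ = 0
        rw [mul_zero, zero_mul])
      map_mul' := fun a b => Subtype.ext (by
        show op ρ x * ((a : Module.End (ZMod p) V) * b) * op ρ x⁻¹ = _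
        show _ = op ρ x * a * op ρ x⁻¹ * (op ρ x * b * op ρ x⁻¹)
        rw [mul_assoc (op ρ x * a) (op ρ x⁻¹), ← mul_assoc (op ρ x⁻¹), ← mul_assoc (op ρ x⁻¹) (op ρ x),
          op_inv_mul, one_mul]
        simp [mul_assoc])
      map_add' := fun a b => Subtype.ext (by
        show op ρ x * ((a : Module.End (ZMod p) V) + b) * op ρ x⁻¹ = _
        rw [mul_add, add_mul]
        rfl)
      commutes' := fun k => Subtype.ext (by
        show op ρ x * (k : Module.End (ZMod p) V) * op ρ x⁻¹ = k
        rw [commute_span ρ hxA₀ k.2, mul_assoc, op_mul_inv, mul_one]) }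
  have hpow : ∀ (i : ℕ) k, (((σ ^ i) k : spanOp ρ B) : Module.End (ZMod p) V) =
      op ρ (x ^ i) * k * op ρ (x ^ i)⁻¹ := by
    intro i
    induction i with
    | zero => intro k; simp
    | succ i ih =>
      intro k
      rw [pow_succ' σ, AlgHom.mul_apply]
      show op ρ x * (((σ ^ i) k : spanOp ρ B) : Module.End (ZMod p) V) * op ρ x⁻¹ = _
      rw [ih k, pow_succ', mul_inv_rev, map_mul, map_mul]
      simp [mul_assoc]
  have hσ : σ ^ r = 1 := AlgHom.ext fun k => Subtype.ext (by
    rw [hpow, ← hxo, pow_orderOf_eq_one, inv_one, map_one, one_mul, mul_one]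
    rfl)
  have hdim : Module.finrank (spanOp ρ A₀) (spanOp ρ B) < r := by
    have h := Module.natCard_eq_pow_finrank (K := spanOp ρ A₀) (V := spanOp ρ B)
    have : Module.finrank (spanOp ρ A₀) (spanOp ρ B) = j := by
      refine Nat.pow_right_injective ?_ (h.symm.trans hj)
      exact Finite.one_lt_card
    omega
  intro a ha
  have h := AlgHom.congr_fun (algHom_eq_one σ hσ hdim) ⟨op ρ a, op_mem_span ρ (Subgroup.mem_sup_left ha)⟩
  have h' : op ρ x * op ρ a * op ρ x⁻¹ = op ρ a := congrArg Subtype.val h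
  rw [← map_mul, ← map_mul] at h'
  exact mul_inv_eq_iff_eq_mul.mp (op_injective ρ hρ h')

/-- If an element of primitive prime order lies in an abelian normal subgroup in `C(A₀)`, then
that subgroup together with `A₀` spans a field of the size of `V`. -/
theorem exists_good {r n : ℕ} [Fact r.Prime] (hn : 0 < n)
    (hord : orderOf ((Nat.card (spanOp ρ A₀) : ℕ) : ZMod r) = n)
    (hV : Nat.card V = Nat.card (spanOp ρ A₀) ^ n)
    {x : G} (hxo : orderOf x = r)
    {A : Subgroup G} (hAn : A.Normal) (hA : ∀ a ∈ A, ∀ b ∈ A, a * b = b * a)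
    (hAC : A ≤ Subgroup.centralizer (A₀ : Set G)) (hxA : x ∈ A) :
    ∃ B : Subgroup G, B.Normal ∧ (∀ a ∈ B, ∀ b ∈ B, a * b = b * a) ∧
      Nat.card (spanOp ρ B) = Nat.card V := by
  set B := A ⊔ A₀ with hBdef
  have hBn : B.Normal := Subgroup.sup_normal A A₀
  have hB : ∀ a ∈ B, ∀ b ∈ B, a * b = b * a := by
    have h : B ≤ Subgroup.centralizer (B : Set G) := by
      rw [hBdef, sup_le_iff, Subgroup.le_centralizer_iff, Subgroup.le_centralizer_iff (H := A₀)]
      refine ⟨?_, ?_⟩ <;> rw [sup_le_iff] <;> refine ⟨?_, ?_⟩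
      · exact fun a ha => Subgroup.mem_centralizer_iff.mpr fun b hb => hA b hb a ha
      · exact Subgroup.le_centralizer_iff.mp hAC
      · exact hAC
      · exact fun a ha => Subgroup.mem_centralizer_iff.mpr fun b hb => hA₀ b hb a ha
    exact fun a ha b hb => Subgroup.mem_centralizer_iff.mp (h hb) a ha
  refine ⟨B, hBn, hB, le_antisymm (card_span_le htr hBn hB) ?_⟩
  obtain ⟨j, hj0, hj⟩ := card_span_eq_pow htr hA₀n hA₀ hBn hB le_sup_right
  rw [hj, hV]
  refine Nat.pow_le_pow_right Nat.card_pos (Nat.le_of_dvd hj0 ?_)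
  rw [← hord, ← Arith.dvd_pow_sub_one_iff_orderOf_dvd (a := Nat.card (spanOp ρ A₀)) Nat.card_pos j,
    ← hj, ← hxo]
  letI : Field (spanOp ρ B) := (span_isField htr hBn hB).toField
  letI : Fintype (spanOp ρ B) := Fintype.ofFinite _
  let k : spanOp ρ B := ⟨op ρ x, op_mem_span ρ (Subgroup.mem_sup_left hxA)⟩
  have hko : orderOf k = orderOf x := by
    have h1 : orderOf k = orderOf (k : Module.End (ZMod p) V) :=
      (orderOf_injective ((spanOp ρ B).val.toRingHom.toMonoidHom) Subtype.val_injective k).symm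
    rw [h1]
    exact orderOf_injective (op ρ) (op_injective ρ hρ) x
  rw [← hko, Nat.card_eq_fintype_card]
  refine orderOf_dvd_of_pow_eq_one (FiniteField.pow_card_sub_one_eq_one k ?_)
  intro h0
  have h0' : op ρ x = 0 := congrArg Subtype.val h0
  have := op_mul_inv ρ x
  rw [h0', zero_mul] at this
  obtain ⟨v, hv⟩ := exists_ne (0 : V)
  exact hv (LinearMap.congr_fun this v).symm

end Cfsg.Agent.Recog.TransLin
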