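import Mathlib

/-!
# Linear groups transitive on non-zero vectors: abelian normal subgroups span fields
-/

namespace Cfsg.Agent.Recog.TransLin

variable {p : ℕ} [Fact p.Prime] {V : Type*} [AddCommGroup V] [Module (ZMod p) V] [Finite V]
  {G : Type*} [Group G]

/-- The representation as endomorphisms. -/
def op (ρ : G →* (V ≃ₗ[ZMod p] V)) : G →* Module.End (ZMod p) V where
  toFun g := (ρ g).toLinearMap
  map_one' := by rw [map_one]; rfl
  map_mul' g h := by rw [map_mul]; rfl

variable (ρ : G →* (V ≃ₗ[ZMod p] V))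

theorem op_apply (g : G) (v : V) : op ρ g v = ρ g v := rfl

theorem op_injective (hρ : Function.Injective ρ) : Function.Injective (op ρ) :=
  fun _ _ h => hρ (LinearEquiv.toLinearMap_injective h)

theorem op_mul_inv (g : G) : op ρ g * op ρ g⁻¹ = 1 := by rw [← map_mul, mul_inv_cancel, map_one]

theorem op_inv_mul (g : G) : op ρ g⁻¹ * op ρ g = 1 := by rw [← map_mul, inv_mul_cancel, map_one]

/-- Transitivity on the non-zero vectors. -/
def IsTrans : Prop := ∀ v w : V, v ≠ 0 → w ≠ 0 → ∃ g : G, ρ g v = w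

/-- The algebra spanned by a subgroup. -/
def spanOp (A : Subgroup G) : Subalgebra (ZMod p) (Module.End (ZMod p) V) :=
  Algebra.adjoin (ZMod p) (op ρ '' (A : Set G))

theorem op_mem_span {A : Subgroup G} {a : G} (ha : a ∈ A) : op ρ a ∈ spanOp ρ A :=
  Algebra.subset_adjoin ⟨a, ha, rfl⟩

theorem spanOp_mono {A B : Subgroup G} (h : A ≤ B) : spanOp ρ A ≤ spanOp ρ B :=
  Algebra.adjoin_mono (Set.image_mono h)

/-- An element commuting with a subgroup commutes with its span. -/
theorem commute_span {A : Subgroup G} {g : G} (hg : ∀ a ∈ A, g * a = a * g)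
    {k : Module.End (ZMod p) V} (hk : k ∈ spanOp ρ A) : op ρ g * k = k * op ρ g := by
  induction hk using Algebra.adjoin_induction with
  | mem x hx =>
    obtain ⟨a, ha, rfl⟩ := hx
    rw [← map_mul, ← map_mul, hg a ha]
  | algebraMap r => exact (Algebra.commutes r _).symm
  | add x y _ _ hx hy => rw [mul_add, add_mul, hx, hy]
  | mul x y _ _ hx hy => rw [← mul_assoc, hx, mul_assoc, hy, mul_assoc]

theorem span_comm {A : Subgroup G} (hA : ∀ a ∈ A, ∀ b ∈ A, a * b = b * a)
    {k l : Module.End (ZMod p) V} (hk : k ∈ spanOp ρ A) (hl : l ∈ spanOp ρ A) :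
    k * l = l * k := by
  induction hk using Algebra.adjoin_induction with
  | mem x hx =>
    obtain ⟨a, ha, rfl⟩ := hx
    exact commute_span ρ (hA a ha) hl
  | algebraMap r => exact Algebra.commutes r _
  | add x y _ _ hx hy => rw [mul_add, add_mul, hx, hy]
  | mul x y _ _ hx hy => rw [mul_assoc, hy, ← mul_assoc, hx, mul_assoc]

/-- The span is invariant under conjugation by elements normalising the subgroup. -/
theorem conj_mem_span {A : Subgroup G} {g : G} (hg : ∀ a ∈ A, g * a * g⁻¹ ∈ A)
    {k : Module.End (ZMod p) V} (hk : k ∈ spanOp ρ A) :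
    op ρ g * k * op ρ g⁻¹ ∈ spanOp ρ A := by
  induction hk using Algebra.adjoin_induction with
  | mem x hx =>
    obtain ⟨a, ha, rfl⟩ := hx
    rw [← map_mul, ← map_mul]
    exact op_mem_span ρ (hg a ha)
  | algebraMap r =>
    rw [← Algebra.commutes r (op ρ g), mul_assoc, op_mul_inv, mul_one]
    exact Subalgebra.algebraMap_mem _ r
  | add x y _ _ hx hy =>
    rw [mul_add, add_mul]
    exact Subalgebra.add_mem _ hx hy
  | mul x y _ _ hx hy =>
    have : op ρ g * (x * y) * op ρ g⁻¹ =
        (op ρ g * x * op ρ g⁻¹) * (op ρ g * y * op ρ g⁻¹) := by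
      rw [mul_assoc (op ρ g * x) (op ρ g⁻¹), ← mul_assoc (op ρ g⁻¹), ← mul_assoc (op ρ g⁻¹) (op ρ g),
        op_inv_mul, one_mul]
      simp [mul_assoc]
    rw [this]
    exact Subalgebra.mul_mem _ hx hy

variable [Finite G]

instance finite_end : Finite (Module.End (ZMod p) V) :=
  Finite.of_injective (fun f : Module.End (ZMod p) V => (f : V → V)) DFunLike.coe_injective

/-- **Key lemma.** In a transitive linear group the span of an abelian normal subgroup acts
fixed-point-freely. -/
theorem span_apply_eq_zero (htr : IsTrans ρ) {A : Subgroup G} (hAn : A.Normal)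
    (hA : ∀ a ∈ A, ∀ b ∈ A, a * b = b * a) {k : Module.End (ZMod p) V} (hk : k ∈ spanOp ρ A)
    {v : V} (hkv : k v = 0) (hv : v ≠ 0) : k = 0 := by
  classical
  let I : V → Set (Module.End (ZMod p) V) := fun u => {m | m ∈ spanOp ρ A ∧ m u = 0}
  -- all annihilators have the same size
  have hle : ∀ u u' : V, u ≠ 0 → u' ≠ 0 → (I u).ncard ≤ (I u').ncard := by
    intro u u' hu hu'
    obtain ⟨g, hg⟩ := htr u u' hu hu'
    refine Set.ncard_le_ncard_of_injOn (fun m => op ρ g * m * op ρ g⁻¹) ?_ ?_ (Set.toFinite _)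
    · intro m hm
      refine ⟨conj_mem_span ρ (fun a ha => hAn.conj_mem a ha g) hm.1, ?_⟩
      rw [Module.End.mul_apply, Module.End.mul_apply, ← hg, ← op_apply, ← Module.End.mul_apply
        (op ρ g⁻¹), op_inv_mul, Module.End.one_apply, hm.2, map_zero]
    · intro a _ b _ hab
      have h := congrArg (fun m => op ρ g⁻¹ * m * op ρ g) hab
      simpa [mul_assoc, op_inv_mul, ← mul_assoc (op ρ g⁻¹) (op ρ g)] using h
  by_contra hk0
  obtain ⟨w, hw⟩ : ∃ w, k w ≠ 0 := by
    by_contra hc
    push Not at hc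
    exact hk0 (LinearMap.ext fun w => by simpa using hc w)
  have hw0 : w ≠ 0 := fun h => hw (by rw [h, map_zero])
  set u := v + w with hu
  have hku : k u = k w := by rw [hu, map_add, hkv, zero_add]
  have hu0 : u ≠ 0 := fun h => hw (by rw [← hku, h, map_zero])
  -- some `i` in the annihilator of `v` moves `w`
  obtain ⟨y, i, hi, hy, hy0⟩ : ∃ y i, i ∈ I v ∧ i w = y ∧ y ≠ 0 := ⟨_, k, ⟨hk, hkv⟩, rfl, hw⟩
  have hiu : i u = y := by rw [hu, map_add, hi.2, zero_add, hy]
  have hann : ∀ x : V, i x = y → I x = I y := by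
    intro x hx
    have hx0 : x ≠ 0 := fun h => hy0 (by rw [← hx, h, map_zero])
    refine Set.eq_of_subset_of_ncard_le (fun j hj => ⟨hj.1, ?_⟩) (hle y x hy0 hx0) (Set.toFinite _)
    rw [← hx, ← Module.End.mul_apply, span_comm ρ hA hj.1 hi.1, Module.End.mul_apply, hj.2,
      map_zero]
  have hsub : I w ⊆ I v := by
    intro j hj
    have hju : j ∈ I u := by rw [hann u hiu, ← hann w hy]; exact hj
    refine ⟨hj.1, ?_⟩
    have h := hju.2
    rwa [hu, map_add, hj.2, add_zero] at h
  have heq : I w = I v := Set.eq_of_subset_of_ncard_le hsub (hle v w hv hw0) (Set.toFinite _)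
  have : k ∈ I w := heq.symm ▸ (⟨hk, hkv⟩ : k ∈ I v)
  exact hw this.2

section
variable {ρ}
variable (htr : IsTrans ρ) {A : Subgroup G} (hAn : A.Normal)
  (hA : ∀ a ∈ A, ∀ b ∈ A, a * b = b * a) [Nontrivial V]

include htr hAn hA

theorem span_isField : IsField (spanOp ρ A) := by
  refine ⟨⟨0, 1, fun h => ?_⟩, fun a b => Subtype.ext (span_comm ρ hA a.2 b.2), ?_⟩
  · obtain ⟨v, hv⟩ := exists_ne (0 : V)
    exact hv (by simpa using (LinearMap.congr_fun (congrArg Subtype.val h) v).symm)
  · intro a ha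
    have hinj : Function.Injective (fun b : spanOp ρ A => a * b) := by
      intro b c hbc
      refine Subtype.ext (LinearMap.ext fun v => ?_)
      have h : (a : Module.End (ZMod p) V) ((b : Module.End (ZMod p) V) v - (c : Module.End (ZMod p) V) v) = 0 := by
        rw [map_sub, sub_eq_zero]
        exact LinearMap.congr_fun (congrArg Subtype.val hbc) v
      by_contra hne
      exact ha (Subtype.ext (span_apply_eq_zero ρ htr hAn hA a.2 h (sub_ne_zero.mpr hne)))
    exact (Finite.surjective_of_injective hinj) 1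

omit [Finite G] in
theorem span_eval_injective [Finite G] {v : V} (hv : v ≠ 0) :
    Function.Injective (fun k : spanOp ρ A => (k : Module.End (ZMod p) V) v) := by
  intro b c hbc
  refine Subtype.ext (sub_eq_zero.mp (span_apply_eq_zero ρ htr hAn hA
    (Subalgebra.sub_mem _ b.2 c.2) (v := v) ?_ hv))
  rw [LinearMap.sub_apply, sub_eq_zero]
  exact hbc

theorem card_span_le : Nat.card (spanOp ρ A) ≤ Nat.card V := by
  obtain ⟨v, hv⟩ := exists_ne (0 : V)
  exact Nat.card_le_card_of_injective _ (span_eval_injective htr hAn hA hv)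

/-- An abelian normal subgroup of a faithful transitive linear group is cyclic. -/
theorem isCyclic_of_normal (hρ : Function.Injective ρ) : IsCyclic A := by
  letI : Field (spanOp ρ A) := (span_isField htr hAn hA).toField
  refine isCyclic_of_injective_ringHom
    ({ toFun := fun a => ⟨op ρ a, op_mem_span ρ a.2⟩
       map_one' := Subtype.ext (map_one (op ρ))
       map_mul' := fun a b => Subtype.ext (map_mul (op ρ) (a : G) (b : G)) } : A →* spanOp ρ A) ?_
  intro a b hab
  exact Subtype.ext (op_injective ρ hρ (congrArg Subtype.val hab))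

end

/-- A normal subgroup fixing a non-zero vector is trivial. -/
theorem eq_bot_of_fix (hρ : Function.Injective ρ) (htr : IsTrans ρ) {N : Subgroup G}
    (hN : N.Normal) {v : V} (hv : v ≠ 0) (hfix : ∀ n ∈ N, ρ n v = v) : N = ⊥ := by
  rw [Subgroup.eq_bot_iff_forall]
  intro n hn
  refine hρ (LinearEquiv.ext fun w => ?_)
  rw [map_one]
  show ρ n w = w
  by_cases hw : w = 0
  · rw [hw, map_zero]
  · obtain ⟨g, rfl⟩ := htr v w hv hw
    have h := hfix (g⁻¹ * n * g) (by simpa using hN.conj_mem n hn g⁻¹)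
    rw [map_mul, map_mul, LinearEquiv.mul_apply, LinearEquiv.mul_apply] at h
    have := congrArg (ρ g) h
    rwa [← LinearEquiv.mul_apply (ρ g), ← map_mul, mul_inv_cancel, map_one] at this

theorem exists_card_eq_pow : ∃ n : ℕ, Nat.card V = p ^ n :=
  ⟨_, (Module.natCard_eq_pow_finrank (K := ZMod p)).trans (by rw [Nat.card_zmod])⟩

/-- Normal `p`-subgroups are trivial. -/
theorem eq_bot_of_isPGroup [Nontrivial V] (hρ : Function.Injective ρ) (htr : IsTrans ρ) {N : Subgroup G}
    (hN : N.Normal) (hp : IsPGroup p N) : N = ⊥ := by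
  let act : MulAction N V := MulAction.compHom V (ρ.comp N.subtype)
  have hd : p ∣ Nat.card V := by
    obtain ⟨n, hn⟩ := exists_card_eq_pow (p := p) (V := V)
    rcases Nat.eq_zero_or_pos n with rfl | hn0
    · exact absurd hn (by simp [(Finite.one_lt_card (α := V)).ne'])
    · exact hn ▸ dvd_pow_self p hn0.ne'
  obtain ⟨v, hv, hne⟩ := hp.exists_fixed_point_of_prime_dvd_card_of_fixed_point V hd
    (a := 0) (MulAction.mem_fixedPoints.mpr fun g => map_zero (ρ (g : G)))
  exact eq_bot_of_fix ρ hρ htr hN hne.symm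
    fun n hn => MulAction.mem_fixedPoints.mp hv ⟨n, hn⟩

theorem exists_galoisField_equiv {R : Type*} [Ring R] [Finite R] (hR : IsField R) {n : ℕ}
    (hn : n ≠ 0) (hcard : Nat.card R = p ^ n) : Nonempty (R ≃+* GaloisField p n) := by
  classical
  letI : Field R := hR.toField
  have : Fintype R := Fintype.ofFinite R
  have : Fintype (GaloisField p n) := Fintype.ofFinite _
  refine ⟨FiniteField.ringEquivOfCardEq (K := R) (K' := GaloisField p n) ?_⟩
  rw [← Nat.card_eq_fintype_card, ← Nat.card_eq_fintype_card, hcard, GaloisField.card p n hn]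

/-- If the span of an abelian normal subgroup has as many elements as `V`, the group is
semilinear in dimension one over that field. -/
theorem exists_semilinear [Nontrivial V] (htr : IsTrans ρ) {A : Subgroup G} (hAn : A.Normal)
    (hA : ∀ a ∈ A, ∀ b ∈ A, a * b = b * a) (hcard : Nat.card (spanOp ρ A) = Nat.card V) :
    ∃ (F : Type) (_ : Field F) (_ : Fintype F) (e : V ≃+ F),
      ∀ g : G, ∃ (a : F) (σ : F ≃+* F), ∀ v : V, e (ρ g v) = a * σ (e v) := by
  classical
  obtain ⟨n, hn⟩ := exists_card_eq_pow (p := p) (V := V)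
  have hn0 : n ≠ 0 := by
    rintro rfl
    exact absurd hn (by simp [(Finite.one_lt_card (α := V)).ne'])
  set K := spanOp ρ A with hK
  obtain ⟨v₀, hv₀⟩ := exists_ne (0 : V)
  have hbij : Function.Bijective (fun k : K => (k : Module.End (ZMod p) V) v₀) :=
    (span_eval_injective htr hAn hA hv₀).bijective_of_nat_card_le hcard.ge
  let ev : K ≃+ V := AddEquiv.ofBijective
    ({ toFun := fun k => (k : Module.End (ZMod p) V) v₀
       map_zero' := rfl
       map_add' := fun _ _ => rfl } : K →+ V) hbij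
  have : Finite K := Finite.of_injective _ hbij.injective
  obtain ⟨iso⟩ : Nonempty (K ≃+* GaloisField p n) :=
    exists_galoisField_equiv (span_isField htr hAn hA) hn0 (hcard.trans hn)
  refine ⟨GaloisField p n, inferInstance, Fintype.ofFinite _, ev.symm.trans iso.toAddEquiv,
    fun g => ?_⟩
  let σ : K ≃+* K :=
    { toFun := fun k => ⟨op ρ g * k * op ρ g⁻¹, conj_mem_span ρ (fun a ha => hAn.conj_mem a ha g) k.2⟩
      invFun := fun k => ⟨op ρ g⁻¹ * k * op ρ g, by
        simpa using conj_mem_span ρ (fun a ha => hAn.conj_mem a ha g⁻¹) k.2⟩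
      left_inv := fun k => Subtype.ext (by
        show op ρ g⁻¹ * (op ρ g * k * op ρ g⁻¹) * op ρ g = k
        simp [← mul_assoc, op_inv_mul]; simp [mul_assoc, op_inv_mul])
      right_inv := fun k => Subtype.ext (by
        show op ρ g * (op ρ g⁻¹ * k * op ρ g) * op ρ g⁻¹ = k
        simp [← mul_assoc, op_mul_inv]; simp [mul_assoc, op_mul_inv])
      map_mul' := fun a b => Subtype.ext (by
        show op ρ g * ((a : Module.End (ZMod p) V) * b) * op ρ g⁻¹ = _
        show _ = op ρ g * a * op ρ g⁻¹ * (op ρ g * b * op ρ g⁻¹)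
        rw [mul_assoc (op ρ g * a) (op ρ g⁻¹), ← mul_assoc (op ρ g⁻¹), ← mul_assoc (op ρ g⁻¹) (op ρ g),
          op_inv_mul, one_mul]
        simp [mul_assoc])
      map_add' := fun a b => Subtype.ext (by
        show op ρ g * ((a : Module.End (ZMod p) V) + b) * op ρ g⁻¹ = _
        rw [mul_add, add_mul]
        rfl) }
  refine ⟨iso (ev.symm (ρ g v₀)), iso.symm.trans (σ.trans iso), fun v => ?_⟩
  obtain ⟨k, rfl⟩ := ev.surjective v
  show iso (ev.symm (ρ g (ev k))) = iso (ev.symm (ρ g v₀)) * iso (σ (iso.symm (iso (ev.symm (ev k)))))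
  rw [iso.symm_apply_apply, ev.symm_apply_apply, ← map_mul]
  congr 1
  rw [AddEquiv.symm_apply_eq]
  set b := ev.symm (ρ g v₀) with hb
  have hbv : (b : Module.End (ZMod p) V) v₀ = ρ g v₀ := ev.apply_symm_apply _
  show ρ g ((k : Module.End (ZMod p) V) v₀) =
    ((b : Module.End (ZMod p) V) * (σ k : Module.End (ZMod p) V)) v₀
  have hc : (b : Module.End (ZMod p) V) * (σ k : Module.End (ZMod p) V) =
      (σ k : Module.End (ZMod p) V) * (b : Module.End (ZMod p) V) :=
    span_comm ρ hA b.2 (σ k).2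
  rw [hc, Module.End.mul_apply, hbv, ← op_apply, ← op_apply]
  show _ = (op ρ g * (k : Module.End (ZMod p) V) * op ρ g⁻¹) (op ρ g v₀)
  rw [← Module.End.mul_apply, ← Module.End.mul_apply, mul_assoc, op_inv_mul, mul_one]

end Cfsg.Agent.Recog.TransLin
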